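import Cfsg.Agent.Lib.Chev.Api

/-!
An evaluator of constant words in root elements modulo a characteristic, normalising after every
letter, for kernel checks of long words.
-/

set_option autoImplicit false

namespace CfsgLib.SmallRee

open Cfsg.Lie CfsgLib.Chev Matrix

/-- Reduce coefficients modulo `p` and drop zeros. -/
def redVec (p : ℕ) (V : List Term) : List Term :=
  ((merge V).map fun e => (⟨e.row, e.a, e.b, e.c % (p : ℤ)⟩ : Term)).filter fun e => !isZeroInt e.c

/-- Apply a word, normalising after each letter. -/
def applyMod (T : Data) (p : ℕ) : List Letter → List Term → List Term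
  | [], V => V
  | L :: w, V => redVec p (T.applyX L (applyMod T p w V))

/-- The two words agree modulo `p`. -/
def checkMod (T : Data) (p : ℕ) (W₁ W₂ : List Letter) : Bool :=
  W₁.all (fun L => Nat.blt L.r T.n) && W₂.all (fun L => Nat.blt L.r T.n) &&
    (List.range T.rowsN).all fun c =>
      (redVec p (applyMod T p W₁ (unitVec c) ++ negTerms (applyMod T p W₂ (unitVec c)))).isEmpty

variable {D : ChevalleyDatum} {F : Type*} [Field F] {p : ℕ} [CharP F p]

theorem evalV_map_mod (t u : F) : ∀ V : List Term,
    evalV D t u (V.map fun e => (⟨e.row, e.a, e.b, e.c % (p : ℤ)⟩ : Term)) = evalV D t u V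
  | [] => rfl
  | e :: V => by
    have h : ((e.c % (p : ℤ) : ℤ) : F) = (e.c : F) :=
      (CharP.intCast_eq_intCast F p).2 (Int.mod_modEq e.c p)
    simp only [List.map_cons, evalV_cons, evalV_map_mod t u V, h]

theorem evalV_filter_zero (t u : F) : ∀ V : List Term,
    evalV D t u (V.filter fun e => !isZeroInt e.c) = evalV D t u V
  | [] => rfl
  | e :: V => by
    cases h : isZeroInt e.c
    · rw [List.filter_cons_of_pos (by simp [h]), evalV_cons, evalV_cons, evalV_filter_zero t u V]
    · rw [List.filter_cons_of_neg (by simp [h]), evalV_cons, evalV_filter_zero t u V,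
        isZeroInt_iff.1 h]
      simp

theorem evalV_redVec (t u : F) (V : List Term) : evalV D t u (redVec p V) = evalV D t u V := by
  rw [redVec, evalV_filter_zero, evalV_map_mod, evalV_merge]

theorem evalV_applyMod {T : Data} (hv : T.Valid D) (t u : F) :
    ∀ {w : List Letter} (V : List Term), (∀ L ∈ w, L.r < T.n) →
      evalV D t u (applyMod T p w V) = D.wordMat F (evalW t u w) *ᵥ evalV D t u V
  | [], V, _ => by simp [applyMod, evalW, ChevalleyDatum.wordMat]
  | L :: w, V, h => by
    simp only [applyMod]
    rw [evalV_redVec, Data.evalV_applyX hv (h L (by simp)),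
      evalV_applyMod hv t u V fun L hL => h L (by simp [hL]), Matrix.mulVec_mulVec]
    simp [evalW, ChevalleyDatum.wordMat]

theorem wordMat_eq_of_checkMod {T : Data} (hv : T.Valid D) {W₁ W₂ : List Letter}
    (h : checkMod T p W₁ W₂ = true) :
    D.wordMat F (W₁.map fun L => (L.r, (L.c : F))) = D.wordMat F (W₂.map fun L => (L.r, (L.c : F))) := by
  simp only [checkMod, Bool.and_eq_true, List.all_eq_true, Nat.blt_eq, List.mem_range,
    List.isEmpty_iff] at h
  have he : ∀ W : List Letter, evalW (1 : F) 1 W = W.map fun L => (L.r, (L.c : F)) := fun W => by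
    simp [evalW, Letter.param]
  rw [← he, ← he]
  refine ext_unitFun fun c hc => ?_
  have h2 := congrArg (evalV D (1 : F) 1) (h.2 c (by rw [Data.rowsN, hv.hn, hv.hl]; exact hc))
  rw [evalV_redVec, evalV_append, evalV_negTerms, evalV_applyMod hv _ _ _ h.1.1,
    evalV_applyMod hv _ _ _ h.1.2, evalV_unitVec, evalV_nil, ← sub_eq_add_neg, sub_eq_zero] at h2
  exact h2

end CfsgLib.SmallRee
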