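import Cfsg.Agent.Lib.Twisted.TypeG2
import Cfsg.Agent.Lib.ChevStr.RankOne
import Cfsg.Agent.Lib.SmallRee.Char3Check
import Mathlib.FieldTheory.Perfect

/-!
The diagonal subgroup of a small Ree group: it consists of the elements `tau λ`, `λ ≠ 0`, acting on
the root subgroup of `b` by `λ` and on that of `a` by `λ^θ`; and the image of SL₂ attached to the
commuting roots `a + b`, `3 a + b`.
-/

set_option autoImplicit false

namespace CfsgLib.SmallRee

open Cfsg.Lie CfsgLib.ChevStr CfsgLib.Twisted Matrix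
open scoped MatrixGroups

variable (K : Type*) [Field K] (m : ℕ)

/-- The twisted group. -/
abbrev G1 : Subgroup (GL chevG2.Idx K) := twistedG2 K (3 ^ m)

/-- The character of a torus element at a root. -/
noncomputable def chr (c : Fin chevG2.rank → Kˣ) (s : ℕ) : Kˣ :=
  (coreG2 K).R.torusChar c ((coreG2 K).R.α s)

theorem cartan_vals :
    chevG2.cartan 0 7 = 2 ∧ chevG2.cartan 1 7 = -1 ∧ chevG2.cartan 0 6 = -3 ∧ chevG2.cartan 1 6 = 2 ∧
    chevG2.cartan 0 8 = -1 ∧ chevG2.cartan 1 8 = 1 ∧ chevG2.cartan 0 9 = 1 ∧ chevG2.cartan 1 9 = 0 ∧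
    chevG2.cartan 0 10 = 3 ∧ chevG2.cartan 1 10 = -1 ∧ chevG2.cartan 0 11 = 0 ∧ chevG2.cartan 1 11 = 1 := by
  decide +kernel

theorem chr_eq (c : Fin chevG2.rank → Kˣ) {s : ℕ} (hs : s < 12) :
    chr K c s = c ⟨0, by decide⟩ ^ chevG2.cartan 0 s * c ⟨1, by decide⟩ ^ chevG2.cartan 1 s := by
  rw [chr, (coreG2 K).R.torusChar_root c hs]
  exact Fin.prod_univ_two (fun k : Fin 2 => c k ^ chevG2.cartan k.val s)

theorem chr_vals (c : Fin chevG2.rank → Kˣ) :
    chr K c g2a = c ⟨0, by decide⟩ ^ 2 * (c ⟨1, by decide⟩)⁻¹ ∧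
    chr K c g2b = (c ⟨0, by decide⟩ ^ 3)⁻¹ * c ⟨1, by decide⟩ ^ 2 := by
  obtain ⟨h1, h2, h3, h4, -⟩ := cartan_vals
  refine ⟨?_, ?_⟩
  · rw [chr_eq K c (show g2a < 12 by decide), show g2a = 7 from rfl, h1, h2, _root_.zpow_neg_one, zpow_two, pow_two]
  · rw [chr_eq K c (show g2b < 12 by decide), show g2b = 6 from rfl, h3, h4, _root_.zpow_neg, zpow_two, pow_two]
    congr 2

theorem torus_conj (c : Fin chevG2.rank → Kˣ) {s : ℕ} (hs : s < 12) (t : K) :
    (coreG2 K).R.torus c * (coreG2 K).xGL s t * ((coreG2 K).R.torus c)⁻¹ =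
      (coreG2 K).xGL s ((chr K c s : K) * t) :=
  (coreG2 K).acts_torus c ⟨s, hs⟩ t

/-- The coordinates of `tau l`. -/
noncomputable def tauVec : Kˣ →* (Fin chevG2.rank → Kˣ) where
  toFun l := fun i => if i.val = 0 then (l ^ 3 ^ m) ^ 2 * l else (l ^ 3 ^ m) ^ 3 * l ^ 2
  map_one' := funext fun i => by simp
  map_mul' l l' := funext fun i => by
    by_cases h : i.val = 0 <;> simp only [h, if_true, if_false, Pi.mul_apply, mul_pow] <;> ac_rfl

/-- The diagonal element acting by `l` on the root `b` and by `l ^ θ` on the root `a`. -/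
noncomputable def tau : Kˣ →* GL chevG2.Idx K := ((coreG2 K).R.torus).comp (tauVec K m)

theorem chr_tau (l : Kˣ) :
    chr K (tauVec K m l) g2a = l ^ 3 ^ m ∧ chr K (tauVec K m l) g2b = l := by
  obtain ⟨ha, hb⟩ := chr_vals K (tauVec K m l)
  rw [ha, hb]
  simp only [tauVec, MonoidHom.coe_mk, OneHom.coe_mk, if_true, Nat.one_ne_zero, if_false]
  constructor
  · rw [mul_inv_eq_iff_eq_mul, mul_pow]
    group
  · rw [inv_mul_eq_iff_eq_mul, mul_pow, mul_pow]
    group

theorem torus_eq_tau {c : Fin chevG2.rank → Kˣ} (h : chr K c g2a = chr K c g2b ^ 3 ^ m) :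
    (coreG2 K).R.torus c = tau K m (chr K c g2b) := by
  show _ = (coreG2 K).R.torus (tauVec K m (chr K c g2b))
  congr 1
  funext i
  simp only [tauVec, MonoidHom.coe_mk, OneHom.coe_mk, ← h]
  obtain ⟨ha, hb⟩ := chr_vals K c
  rw [ha, hb]
  obtain ⟨i, hi⟩ := i
  have hi2 : i < 2 := hi
  interval_cases i
  · simp only [if_true]
    apply Units.ext
    push_cast
    field_simp
  · simp only [Nat.one_ne_zero, if_false]
    apply Units.ext
    push_cast
    field_simp

theorem tau_conj (l : Kˣ) {s : ℕ} (hs : s < 12) (t : K) :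
    tau K m l * (coreG2 K).xGL s t * (tau K m l)⁻¹ =
      (coreG2 K).xGL s ((chr K (tauVec K m l) s : K) * t) :=
  torus_conj K _ hs t

theorem tau_injective : Function.Injective (tau K m) := by
  intro l l' h
  have h1 := tau_conj K m l (show g2b < 12 by decide) 1
  rw [h, tau_conj K m l' (show g2b < 12 by decide) 1, (chr_tau K m l).2, (chr_tau K m l').2,
    mul_one, mul_one] at h1
  exact (Units.ext ((coreG2 K).xGL_injective (by decide) h1)).symm

theorem tau_mem_diagonal (l : Kˣ) : tau K m l ∈ chevG2.diagonalSubgroup K := by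
  rw [(coreG2 K).diagonalSubgroup_eq]; exact ⟨_, rfl⟩

variable [CharP K 3]

omit [CharP K 3] in
theorem three_pow_odd : (-1 : K) ^ 3 ^ m = -1 :=
  Odd.neg_one_pow (Odd.pow (by decide))

theorem frob_add (x y : K) : (x + y) ^ 3 ^ m = x ^ 3 ^ m + y ^ 3 ^ m := add_pow_char_pow x y 3 m

/-- The word equal to `h_a(-1) h_b(-1)` in characteristic three. -/
def negOneWord : List CfsgLib.Chev.Letter :=
  [(9, 1), (11, 1), (2, -1), (0, -1), (7, 1), (6, 1), (8, -1), (9, -1), (10, 1), (11, 1),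
    (4, 1), (5, 1), (3, 1), (2, -1), (1, -1), (0, 1)].map fun p => ⟨p.1, p.2, 0, 0⟩

/-- `h_a(-1) h_b(-1)` as a word. -/
def negOneTorus : List CfsgLib.Chev.Letter :=
  [(7, -1), (4, 1), (7, -1), (7, -1), (4, 1), (7, -1),
    (6, -1), (5, 1), (6, -1), (6, -1), (5, 1), (6, -1)].map fun p => ⟨p.1, p.2, 0, 0⟩

theorem negOne_check :
    checkMod CfsgLib.Chev.G2.cert.T 3 negOneWord negOneTorus = true := by decide +kernel

theorem tau_neg_one_mem : tau K m (-1) ∈ G1 K m := by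
  have h := wordMat_eq_of_checkMod (D := chevG2) (F := K) (p := 3) CfsgLib.Chev.G2.cert.hv negOne_check
  have hT : tau K m (-1) = (coreG2 K).hGL (chevG2.simple 0) (-1) * (coreG2 K).hGL (chevG2.simple 1) (-1) := by
    have e := fun i : Fin chevG2.rank => (coreG2 K).hGL_simple i (-1 : Kˣ)
    rw [show (-1 : K) = ((-1 : Kˣ) : K) by simp, e ⟨0, by decide⟩, e ⟨1, by decide⟩]
    show (coreG2 K).R.torus _ = _
    rw [RootData.torusSingle, RootData.torusSingle, ← map_mul]
    congr 1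
    funext i
    obtain ⟨i, hi⟩ := i
    have hi2 : i < 2 := hi
    have ho : ((-1 : Kˣ)) ^ 3 ^ m = -1 := Odd.neg_one_pow (Odd.pow (by decide))
    simp only [tauVec, MonoidHom.coe_mk, OneHom.coe_mk, ho, Pi.mul_apply]
    interval_cases i
    · simp
    · simp [Odd.neg_one_pow (show Odd 3 by decide)]
  have hW : ∀ t u v : K, (coreG2 K).wordGL (reeWordU (3 ^ m) t u v) ∈ G1 K m :=
    fun t u v => (coreG2 K).wordGL_mem_gen ⟨t, u, v, Or.inl rfl⟩
  have hV : ∀ t u v : K, (coreG2 K).wordGL (reeWordV (3 ^ m) t u v) ∈ G1 K m :=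
    fun t u v => (coreG2 K).wordGL_mem_gen ⟨t, u, v, Or.inr rfl⟩
  have hpos : 0 < 3 ^ m := Nat.pow_pos (by norm_num)
  have key : tau K m (-1) = (coreG2 K).wordGL (reeWordU (3 ^ m) 0 0 1) *
      (coreG2 K).wordGL (reeWordV (3 ^ m) 0 0 1) * (coreG2 K).wordGL (reeWordU (3 ^ m) 1 1 1) *
      (coreG2 K).wordGL (reeWordV (3 ^ m) (-1) 1 (-1)) := by
    have e1 : (coreG2 K).wordGL (negOneWord.map fun L => (L.r, (L.c : K))) =
        (coreG2 K).wordGL (negOneTorus.map fun L => (L.r, (L.c : K))) :=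
      Units.ext (by rw [ChevCore.coe_wordGL, ChevCore.coe_wordGL]; exact h)
    have hs : chevG2.simple 0 = 7 ∧ chevG2.simple 1 = 6 ∧ chevG2.neg 7 = 4 ∧ chevG2.neg 6 = 5 := by decide
    have e2 : (coreG2 K).hGL (chevG2.simple 0) (-1) * (coreG2 K).hGL (chevG2.simple 1) (-1) =
        (coreG2 K).wordGL (negOneTorus.map fun L => (L.r, (L.c : K))) := by
      rw [ChevCore.hGL, ChevCore.hGL, ← ChevCore.wordGL_append]
      simp [negOneTorus, ChevalleyDatum.hWord, ChevalleyDatum.nWord, hs.1, hs.2.1, hs.2.2.1, hs.2.2.2,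
        inv_neg]
    have h3 : (3 : K) = 0 := CharP.cast_eq_zero K 3
    have c1 : (1 : K) + 1 = -1 := by linear_combination h3
    have c2 : (-1 : K) + -1 = 1 := by linear_combination -h3
    have o1 : (-1 : K) ^ (3 ^ m + 1) = 1 := by rw [pow_succ, three_pow_odd]; ring
    have o2 : (-1 : K) ^ (2 * 3 ^ m + 1) = -1 := by rw [pow_succ, pow_mul]; simp
    have z0 : (0 : K) ^ 3 ^ m = 0 := zero_pow hpos.ne'
    have z2 : (0 : K) ^ (2 * 3 ^ m + 1) = 0 := zero_pow (Nat.succ_ne_zero _)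
    rw [hT, e2, ← e1, ← ChevCore.wordGL_append, ← ChevCore.wordGL_append, ← ChevCore.wordGL_append,
      reeWordV_eq, reeWordV_eq]
    simp [negOneWord, reeWordU, ChevCore.wordGL_cons, ChevCore.wordGL_nil, (coreG2 K).xGL_zero,
      g2a, g2b, g2ab, g2aab, g2aaab, g2aaabb, g2ma, g2mb, g2mab, g2maab, g2maaab, g2maaabb,
      z0, z2, c1, c2, o1, o2, three_pow_odd]
  rw [key]
  exact mul_mem (mul_mem (mul_mem (hW _ _ _) (hV _ _ _)) (hW _ _ _)) (hV _ _ _)

/-- The images of SL₂ in the two commuting root pairs `±(a+b)`, `±(3a+b)`. -/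
theorem exists_psi : ∃ ψ : SpecialLinearGroup (Fin 2) K →* GL chevG2.Idx K,
    (∀ u : K, ψ (ChevCore.slX u) = (coreG2 K).wordGL (reeWordU (3 ^ m) 0 u 0)) ∧
    (∀ u : K, ψ (ChevCore.slY u) = (coreG2 K).wordGL (reeWordV (3 ^ m) 0 (-u) 0)) ∧
    (∀ g, ψ g ∈ G1 K m) ∧
    ∀ (l : Kˣ) (g : SpecialLinearGroup (Fin 2) K), (g : Matrix (Fin 2) (Fin 2) K) = !![(l : K), 0; 0, ((l⁻¹ : Kˣ) : K)] →
      ∃ c, ψ g = (coreG2 K).R.torus c ∧
        ∀ u : K, ψ g * (coreG2 K).xGL g2ab u * (ψ g)⁻¹ = (coreG2 K).xGL g2ab (((l : K) ^ 3 ^ m) ^ 2 * u) := by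
  have hη : (coreG2 K).EtaNeg := etaCheck_G2
  have hn : chevG2.neg g2ab = g2mab ∧ chevG2.neg g2aaab = g2maaab := by decide
  obtain ⟨φ, hφr, hφ⟩ := (coreG2 K).exists_slHom hη (show g2ab < chevG2.nroots by decide)
  obtain ⟨χ, hχr, hχ⟩ := (coreG2 K).exists_slHom hη (show g2aaab < chevG2.nroots by decide)
  have hc : ∀ rs ∈ [(g2ab, g2maaab), (g2mab, g2aaab)], rs.1 < chevG2.nroots ∧ rs.2 < chevG2.nroots ∧
      rs.2 ≠ rs.1 ∧ rs.2 ≠ chevG2.neg rs.1 ∧ chevG2.commTerms rs.1 rs.2 = [] := by decide +kernel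
  have hcomm : ∀ g h, Commute (φ g) (χ h) := by
    have hcx : ∀ t u : K, Commute ((coreG2 K).xGL g2ab t) ((coreG2 K).xGL g2aaab u) ∧
        Commute ((coreG2 K).xGL g2ab t) ((coreG2 K).xGL g2maaab u) ∧
        Commute ((coreG2 K).xGL g2mab t) ((coreG2 K).xGL g2aaab u) ∧
        Commute ((coreG2 K).xGL g2mab t) ((coreG2 K).xGL g2maaab u) := by
      intro t u
      refine ⟨(commute_G2 K (by simp) t u).symm, ?_, ?_, (commute_G2 K (by simp) t u).symm⟩
      · obtain ⟨a, b, c, d, e⟩ := hc (g2ab, g2maaab) (by simp)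
        exact ((coreG2 K).xGL_commute a b c d (by simp [e]) t u).symm
      · obtain ⟨a, b, c, d, e⟩ := hc (g2mab, g2aaab) (by simp)
        exact ((coreG2 K).xGL_commute a b c d (by simp [e]) t u).symm
    refine fun g => ChevCore.sl_decomp (fun h => Commute (φ g) (χ h)) (fun u => ?_) (fun u => ?_)
      (fun a b ha hb => by simpa using ha.mul_right hb)
    · refine ChevCore.sl_decomp (fun g => Commute (φ g) (χ (ChevCore.slX u))) (fun t => ?_) (fun t => ?_)
        (fun a b ha hb => by simpa using ha.mul_left hb) g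
      · rw [(hφ t).1, (hχ u).1]; exact (hcx t u).1
      · rw [(hφ t).2, (hχ u).1, hn.1]; exact (hcx t u).2.2.1
    · refine ChevCore.sl_decomp (fun g => Commute (φ g) (χ (ChevCore.slY u))) (fun t => ?_) (fun t => ?_)
        (fun a b ha hb => by simpa using ha.mul_left hb) g
      · rw [(hφ t).1, (hχ u).2, hn.2]; exact (hcx t u).2.1
      · rw [(hφ t).2, (hχ u).2, hn.1, hn.2]; exact (hcx t u).2.2.2
  set F : SpecialLinearGroup (Fin 2) K →* SpecialLinearGroup (Fin 2) K :=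
    SpecialLinearGroup.map (iterateFrobenius K 3 m) with hF
  have hFX : ∀ u : K, F (ChevCore.slX u) = ChevCore.slX (u ^ 3 ^ m) := fun u => by
    ext a b; fin_cases a <;> fin_cases b <;> simp [hF, iterateFrobenius_def]
  have hFY : ∀ u : K, F (ChevCore.slY u) = ChevCore.slY (u ^ 3 ^ m) := fun u => by
    ext a b; fin_cases a <;> fin_cases b <;> simp [hF, iterateFrobenius_def]
  set ψ : SpecialLinearGroup (Fin 2) K →* GL chevG2.Idx K := MonoidHom.mk' (fun g => φ (F g) * χ g)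
    (fun g h => by rw [map_mul, map_mul, map_mul]; exact (hcomm (F h) g).mul_mul_mul_comm _ _) with hψ
  have hpos : 0 < 3 ^ m := Nat.pow_pos (by norm_num)
  have z0 : ∀ e : ℕ, (0 : K) ^ (e + 1) = 0 := fun e => zero_pow e.succ_ne_zero
  have z1 : (0 : K) ^ 3 ^ m = 0 := zero_pow hpos.ne'
  have hX : ∀ u : K, ψ (ChevCore.slX u) = (coreG2 K).wordGL (reeWordU (3 ^ m) 0 u 0) := fun u => by
    show φ (F (ChevCore.slX u)) * χ (ChevCore.slX u) = _
    rw [hFX, (hφ _).1, (hχ _).1]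
    simp [reeWordU, ChevCore.wordGL_cons, ChevCore.wordGL_nil, (coreG2 K).xGL_zero, z0, z1]
  have hY : ∀ u : K, ψ (ChevCore.slY u) = (coreG2 K).wordGL (reeWordV (3 ^ m) 0 (-u) 0) := fun u => by
    show φ (F (ChevCore.slY u)) * χ (ChevCore.slY u) = _
    rw [hFY, (hφ _).2, (hχ _).2, hn.1, hn.2, reeWordV_eq]
    have : (-u) ^ 3 ^ m = -(u ^ 3 ^ m) := (Odd.pow (by decide)).neg_pow u
    simp [ChevCore.wordGL_cons, ChevCore.wordGL_nil, (coreG2 K).xGL_zero, z0, z1, this]
  refine ⟨ψ, hX, hY, fun g => ?_, fun l g hg => ?_⟩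
  · refine ChevCore.sl_decomp (fun g => ψ g ∈ G1 K m) (fun u => ?_) (fun u => ?_)
      (fun a b ha hb => by rw [map_mul]; exact mul_mem ha hb) g
    · rw [hX]; exact (coreG2 K).wordGL_mem_gen ⟨_, _, _, Or.inl rfl⟩
    · rw [hY]; exact (coreG2 K).wordGL_mem_gen ⟨_, _, _, Or.inr rfl⟩
  -- the diagonal
  have hW : ∀ (r : ℕ) (f : SpecialLinearGroup (Fin 2) K →* GL chevG2.Idx K),
      (∀ t : K, f (ChevCore.slX t) = (coreG2 K).xGL r t ∧ f (ChevCore.slY t) = (coreG2 K).xGL (chevG2.neg r) t) →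
      ∀ (l : K) (g : SpecialLinearGroup (Fin 2) K), l ≠ 0 →
        (g : Matrix (Fin 2) (Fin 2) K) = !![l, 0; 0, l⁻¹] → f g = (coreG2 K).hGL r l := by
    intro r f hf l g hl hg
    have e : g = ChevCore.slX l * ChevCore.slY (-l⁻¹) * ChevCore.slX l *
        (ChevCore.slX (-1) * ChevCore.slY 1 * ChevCore.slX (-1)) := by
      refine Matrix.SpecialLinearGroup.ext _ _ fun a b => ?_
      rw [hg]
      fin_cases a <;> fin_cases b <;>
        simp [Matrix.mul_apply, Fin.sum_univ_two] <;> field_simp <;>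
        first | ring1 | simp
    rw [e]
    simp [(hf _).1, (hf _).2, ChevCore.hGL, ChevalleyDatum.hWord, ChevalleyDatum.nWord,
      ChevCore.wordGL_cons, ChevCore.wordGL_nil, mul_assoc]
  have hl : (l : K) ≠ 0 := l.ne_zero
  have hFg : ((F g : SpecialLinearGroup (Fin 2) K) : Matrix (Fin 2) (Fin 2) K) =
      !![(l : K) ^ 3 ^ m, 0; 0, ((l : K) ^ 3 ^ m)⁻¹] := by
    ext a b; fin_cases a <;> fin_cases b <;> simp [hF, iterateFrobenius_def, hg, z1]
  have hg' : (g : Matrix (Fin 2) (Fin 2) K) = !![(l : K), 0; 0, (l : K)⁻¹] := by simpa using hg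
  obtain ⟨c₁, hc₁⟩ := (coreG2 K).hGL_mem_torus (show g2ab < chevG2.nroots by decide) (pow_ne_zero (3 ^ m) hl)
  obtain ⟨c₂, hc₂⟩ := (coreG2 K).hGL_mem_torus (show g2aaab < chevG2.nroots by decide) hl
  refine ⟨c₁ * c₂, ?_, fun u => ?_⟩
  · show φ (F g) * χ g = _
    rw [hW _ _ hφ _ _ (pow_ne_zero _ hl) hFg, hW _ _ hχ _ _ hl hg', map_mul, hc₁, hc₂]
  · show φ (F g) * χ g * _ * (φ (F g) * χ g)⁻¹ = _
    rw [_root_.mul_inv_rev, ← (hφ u).1,
      show φ (F g) * χ g * φ (ChevCore.slX u) * ((χ g)⁻¹ * (φ (F g))⁻¹) =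
        φ (F g) * (χ g * φ (ChevCore.slX u) * (χ g)⁻¹) * (φ (F g))⁻¹ by group,
      ← (hcomm (ChevCore.slX u) g).eq, mul_inv_cancel_right, ← map_inv, ← map_mul, ← map_mul,
      ← (hφ _).1]
    congr 1
    rw [mul_inv_eq_iff_eq_mul]
    refine Matrix.SpecialLinearGroup.ext _ _ fun a b => ?_
    have hp := pow_ne_zero (3 ^ m) hl
    show (((F g : SpecialLinearGroup (Fin 2) K) : Matrix (Fin 2) (Fin 2) K) *
        ((ChevCore.slX u : SpecialLinearGroup (Fin 2) K) : Matrix (Fin 2) (Fin 2) K)) a b =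
      (((ChevCore.slX (((l : K) ^ 3 ^ m) ^ 2 * u) : SpecialLinearGroup (Fin 2) K) : Matrix (Fin 2) (Fin 2) K) *
        ((F g : SpecialLinearGroup (Fin 2) K) : Matrix (Fin 2) (Fin 2) K)) a b
    simp only [hFg, ChevCore.coe_slX]
    fin_cases a <;> fin_cases b <;> simp [Matrix.mul_apply, Fin.sum_univ_two] <;> field_simp

variable [Fintype K]

/-- `H1`. -/
abbrev H1 : Subgroup (GL chevG2.Idx K) := chevG2.diagonalSubgroup K ⊓ twistedG2 K (3 ^ m)

variable {m} (hn : Fintype.card K = 3 * (3 ^ m * 3 ^ m))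
include hn

theorem H1_le : H1 K m ≤ (tau K m).range := by
  intro h hh
  obtain ⟨hd, hG⟩ := Subgroup.mem_inf.1 hh
  rw [(coreG2 K).diagonalSubgroup_eq] at hd
  obtain ⟨c, rfl⟩ := hd
  refine ⟨chr K c g2b, (torus_eq_tau K m ?_).symm⟩
  have hfix := le_fixedG2 K hn hG
  set h := (coreG2 K).R.torus c with hh'
  have hb := torus_conj K c (show g2b < 12 by decide) 1
  rw [← hh'] at hb
  have hmem : ∀ r (x : K), (coreG2 K).xGL r x ∈ chevG2.group K := (coreG2 K).xGL_mem_group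
  have e := congrArg (frobG2 K m).act hb
  rw [(frobG2 K m).act_mul (mul_mem hfix.1 (hmem _ _)) (inv_mem hfix.1), (frobG2 K m).act_mul hfix.1 (hmem _ _),
    (frobG2 K m).act_inv hfix.1, hfix.2, frobG2_act K m (show g2b < chevG2.nroots by decide),
    frobG2_act K m (show g2b < chevG2.nroots by decide),
    show subG2.root g2b = g2a by decide +kernel, show subG2.ex g2b = 1 by decide +kernel, mul_one,
    one_pow, hh', torus_conj K c (show g2a < 12 by decide) 1, mul_one, mul_one] at e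
  exact Units.ext (by rw [(coreG2 K).xGL_injective (by decide) e, Units.val_pow_eq_pow_val])

omit [Field K] [CharP K 3] in
theorem card_eq : Fintype.card K = 3 ^ (2 * m + 1) := by rw [hn, pow_succ, two_mul, pow_add]; ring

omit [Field K] [CharP K 3] in
theorem card_odd : Fintype.card K % 4 = 3 := by
  rw [card_eq K hn, pow_succ, pow_mul, Nat.mul_mod, Nat.pow_mod]
  norm_num

theorem H1_eq : H1 K m = (tau K m).range := by
  classical
  refine le_antisymm (H1_le K hn) ?_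
  set L : Subgroup Kˣ := (H1 K m).comap (tau K m) with hL
  suffices hT : L = ⊤ by
    rintro _ ⟨l, rfl⟩
    exact (hT.symm ▸ Subgroup.mem_top l : l ∈ L)
  have hneg : (-1 : Kˣ) ∈ L := ⟨tau_mem_diagonal K m _, tau_neg_one_mem K m⟩
  obtain ⟨ψ, -, -, hmem, hdiag⟩ := exists_psi K m
  let D : Kˣ →* SpecialLinearGroup (Fin 2) K :=
    { toFun := fun l => ⟨!![(l : K), 0; 0, ((l⁻¹ : Kˣ) : K)], by simp [det_fin_two]⟩
      map_one' := by ext a b; fin_cases a <;> fin_cases b <;> simp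
      map_mul' := fun a b => by
        apply Subtype.ext
        show _ = !![(a : K), 0; 0, ((a⁻¹ : Kˣ) : K)] * !![(b : K), 0; 0, ((b⁻¹ : Kˣ) : K)]
        ext i j; fin_cases i <;> fin_cases j <;> simp [Matrix.mul_apply, Fin.sum_univ_two, mul_comm] }
  have hD : ∀ l, ∃ c, ψ (D l) = (coreG2 K).R.torus c ∧ ∀ u : K,
      ψ (D l) * (coreG2 K).xGL g2ab u * (ψ (D l))⁻¹ =
        (coreG2 K).xGL g2ab (((l : K) ^ 3 ^ m) ^ 2 * u) := fun l => hdiag l (D l) rfl
  have hDH : ∀ l, ψ (D l) ∈ H1 K m := fun l => by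
    obtain ⟨c, hc, -⟩ := hD l
    refine ⟨?_, hmem _⟩
    show ψ (D l) ∈ chevG2.diagonalSubgroup K
    rw [hc, (coreG2 K).diagonalSubgroup_eq]; exact ⟨c, rfl⟩
  -- the preimage of the image has index at most two
  have hsq : ∀ l : Kˣ, ψ (D l) = 1 → l = 1 ∨ l = -1 := by
    intro l hl
    obtain ⟨c, -, hu⟩ := hD l
    have h1 := hu 1
    rw [hl, one_mul, inv_one, mul_one] at h1
    have h2 := (coreG2 K).xGL_injective (by decide) h1
    rw [mul_one, ← pow_mul, mul_comm, pow_mul] at h2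
    have h3 : (((l : K) ^ 2) ^ 3 ^ m) = ((1 : K) ^ 3 ^ m) := by rw [one_pow, ← h2]
    have h4 : (l : K) ^ 2 = 1 := iterateFrobenius_inj K 3 m (by rw [iterateFrobenius_def, iterateFrobenius_def]; exact h3)
    rcases sq_eq_one_iff.1 h4 with h | h
    · exact Or.inl (Units.ext h)
    · exact Or.inr (Units.ext (by simpa using h))
  have hker : Nat.card (ψ.comp D).ker ≤ 2 := by
    have hs : ((ψ.comp D).ker : Set Kˣ) ⊆ {1, -1} := fun l hl => hsq l hl
    have := Set.ncard_le_ncard hs (Set.toFinite _)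
    rw [← Nat.card_coe_set_eq] at this
    exact this.trans (by
      refine (Set.ncard_insert_le _ _).trans ?_
      simp)
  have hLcard : Nat.card (ψ.comp D).range ≤ Nat.card L := by
    have hm : L.map (tau K m) = H1 K m := by
      rw [hL, Subgroup.map_comap_eq, inf_eq_right]; exact H1_le K hn
    rw [← Subgroup.card_map_of_injective (K := L) (tau_injective K m), hm]
    exact Subgroup.card_le_of_le (by rintro _ ⟨l, rfl⟩; exact hDH l)
  have hcard := Subgroup.card_mul_index (ψ.comp D).ker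
  rw [Subgroup.index_ker] at hcard
  have hu : Nat.card Kˣ = Fintype.card K - 1 := by rw [Nat.card_eq_fintype_card, Fintype.card_units]
  have hodd : Fintype.card K % 4 = 3 := card_odd K hn
  have hLi := L.card_mul_index
  have hord : orderOf (-1 : Kˣ) = 2 := by
    refine orderOf_eq_prime (by simp) ?_
    intro h
    have h' : (-1 : K) = 1 := by simpa using congrArg Units.val h
    have h3 : (3 : K) = 0 := CharP.cast_eq_zero K 3
    have : (1 : K) = 0 := by linear_combination h3 + h'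
    exact one_ne_zero this
  have h2L : 2 ∣ Nat.card L := by
    rw [← hord, ← Subgroup.orderOf_mk _ hneg]; exact orderOf_dvd_natCard _
  have hpos : 0 < Nat.card L := Nat.card_pos
  refine Subgroup.index_eq_one.1 ?_
  have hi2 : L.index ≤ 2 := by
    by_contra hgt
    have h1 : Nat.card L * 3 ≤ Nat.card L * L.index := Nat.mul_le_mul_left _ (by omega)
    have h2 : Nat.card (ψ.comp D).ker * Nat.card (ψ.comp D).range ≤ 2 * Nat.card L :=
      Nat.mul_le_mul hker hLcard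
    omega
  have hi0 : L.index ≠ 0 := Subgroup.index_ne_zero_of_finite
  obtain ⟨k, hk⟩ := h2L
  rcases (show L.index = 1 ∨ L.index = 2 by omega) with h | h
  · exact h
  · rw [h] at hLi
    omega

theorem card_H1 : Nat.card ↥(H1 K m) = Fintype.card K - 1 := by
  classical
  rw [H1_eq K hn]
  rw [← Nat.card_congr (MonoidHom.ofInjective (tau_injective K m)).toEquiv, Nat.card_eq_fintype_card,
    Fintype.card_units]

theorem tau_mem_H1 (l : Kˣ) : tau K m l ∈ H1 K m := by rw [H1_eq K hn]; exact ⟨l, rfl⟩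

end CfsgLib.SmallRee
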