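import Cfsg.Agent.Lib.ConstStab.Basic
import Mathlib.LinearAlgebra.Matrix.SpecialLinearGroup
import Mathlib.LinearAlgebra.Dimension.Finrank
import Mathlib.LinearAlgebra.FiniteDimensional.Lemmas
import Mathlib.LinearAlgebra.Matrix.GeneralLinearGroup.Defs
import Mathlib.LinearAlgebra.Matrix.ToLin
import Mathlib.FieldTheory.Finite.Basic

/-!
Linear lemmas for the small Ree groups: `p`-subgroups of `GL_n(q)` with `p` dividing no `q^i - 1`
(`0 < i ≤ n`) except `i = n - 1` are cyclic; elements of exponent four in `SL₂` in characteristic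
with `2` a non-square.
-/

set_option autoImplicit false

namespace CfsgLib.SmallRee

open Matrix

/-- the kernel action of a subgroup of linear units on an invariant submodule -/
theorem isCyclic_of_primitive {K : Type*} [Field K] [Fintype K] {ι : Type*} [Fintype ι] [DecidableEq ι]
    {p : ℕ} [hp : Fact p.Prime] (hp2 : p ≠ 2) (hpK : ¬ p ∣ Fintype.card K)
    (hι : 2 ≤ Fintype.card ι)
    (hprim : ∀ i, 1 ≤ i → i ≤ Fintype.card ι → p ∣ Fintype.card K ^ i - 1 → i + 1 = Fintype.card ι)
    {P : Type*} [Group P] [Finite P] (hP : IsPGroup p P) (ρ : P →* GL ι K) (hρ : Function.Injective ρ) :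
    IsCyclic P := by
  classical
  rcases subsingleton_or_nontrivial P with hs | hnt
  · infer_instance
  set N := Fintype.card ι with hN
  set q := Fintype.card K with hq
  have hq1 : 1 < q := Fintype.one_lt_card
  let L : P → ((ι → K) →ₗ[K] (ι → K)) := fun g => Matrix.mulVecLin (ρ g : Matrix ι ι K)
  have hL1 : ∀ v, L 1 v = v := fun v => by simp [L]
  have hLmul : ∀ g h v, L (g * h) v = L g (L h v) := fun g h v => by
    simp [L, Matrix.mulVecLin_apply, Matrix.mulVec_mulVec]
  have hLinj : ∀ g, (∀ v, L g v = v) → g = 1 := by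
    intro g hg
    apply hρ
    rw [map_one]
    apply Units.ext
    rw [Units.val_one]
    exact (Matrix.toLin' (R := K)).injective (LinearMap.ext fun v => by simpa [L] using hg v)
  let Fx : P → Submodule K (ι → K) := fun g => LinearMap.ker (L g - 1)
  have hFx : ∀ g v, v ∈ Fx g ↔ L g v = v := fun g v => by simp [Fx, sub_eq_zero]
  -- fixed spaces of elements of order `p` are lines
  have hline : ∀ g : P, g ≠ 1 → g ^ p = 1 → Module.finrank K (Fx g) = 1 := by
    intro g hg hgp
    letI : MulAction (Subgroup.zpowers g) (ι → K) :=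
      { smul := fun x v => L (x : P) v
        one_smul := hL1
        mul_smul := fun x y v => hLmul x y v }
    have hord : Nat.card (Subgroup.zpowers g) = p := by
      rw [Nat.card_zpowers]
      exact orderOf_eq_prime hgp hg
    have hmod := (IsPGroup.of_card (n := 1) (by rw [hord, pow_one] : Nat.card (Subgroup.zpowers g) = p ^ 1)).card_modEq_card_fixedPoints (ι → K)
    have hfix : MulAction.fixedPoints (Subgroup.zpowers g) (ι → K) = (Fx g : Set (ι → K)) := by
      ext v
      rw [MulAction.mem_fixedPoints, SetLike.mem_coe, hFx]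
      refine ⟨fun h => h ⟨g, Subgroup.mem_zpowers g⟩, fun h x => ?_⟩
      obtain ⟨x, hx⟩ := x
      rw [← mem_powers_iff_mem_zpowers] at hx
      obtain ⟨k, rfl⟩ := hx
      show L (g ^ k) v = v
      clear hx
      induction k with
      | zero => rw [pow_zero]; exact hL1 v
      | succ k ih => rw [pow_succ, hLmul, h]; exact ih
    rw [hfix] at hmod
    have hcard : Nat.card (Fx g) = q ^ Module.finrank K (Fx g) := by
      rw [Nat.card_eq_fintype_card, Module.card_eq_pow_finrank (K := K)]
    set f := Module.finrank K (Fx g) with hf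
    have hfle : f ≤ N := by
      have := Submodule.finrank_le (Fx g)
      rwa [Module.finrank_fintype_fun_eq_card] at this
    have hfne : f ≠ N := by
      intro e
      apply hg
      apply hLinj
      intro v
      have htop : Fx g = ⊤ := Submodule.eq_top_of_finrank_eq (by
        rw [Module.finrank_fintype_fun_eq_card]; exact e)
      exact (hFx g v).1 (htop ▸ Submodule.mem_top)
    have hm : q ^ N ≡ q ^ f [MOD p] := by
      rw [← hcard]
      simpa [Nat.card_eq_fintype_card, hN, hq] using hmod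
    have hdvd : p ∣ q ^ f * (q ^ (N - f) - 1) := by
      rw [Nat.mul_sub_one, ← pow_add, Nat.add_sub_cancel' hfle]
      exact (Nat.modEq_iff_dvd' (Nat.pow_le_pow_right (by omega) hfle)).1 hm.symm
    have hd : p ∣ q ^ (N - f) - 1 :=
      (hp.out.dvd_mul.1 hdvd).resolve_left fun h => hpK (hp.out.dvd_of_dvd_pow h)
    have := hprim (N - f) (by omega) (by omega) hd
    omega
  -- a central element of order `p`
  obtain ⟨z, hzc, hz1, hzp⟩ : ∃ z ∈ Subgroup.center P, z ≠ 1 ∧ z ^ p = 1 := by
    haveI := hP.center_nontrivial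
    obtain ⟨n, hn, hcard⟩ := (IsPGroup.nontrivial_iff_card (hP.to_subgroup (Subgroup.center P))).1 inferInstance
    obtain ⟨z, hz⟩ := exists_prime_orderOf_dvd_card' p (hcard ▸ dvd_pow_self p hn.ne')
    refine ⟨z, z.2, fun e => ?_, ?_⟩
    · rw [← Subgroup.orderOf_coe, e, orderOf_one] at hz
      exact hp.out.one_lt.ne hz
    · rw [← hz, ← Subgroup.orderOf_coe]; exact pow_orderOf_eq_one _
  have hzcomm : ∀ g v, L g (L z v) = L z (L g v) := fun g v => by
    rw [← hLmul, ← hLmul, Subgroup.mem_center_iff.1 hzc g]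
  have hz0 := hline z hz1 hzp
  -- `P` fixes the line
  have hfixline : ∀ g : P, ∀ v ∈ Fx z, L g v = v := by
    intro g v hv
    have hstab : ∀ w ∈ Fx z, L g w ∈ Fx z := fun w hw => by
      rw [hFx] at hw ⊢; rw [← hzcomm, hw]
    obtain ⟨u, hu, huniq⟩ := finrank_eq_one_iff'.1 hz0
    obtain ⟨c, hc⟩ := huniq ⟨L g u, hstab u u.2⟩
    have hc' : L g (u : ι → K) = c • (u : ι → K) := (congrArg Subtype.val hc).symm
    have hpow : ∀ k : ℕ, L (g ^ k) (u : ι → K) = c ^ k • (u : ι → K) := by
      intro k
      induction k with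
      | zero => rw [pow_zero, hL1, pow_zero, one_smul]
      | succ k ih => rw [pow_succ', hLmul, ih, map_smul, hc', smul_smul, pow_succ]
    obtain ⟨k, hk⟩ := hP g
    have h1 := hpow (p ^ k)
    rw [hk, hL1] at h1
    have hu' : (u : ι → K) ≠ 0 := fun e => hu (Subtype.ext e)
    have hcp : c ^ p ^ k = 1 := by
      by_contra hne
      have h2 : (c ^ p ^ k - 1) • (u : ι → K) = 0 := by rw [sub_smul, ← h1, one_smul, sub_self]
      exact hu' ((smul_eq_zero.1 h2).resolve_left (sub_ne_zero.2 hne))
    have hc0 : c ≠ 0 := by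
      rintro rfl
      rw [zero_pow (pow_ne_zero _ hp.out.ne_zero)] at hcp
      exact zero_ne_one hcp
    have hcq := FiniteField.pow_card_sub_one_eq_one c hc0
    have hcop : Nat.Coprime (p ^ k) (q - 1) := Nat.Coprime.pow_left k
      ((hp.out.coprime_iff_not_dvd).2 fun hd => by
        have := hprim 1 le_rfl (by omega) (by rwa [pow_one])
        have hd2 : p ∣ q ^ 2 - 1 := hd.trans ⟨q + 1, by
          rw [pow_two, mul_comm (q - 1), ← Nat.sq_sub_sq q 1, one_pow, pow_two]⟩
        have := hprim 2 (by omega) (by omega) hd2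
        omega)
    have hc1 : c = 1 := orderOf_eq_one_iff.1 (Nat.eq_one_of_dvd_coprimes hcop
      (orderOf_dvd_of_pow_eq_one hcp) (orderOf_dvd_of_pow_eq_one hcq))
    obtain ⟨d, hd⟩ := huniq ⟨v, hv⟩
    rw [show v = d • (u : ι → K) from (congrArg Subtype.val hd).symm, map_smul, hc', hc1, one_smul]
  -- the complement
  set W : Submodule K (ι → K) := LinearMap.range (L z - 1) with hW
  have hWinv : ∀ g w, w ∈ W → L g w ∈ W := by
    rintro g _ ⟨v, rfl⟩
    exact ⟨L g v, by simp [map_sub, hzcomm]⟩
  have hWL : ∀ w ∈ W, L z w = w → w = 0 := by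
    rintro _ ⟨v, rfl⟩ hw
    set w := (L z - 1) v with hwdef
    have hit : ∀ k : ℕ, L (z ^ k) v = v + k • w := by
      intro k
      induction k with
      | zero => simp [hL1]
      | succ k ih =>
        rw [pow_succ', hLmul, ih, map_add, map_nsmul, hw, succ_nsmul]
        simp [hwdef]
        abel
    have h0 := hit p
    rw [hzp, hL1, left_eq_add] at h0
    have hpne : (p : K) ≠ 0 := fun e => by
      obtain ⟨c, hc⟩ := CharP.exists K
      obtain ⟨n, hcp, hn⟩ := FiniteField.card K c
      have : p = c := ((Nat.prime_dvd_prime_iff_eq hcp hp.out).1 ((CharP.cast_eq_zero_iff K c p).1 e)).symm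
      exact hpK (by rw [hq, hn, this]; exact dvd_pow_self c n.ne_zero)
    rw [← Nat.cast_smul_eq_nsmul K, smul_eq_zero] at h0
    exact h0.resolve_left hpne
  have hsplit : Disjoint (Fx z) W := Submodule.disjoint_def.2 fun w h1 h2 => hWL w h2 ((hFx z w).1 h1)
  have hsup : Fx z ⊔ W = ⊤ := Submodule.eq_top_of_disjoint _ _
    (((add_comm _ _).trans (LinearMap.finrank_range_add_finrank_ker (L z - 1))).ge) hsplit
  letI : DistribMulAction P W :=
    { smul := fun g w => ⟨L g (w : ι → K), hWinv g w w.2⟩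
      one_smul := fun w => Subtype.ext (hL1 w)
      mul_smul := fun g h w => Subtype.ext (hLmul g h w)
      smul_zero := fun g => Subtype.ext (map_zero (L g))
      smul_add := fun g x y => Subtype.ext (map_add (L g) _ _) }
  have hfpf : ∀ g : P, g ≠ 1 → ∀ w : W, g • w = w → w = 0 := by
    intro g hg w hw
    obtain ⟨i, hi, hi'⟩ : ∃ i : ℕ, g ^ p ^ i ≠ 1 ∧ g ^ p ^ (i + 1) = 1 := by
      obtain ⟨i, hi⟩ : ∃ i, Nat.find (hP g) = i + 1 := by
        refine Nat.exists_eq_succ_of_ne_zero fun e => hg ?_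
        have := Nat.find_spec (hP g)
        rwa [e, pow_zero, pow_one] at this
      exact ⟨i, Nat.find_min (hP g) (by omega), hi ▸ Nat.find_spec (hP g)⟩
    have hfg : g ^ p ^ i • w = w :=
      (Subgroup.pow_mem (MulAction.stabilizer P w) hw (p ^ i) :)
    have h1 := hline _ hi (by rw [← pow_mul, ← pow_succ, hi'])
    have hle : Fx z ≤ Fx (g ^ p ^ i) := fun v hv => (hFx _ v).2 (hfixline _ v hv)
    have heq := Submodule.eq_of_le_of_finrank_eq hle (by rw [hz0, h1])
    have hmem : (w : ι → K) ∈ Fx z := by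
      rw [heq, hFx]
      exact congrArg Subtype.val hfg
    exact Subtype.ext (hWL _ w.2 ((hFx z _).1 hmem))
  haveI : FaithfulSMul P W := by
    refine ⟨fun {g h} hgh => ?_⟩
    by_contra hne
    have hgh' : h⁻¹ * g = 1 := by
      apply hLinj
      intro v
      have hv : v ∈ Fx z ⊔ W := by rw [hsup]; trivial
      obtain ⟨a, ha, b, hb, rfl⟩ := Submodule.mem_sup.1 hv
      rw [map_add, hfixline _ a ha]
      congr 1
      have := hgh ⟨b, hb⟩
      have h2 : (h⁻¹ * g) • (⟨b, hb⟩ : W) = ⟨b, hb⟩ := by rw [mul_smul, this, inv_smul_smul]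
      exact congrArg Subtype.val h2
    exact hne (inv_mul_eq_one.1 hgh').symm
  obtain ⟨c, hc⟩ := CharP.exists K
  have hcp : c.Prime := CharP.char_is_prime K c
  refine (CfsgLib.ConstStab.cyclic_and_fpf (E := W) hp2 hP hcp (fun w => ?_) fun a b ha hb => ?_).1
  · ext1
    simp [← Nat.cast_smul_eq_nsmul K]
  · have : ∀ w : W, w ≠ 0 → MulAction.stabilizer P w = ⊥ := fun w hw =>
      (Subgroup.eq_bot_iff_forall _).2 fun g hg => by
        by_contra hg1
        exact hw (hfpf g hg1 w hg)
    rw [this a ha, this b hb]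

/-- no element of order four in `PSL₂` when `2` is not a square -/
theorem sq_scalar_of_pow_four {K : Type*} [Field K] (h2 : ∀ t : K, t ^ 2 ≠ 2)
    (A : SpecialLinearGroup (Fin 2) K) (h4 : A ^ 4 = 1 ∨ A ^ 4 = -1) : A ^ 2 = 1 ∨ A ^ 2 = -1 := by
  set M : Matrix (Fin 2) (Fin 2) K := (A : Matrix (Fin 2) (Fin 2) K) with hM
  set t := M 0 0 + M 1 1 with ht
  have hd : M 0 0 * M 1 1 - M 0 1 * M 1 0 = 1 := by rw [← det_fin_two]; exact A.2
  have h1 : M * M = t • M - 1 := by
    ext i j
    fin_cases i <;> fin_cases j <;> simp [Matrix.mul_apply, Fin.sum_univ_two, ht] <;>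
      first | linear_combination hd | linear_combination -hd | ring
  have h22 : M * M * (M * M) = (t ^ 2 - 2) • (M * M) - 1 := by
    rw [show t ^ 2 - 2 = t * t - 1 - 1 by ring, sub_smul, sub_smul, one_smul, h1]
    simp only [sub_mul, mul_sub, smul_mul_assoc, mul_smul_comm, one_mul, mul_one, h1, smul_sub, smul_smul]
    module
  have hs : t ^ 2 - 2 ≠ 0 := sub_ne_zero.2 (h2 t)
  have e4 : ((A * A * (A * A)).1 : Matrix (Fin 2) (Fin 2) K) = M * M * (M * M) := rfl
  rw [show A ^ 4 = A * A * (A * A) by rw [← pow_two, ← pow_two, ← pow_mul]] at h4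
  rw [pow_two]
  rcases h4 with h4 | h4
  · rw [h4, show ((1 : SpecialLinearGroup (Fin 2) K).1) = (1 : Matrix (Fin 2) (Fin 2) K) from rfl, h22] at e4
    have hMM : M * M = ((t ^ 2 - 2)⁻¹ * 2) • (1 : Matrix (Fin 2) (Fin 2) K) := by
      have h5 : (t ^ 2 - 2) • (M * M) = (2 : K) • (1 : Matrix (Fin 2) (Fin 2) K) := by
        rw [two_smul]; nth_rewrite 1 [e4]; abel
      rw [mul_smul, ← h5, smul_smul, inv_mul_cancel₀ hs, one_smul]
    have hdet : ((t ^ 2 - 2)⁻¹ * 2) ^ 2 = (1 : K) := by
      have := congrArg Matrix.det hMM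
      rwa [Matrix.det_mul, hM, A.2, mul_one, Matrix.det_smul, Matrix.det_one, mul_one,
        Fintype.card_fin, eq_comm] at this
    rcases sq_eq_one_iff.1 hdet with h | h
    · left
      apply Subtype.ext
      show M * M = 1
      rw [hMM, h, one_smul]
    · right
      apply Subtype.ext
      show M * M = -1
      rw [hMM, h, neg_smul, one_smul]
  · have hn : ((-1 : SpecialLinearGroup (Fin 2) K).1) = (-1 : Matrix (Fin 2) (Fin 2) K) := by
      simp
    rw [h4, hn, h22] at e4
    exfalso
    have h0 : (t ^ 2 - 2) • (M * M) = 0 := by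
      rw [sub_eq_add_neg] at e4
      exact add_eq_right.1 e4.symm
    have := congrArg Matrix.det ((smul_eq_zero.1 h0).resolve_left hs)
    rw [Matrix.det_mul, hM, A.2, mul_one, Matrix.det_zero] at this
    exact one_ne_zero this

end CfsgLib.SmallRee
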