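import Cfsg.Agent.Lib.SmallRee.Bruhat
import Cfsg.Agent.Lib.SmallRee.Linear
import Cfsg.Agent.Lib.SpecLin.SLTwoClassSize
import Mathlib.LinearAlgebra.Matrix.ProjectiveSpecialLinearGroup

/-!
The order of a small Ree group, and the centraliser of its diagonal involution: a direct product of
a group of order two and `PSL₂(q)`.
-/

set_option autoImplicit false

namespace CfsgLib.SmallRee

open Cfsg.Lie CfsgLib.ChevStr CfsgLib.Twisted Matrix
open scoped MatrixGroups

variable (K : Type*) [Field K] (m : ℕ)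

/-- The diagonal involution. -/
noncomputable def invol : GL chevG2.Idx K := tau K m (-1)

variable {K m} [CharP K 3]

omit m in
theorem two_ne_zero' : (2 : K) ≠ 0 := by
  intro h
  have h3 : (3 : K) = 0 := CharP.cast_eq_zero K 3
  exact one_ne_zero (show (1 : K) = 0 by linear_combination h3 - h)

omit m in
theorem neg_one_ne_one : (-1 : K) ≠ 1 := fun h => two_ne_zero' (K := K) (by linear_combination -h)

theorem invol_ne_one : invol K m ≠ 1 := by
  intro h
  have h1 := tau_injective K m ((h.trans (map_one _).symm : tau K m (-1) = tau K m 1))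
  exact neg_one_ne_one (by simpa using congrArg Units.val h1)

omit [CharP K 3] in
theorem invol_mul_self : invol K m * invol K m = 1 := by
  rw [invol, ← map_mul]; simp

variable [Fintype K] (hn : Fintype.card K = 3 * (3 ^ m * 3 ^ m))
include hn

theorem invol_mem_H1 : invol K m ∈ H1 K m := tau_mem_H1 K hn _

theorem invol_unique {h : GL chevG2.Idx K} (hh : h ∈ H1 K m) (h2 : h * h = 1) (hne : h ≠ 1) :
    h = invol K m := by
  obtain ⟨l, rfl⟩ := H1_le K hn hh
  have hl : l * l = 1 := tau_injective K m (by rw [map_mul, h2, map_one])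
  have hl' : (l : K) ^ 2 = 1 := by rw [pow_two, ← Units.val_mul, hl, Units.val_one]
  rcases sq_eq_one_iff.1 hl' with h | h
  · exact absurd (by rw [show l = 1 from Units.ext h, map_one]) hne
  · rw [invol, show l = -1 from Units.ext (by simpa using h)]

theorem invol_conj_uni (t u v : K) :
    invol K m * uni K m t u v * (invol K m)⁻¹ = uni K m (-t) u (-v) := by
  rw [invol, tau_conj_uni K hn]
  have h1 : (-1 : K) ^ (3 * 3 ^ m + 1) = 1 := by
    rw [pow_succ, pow_mul, Odd.neg_one_pow (show Odd 3 by decide), three_pow_odd]; ring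
  have h2 : (-1 : K) ^ (3 * 3 ^ m + 2) = -1 := by
    rw [pow_succ _ (3 * 3 ^ m + 1), h1, one_mul]
  simp [h1, h2]

theorem commute_invol_H1 {h : GL chevG2.Idx K} (hh : h ∈ H1 K m) : Commute (invol K m) h := by
  obtain ⟨l, rfl⟩ := H1_le K hn hh
  show tau K m (-1) * _ = _ * tau K m (-1)
  rw [← map_mul, ← map_mul, mul_comm]

theorem commute_invol_sRee : Commute (invol K m) (sRee hn) := by
  have h1 := (sRee_conj_H1 hn (invol_mem_H1 hn)).1
  have h2 := invol_unique hn h1 (by
    rw [show sRee hn * invol K m * (sRee hn)⁻¹ * (sRee hn * invol K m * (sRee hn)⁻¹) =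
      sRee hn * (invol K m * invol K m) * (sRee hn)⁻¹ by group, invol_mul_self, mul_one, mul_inv_cancel])
    (fun h => invol_ne_one (conj_eq_one_iff.1 h))
  rw [mul_inv_eq_iff_eq_mul] at h2
  exact h2.symm

theorem commute_invol_uni_iff {t u v : K} :
    Commute (invol K m) (uni K m t u v) ↔ t = 0 ∧ v = 0 := by
  have e := invol_conj_uni hn t u v
  constructor
  · intro h
    rw [h.eq, mul_inv_cancel_right] at e
    obtain ⟨e1, -, e3⟩ := uni_inj K m e
    exact ⟨(mul_eq_zero.1 (show (2 : K) * t = 0 by linear_combination e1)).resolve_left two_ne_zero',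
      (mul_eq_zero.1 (show (2 : K) * v = 0 by linear_combination e3)).resolve_left two_ne_zero'⟩
  · rintro ⟨rfl, rfl⟩
    rw [neg_zero, mul_inv_eq_iff_eq_mul] at e
    exact e

theorem sRee_normal (v : GL chevG2.Idx K) (hv : v ∈ U1 K m) {h : GL chevG2.Idx K} (hh : h ∈ H1 K m) :
    h * sRee hn * v * (h * sRee hn)⁻¹ ∈ chevG2.negUnipotent K := by
  have h1 := (Subgroup.mem_normalizer_iff.1 ((coreG2 K).diagonal_normalizes_neg (Subgroup.mem_inf.1 hh).1) _).1
    (sRee_conj_pos hn (Subgroup.mem_inf.1 hv).1)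
  convert h1 using 1
  group

omit hn in
theorem H_le_N {h : GL chevG2.Idx K} (hh : h ∈ H1 K m) : h ∈ chevG2.monomialSubgroup K :=
  (chevAmbient (coreG2 K)).H_le (Subgroup.mem_inf.1 hh).1

theorem bruhat_unique {u u' h h' v v' : GL chevG2.Idx K} (hu : u ∈ U1 K m) (hu' : u' ∈ U1 K m)
    (hh : h ∈ H1 K m) (hh' : h' ∈ H1 K m) (hv : v ∈ U1 K m) (hv' : v' ∈ U1 K m)
    (e : u * h * sRee hn * v = u' * h' * sRee hn * v') : u = u' ∧ h = h' ∧ v = v' := by
  obtain ⟨e1, e2, e3⟩ := (chevAmbient (coreG2 K)).nf_unique' (Subgroup.mem_inf.1 hu).1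
    (mul_mem (H_le_N hh) (sRee_mem_N hn)) (Subgroup.mem_inf.1 hv).1 (Subgroup.mem_inf.1 hu').1
    (mul_mem (H_le_N hh') (sRee_mem_N hn)) (Subgroup.mem_inf.1 hv').1 (sRee_normal hn v hv hh)
    (sRee_normal hn v' hv' hh') (by simpa only [mul_assoc] using e)
  exact ⟨e1, mul_right_cancel e2, e3⟩

theorem B1_unique {u u' h h' : GL chevG2.Idx K} (hu : u ∈ U1 K m) (hu' : u' ∈ U1 K m)
    (hh : h ∈ H1 K m) (hh' : h' ∈ H1 K m) (e : u * h = u' * h') : u = u' ∧ h = h' := by
  have h2 := (chevAmbient (coreG2 K)).nf_unique u (Subgroup.mem_inf.1 hu).1 h (H_le_N hh) 1 (one_mem _)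
    u' (Subgroup.mem_inf.1 hu').1 h' (H_le_N hh') 1 (one_mem _) (by simpa using e)
  subst h2
  exact ⟨mul_right_cancel e, rfl⟩

/-- An element of the big cell is outside `B1`. -/
theorem sRee_not_mem_B1 : sRee hn ∉ B1 K m := by
  intro h
  have hv : uni K m 0 1 0 ∈ U1 K m := uni_mem_U1 K m _ _ _
  have hy := B1_conj hn h hv
  have := conj_eq_one_iff.1 (B1_inf_neg (Subgroup.mem_inf.1 (U1_le_B1 hy)).1
    (sRee_conj_pos hn (Subgroup.mem_inf.1 hv).1))
  exact one_ne_zero ((uni_eq_one_iff K m).1 this).2.1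

theorem big_not_mem_B1 {u h v : GL chevG2.Idx K} (hu : u ∈ U1 K m) (hh : h ∈ H1 K m) (hv : v ∈ U1 K m) :
    u * h * sRee hn * v ∉ B1 K m := by
  intro hB
  refine sRee_not_mem_B1 hn ?_
  have := mul_mem (mul_mem (inv_mem (mul_mem (U1_le_B1 hu) (H1_le_B1 hh))) hB) (inv_mem (U1_le_B1 hv))
  convert this using 1
  group

/-- `|G1| = q³ (q³ + 1) (q - 1)`. -/
theorem card_G1 : Nat.card ↥(twistedG2 K (3 ^ m)) =
    Fintype.card K ^ 3 * (Fintype.card K - 1) * (Fintype.card K ^ 3 + 1) := by
  classical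
  let f : (↥(U1 K m) × ↥(H1 K m)) ⊕ ((↥(U1 K m) × ↥(H1 K m)) × ↥(U1 K m)) → ↥(twistedG2 K (3 ^ m)) :=
    Sum.elim (fun p => ⟨(p.1 : GL chevG2.Idx K) * p.2, mul_mem (Subgroup.mem_inf.1 p.1.2).2 (Subgroup.mem_inf.1 p.2.2).2⟩)
      (fun p => ⟨(p.1.1 : GL chevG2.Idx K) * p.1.2 * sRee hn * p.2,
        mul_mem (mul_mem (mul_mem (Subgroup.mem_inf.1 p.1.1.2).2 (Subgroup.mem_inf.1 p.1.2.2).2) (sRee_mem hn))
          (Subgroup.mem_inf.1 p.2.2).2⟩)
  have hf : Function.Bijective f := by
    refine ⟨?_, fun g => ?_⟩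
    · rintro (⟨u, h⟩ | ⟨⟨u, h⟩, v⟩) (⟨u', h'⟩ | ⟨⟨u', h'⟩, v'⟩) e <;>
        have e' := congrArg Subtype.val e <;> simp only [f, Sum.elim_inl, Sum.elim_inr] at e'
      · obtain ⟨a, b⟩ := B1_unique hn u.2 u'.2 h.2 h'.2 e'
        rw [Subtype.ext a, Subtype.ext b]
      · exact absurd (e' ▸ mul_mem (U1_le_B1 u.2) (H1_le_B1 h.2)) (big_not_mem_B1 hn u'.2 h'.2 v'.2)
      · exact absurd (e'.symm ▸ mul_mem (U1_le_B1 u'.2) (H1_le_B1 h'.2)) (big_not_mem_B1 hn u.2 h.2 v.2)
      · obtain ⟨a, b, c⟩ := bruhat_unique hn u.2 u'.2 h.2 h'.2 v.2 v'.2 e'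
        rw [Subtype.ext a, Subtype.ext b, Subtype.ext c]
    · rcases bruhat hn g.2 with h | ⟨u, hu, h, hh, v, hv, e⟩
      · obtain ⟨u, hu, h, hh, e⟩ := (mem_B1 hn).1 h
        exact ⟨Sum.inl (⟨u, hu⟩, ⟨h, hh⟩), Subtype.ext e⟩
      · exact ⟨Sum.inr ((⟨u, hu⟩, ⟨h, hh⟩), ⟨v, hv⟩), Subtype.ext e.symm⟩
  rw [← Nat.card_eq_of_bijective f hf, Nat.card_sum, Nat.card_prod, Nat.card_prod, Nat.card_prod,
    card_U1G2 K hn, card_H1 K hn]
  ring

/-- The two-part of `|G1|` is eight. -/
theorem factorization_card : (Nat.card ↥(twistedG2 K (3 ^ m))).factorization 2 = 3 ∧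
    (2 * (Fintype.card K * ((Fintype.card K ^ 2 - 1) / 2))).factorization 2 = 3 := by
  have hq8 : Fintype.card K % 8 = 3 := by
    rw [card_eq K hn, pow_succ, pow_mul, Nat.mul_mod, Nat.pow_mod]
    norm_num
  set q := Fintype.card K with hq
  have key : ∀ n, n ≠ 0 → n % 16 = 8 → n.factorization 2 = 3 := by
    intro n h0 h
    obtain ⟨k, hk⟩ : ∃ k, n = 2 ^ 3 * (2 * k + 1) := ⟨n / 16, by omega⟩
    subst hk
    rw [Nat.factorization_mul (by norm_num) (by omega), Finsupp.add_apply, Nat.Prime.factorization_pow Nat.prime_two,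
      Finsupp.single_eq_same, Nat.factorization_eq_zero_of_not_dvd (by omega), add_zero]
  obtain ⟨j, hj⟩ : ∃ j, q = 8 * j + 3 := ⟨q / 8, by omega⟩
  constructor
  · refine key _ (Nat.card_pos (α := ↥(twistedG2 K (3 ^ m)))).ne' ?_
    rw [card_G1 hn, ← hq]
    rcases (show q % 16 = 3 ∨ q % 16 = 11 by omega) with h | h
    · rw [Nat.mul_mod, Nat.mul_mod (q ^ 3), Nat.add_mod, Nat.pow_mod, h,
        show (q - 1) % 16 = 2 by omega]
    · rw [Nat.mul_mod, Nat.mul_mod (q ^ 3), Nat.add_mod, Nat.pow_mod, h,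
        show (q - 1) % 16 = 10 by omega]
  · have h1 : (q ^ 2 - 1) / 2 = (8 * j + 2) * (4 * j + 2) := by
      rw [hj]
      have : (8 * j + 3) ^ 2 - 1 = 2 * ((8 * j + 2) * (4 * j + 2)) := by
        apply Nat.sub_eq_of_eq_add; ring
      omega
    rw [h1, hj]
    refine key _ (by positivity) ?_
    rw [show 2 * ((8 * j + 3) * ((8 * j + 2) * (4 * j + 2))) = 8 * ((8 * j + 3) * ((4 * j + 1) * (2 * j + 1))) by ring]
    have hodd : Odd ((8 * j + 3) * ((4 * j + 1) * (2 * j + 1))) := by
      refine Odd.mul ⟨4 * j + 1, by ring⟩ (Odd.mul ⟨2 * j, by ring⟩ ⟨j, rfl⟩)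
    obtain ⟨r, hr⟩ := hodd
    rw [hr]
    omega

/-- The word `(x₁ y₁ x₁)²` in the two commuting root pairs. -/
def negOneSL : List CfsgLib.Chev.Letter :=
  ([(8, 1), (10, 1), (3, -1), (1, -1), (8, 1), (10, 1), (8, 1), (10, 1), (3, -1), (1, -1), (8, 1), (10, 1)] :
    List (ℕ × ℤ)).map fun p => ⟨p.1, p.2, 0, 0⟩

omit hn in
theorem negOneSL_check : checkMod CfsgLib.Chev.G2.cert.T 3 negOneSL [] = true := by decide +kernel

/-- The centraliser of the diagonal involution. -/
theorem exists_centralizer_equiv (a : ↥(twistedG2 K (3 ^ m))) (ha : (a : GL chevG2.Idx K) = invol K m) :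
    Nonempty (↥(Subgroup.centralizer {a}) ≃* Multiplicative (ZMod 2) × ProjectiveSpecialLinearGroup (Fin 2) K) ∧
      Nat.card ↥(Subgroup.centralizer {a}) = 2 * (Fintype.card K * ((Fintype.card K ^ 2 - 1) / 2)) := by
  classical
  obtain ⟨ψ, hX, hY, hmem, hdiag⟩ := exists_psi K m
  have hUa : ∀ u : K, uni K m 0 u 0 = ψ (ChevCore.slX u) := fun u => (hX u).symm
  have hcent : ∀ g, ψ g * invol K m = invol K m * ψ g := by
    refine ChevCore.sl_decomp (fun g => ψ g * invol K m = invol K m * ψ g) (fun u => ?_) (fun u => ?_)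
      (fun x y hx hy => by rw [map_mul, mul_assoc, hy, ← mul_assoc, hx, mul_assoc])
    · rw [← hUa]; exact ((commute_invol_uni_iff hn).2 ⟨rfl, rfl⟩).symm
    · rw [hY, reeWordV_eq]
      have hc : ∀ (s : ℕ), s < 12 → chr K (tauVec K m (-1)) s = 1 → ∀ x : K,
          Commute (invol K m) ((coreG2 K).xGL s x) := by
        intro s hs h1 x
        have := tau_conj K m (-1) hs x
        rw [h1, Units.val_one, one_mul, mul_inv_eq_iff_eq_mul] at this
        exact this
      obtain ⟨-, -, -, -, c1, c2, -, -, c5, c6, -, -⟩ := cartan_vals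
      have hcv : chevG2.cartan 0 3 = 1 ∧ chevG2.cartan 1 3 = -1 ∧ chevG2.cartan 0 1 = -3 ∧
          chevG2.cartan 1 1 = 1 := by decide +kernel
      have h3 : chr K (tauVec K m (-1)) g2mab = 1 := by
        rw [chr_eq K _ (show g2mab < 12 by decide), show g2mab = 3 from rfl, hcv.1, hcv.2.1]
        simp [tauVec, Odd.neg_one_pow (Odd.pow (show Odd 3 by decide) : Odd (3 ^ m)),
          Odd.neg_one_pow (show Odd 3 by decide)]
      have h1 : chr K (tauVec K m (-1)) g2maaab = 1 := by
        rw [chr_eq K _ (show g2maaab < 12 by decide), show g2maaab = 1 from rfl, hcv.2.2.1, hcv.2.2.2]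
        simp [tauVec, Odd.neg_one_pow (Odd.pow (show Odd 3 by decide) : Odd (3 ^ m)),
          Odd.neg_one_pow (show Odd 3 by decide)]
      have z0 : ∀ e : ℕ, (0 : K) ^ (e + 1) = 0 := fun e => zero_pow e.succ_ne_zero
      have z1 : (0 : K) ^ 3 ^ m = 0 := zero_pow (Nat.pow_pos (by norm_num)).ne'
      simp only [ChevCore.wordGL_cons, ChevCore.wordGL_nil, z0, z1, neg_zero, add_zero, zero_add,
        (coreG2 K).xGL_zero, one_mul, mul_one]
      exact (((hc g2mab (by decide) h3 _).mul_right (hc g2maaab (by decide) h1 _))).symm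
  -- membership in the centraliser
  have hmemC : ∀ g : ↥(twistedG2 K (3 ^ m)), g ∈ Subgroup.centralizer {a} ↔ Commute (invol K m) (g : GL chevG2.Idx K) := by
    intro g
    rw [Subgroup.mem_centralizer_singleton_iff]
    constructor
    · intro h
      have h' := congrArg Subtype.val h
      simp only [Subgroup.coe_mul, ha] at h'
      exact h'.symm
    · intro h
      apply Subtype.ext
      simp only [Subgroup.coe_mul, ha]
      exact h.eq.symm
  -- upper bound
  set q := Fintype.card K with hq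
  have hupper : Nat.card ↥(Subgroup.centralizer {a}) ≤ q * (q - 1) * (q + 1) := by
    let f : (K × Kˣ) ⊕ ((K × Kˣ) × K) → GL chevG2.Idx K := Sum.elim
      (fun p => uni K m 0 p.1 0 * tau K m p.2)
      (fun p => uni K m 0 p.1.1 0 * tau K m p.1.2 * sRee hn * uni K m 0 p.2 0)
    have hsub : ∀ g : ↥(twistedG2 K (3 ^ m)), g ∈ Subgroup.centralizer {a} →
        (g : GL chevG2.Idx K) ∈ Set.range f := by
      intro g hg
      have hc := (hmemC g).1 hg
      rcases bruhat hn g.2 with h | ⟨u, hu, h, hh, v, hv, e⟩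
      · obtain ⟨u, hu, h, hh, e⟩ := (mem_B1 hn).1 h
        have hcu : Commute (invol K m) u := by
          have := hc.mul_right (commute_invol_H1 hn hh).inv_right
          rwa [← e, mul_inv_cancel_right] at this
        obtain ⟨t, x, y, rfl⟩ := exists_uni K hn hu
        obtain ⟨rfl, rfl⟩ := (commute_invol_uni_iff hn).1 hcu
        obtain ⟨l, rfl⟩ := H1_le K hn hh
        exact ⟨Sum.inl (x, l), e⟩
      · have hconj : ∀ {x}, x ∈ U1 K m → invol K m * x * (invol K m)⁻¹ ∈ U1 K m :=
          fun hx => H1_conj_U1' (invol_mem_H1 hn) hx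
        have e' : u * h * sRee hn * v =
            invol K m * u * (invol K m)⁻¹ * h * sRee hn * (invol K m * v * (invol K m)⁻¹) := by
          calc u * h * sRee hn * v = invol K m * (g : GL chevG2.Idx K) * (invol K m)⁻¹ := by
                rw [hc.eq, mul_inv_cancel_right, e]
            _ = invol K m * u * (invol K m)⁻¹ * (invol K m * h * (invol K m)⁻¹) *
                (invol K m * sRee hn * (invol K m)⁻¹) * (invol K m * v * (invol K m)⁻¹) := by
                rw [e]; group
            _ = _ := by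
                rw [(commute_invol_H1 hn hh).eq, mul_inv_cancel_right, (commute_invol_sRee hn).eq,
                  mul_inv_cancel_right]
        obtain ⟨e1, -, e3⟩ := bruhat_unique hn hu (hconj hu) hh hh hv (hconj hv) e'
        have hcu : Commute (invol K m) u := (eq_mul_inv_iff_mul_eq.1 e1).symm
        have hcv : Commute (invol K m) v := (eq_mul_inv_iff_mul_eq.1 e3).symm
        obtain ⟨t, x, y, rfl⟩ := exists_uni K hn hu
        obtain ⟨t', x', y', rfl⟩ := exists_uni K hn hv
        obtain ⟨rfl, rfl⟩ := (commute_invol_uni_iff hn).1 hcu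
        obtain ⟨rfl, rfl⟩ := (commute_invol_uni_iff hn).1 hcv
        obtain ⟨l, rfl⟩ := H1_le K hn hh
        exact ⟨Sum.inr ((x, l), x'), e.symm⟩
    let i : ↥(Subgroup.centralizer {a}) → Set.range f := fun g => ⟨(g.1 : GL chevG2.Idx K), hsub g.1 g.2⟩
    have hi : Function.Injective i := fun x y e => Subtype.ext (Subtype.ext (congrArg Subtype.val e :))
    refine (Nat.card_le_card_of_injective i hi).trans ((Finite.card_range_le f).trans ?_)
    rw [Nat.card_sum, Nat.card_prod, Nat.card_prod, Nat.card_prod, Nat.card_eq_fintype_card (α := Kˣ),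
      Fintype.card_units, Nat.card_eq_fintype_card (α := K), ← hq]
    exact le_of_eq (by ring)
  -- the homomorphism
  let ψ' : SpecialLinearGroup (Fin 2) K →* ↥(Subgroup.centralizer {a}) :=
    { toFun := fun g => ⟨⟨ψ g, hmem g⟩, (hmemC _).2 (hcent g).symm⟩
      map_one' := Subtype.ext (Subtype.ext (map_one ψ))
      map_mul' := fun g h => Subtype.ext (Subtype.ext (map_mul ψ g h)) }
  have hneg : ψ (-1) = 1 := by
    have e : (-1 : SpecialLinearGroup (Fin 2) K) = (ChevCore.slX 1 * ChevCore.slY (-1) * ChevCore.slX 1) *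
        (ChevCore.slX 1 * ChevCore.slY (-1) * ChevCore.slX 1) := by
      refine Matrix.SpecialLinearGroup.ext _ _ fun x y => ?_
      fin_cases x <;> fin_cases y <;> simp [Matrix.mul_apply, Fin.sum_univ_two]
    have h := wordMat_eq_of_checkMod (D := chevG2) (F := K) (p := 3) CfsgLib.Chev.G2.cert.hv negOneSL_check
    have e1 : (coreG2 K).wordGL (negOneSL.map fun L => (L.r, (L.c : K))) = 1 :=
      Units.ext (by rw [ChevCore.coe_wordGL, h]; simp [ChevalleyDatum.wordMat])
    have z0 : ∀ e : ℕ, (0 : K) ^ (e + 1) = 0 := fun e => zero_pow e.succ_ne_zero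
    have z1 : (0 : K) ^ 3 ^ m = 0 := zero_pow (Nat.pow_pos (by norm_num)).ne'
    simp only [negOneSL, List.map_cons, List.map_nil, ChevCore.wordGL_cons, ChevCore.wordGL_nil] at e1
    simp only [Int.cast_one, Int.cast_neg] at e1
    rw [e, map_mul, map_mul, map_mul, hX, hY, neg_neg, reeWordV_eq]
    simpa [reeWordU, ChevCore.wordGL_cons, ChevCore.wordGL_nil, (coreG2 K).xGL_zero, z0, z1,
      g2a, g2b, g2ab, g2aab, g2aaab, g2aaabb, g2ma, g2mb, g2mab, g2maab, g2maaab, g2maaabb, mul_assoc] using e1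
  have hUinj : ∀ t, ψ (ChevCore.slX t) = 1 → t = 0 := fun t h =>
    ((uni_eq_one_iff K m).1 ((hUa t).trans h)).2.1
  have hker : ∀ g, ψ g = 1 → g = 1 ∨ g = -1 := by
    intro g hg
    set A : Matrix (Fin 2) (Fin 2) K := (g : Matrix (Fin 2) (Fin 2) K) with hA
    have hd : A 0 0 * A 1 1 - A 0 1 * A 1 0 = 1 := ChevCore.sl_det g
    by_cases hc : A 1 0 = 0
    · rw [hc, mul_zero, sub_zero] at hd
      have ha0 : A 0 0 ≠ 0 := left_ne_zero_of_mul_eq_one hd
      set l : Kˣ := Units.mk0 (A 0 0) ha0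
      let D : SpecialLinearGroup (Fin 2) K :=
        ⟨!![(l : K), 0; 0, ((l⁻¹ : Kˣ) : K)], by simp [det_fin_two]⟩
      have hD : (D : Matrix (Fin 2) (Fin 2) K) = !![A 0 0, 0; 0, (A 0 0)⁻¹] := by simp [D, l]
      have hgD : g = D * ChevCore.slX (A 0 1 / A 0 0) := by
        refine Matrix.SpecialLinearGroup.ext _ _ fun x y => ?_
        show A x y = ((D : Matrix (Fin 2) (Fin 2) K) * !![1, A 0 1 / A 0 0; 0, 1]) x y
        rw [hD]
        fin_cases x <;> fin_cases y <;> simp [Matrix.mul_apply, Fin.sum_univ_two, hc, mul_div_cancel₀ _ ha0]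
        exact eq_inv_of_mul_eq_one_right hd
      obtain ⟨c, hc1, hc2⟩ := hdiag l D rfl
      rw [hgD, map_mul] at hg
      have h1 : ψ D = 1 := by
        have hU : ψ D ∈ chevG2.posUnipotent K := by
          rw [eq_inv_of_mul_eq_one_left hg]
          exact inv_mem ((hUa _) ▸ (Subgroup.mem_inf.1 (uni_mem_U1 K m 0 _ 0)).1)
        refine (Subgroup.eq_bot_iff_forall _).1 (coreG2 K).posUnipotent_inf_diagonal _ (Subgroup.mem_inf.2 ⟨hU, ?_⟩)
        rw [hc1, (coreG2 K).diagonalSubgroup_eq]
        exact ⟨c, rfl⟩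
      rw [h1, one_mul] at hg
      have hb : A 0 1 = 0 := by simpa [div_eq_zero_iff, ha0] using hUinj _ hg
      have h2 := hc2 1
      rw [h1, one_mul, inv_one, mul_one] at h2
      have h3 := (coreG2 K).xGL_injective (show g2ab < chevG2.nroots by decide) h2
      rw [mul_one, ← pow_mul, mul_comm, pow_mul] at h3
      have h4 : (l : K) ^ 2 = 1 := iterateFrobenius_inj K 3 m (by
        rw [iterateFrobenius_def, iterateFrobenius_def, one_pow]; exact h3.symm)
      rcases sq_eq_one_iff.1 h4 with h | h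
      · left
        refine Matrix.SpecialLinearGroup.ext _ _ fun x y => ?_
        show A x y = _
        have h11 : A 1 1 = 1 := by rw [show A 0 0 = (l : K) from rfl, h, one_mul] at hd; exact hd
        fin_cases x <;> fin_cases y <;> simp [hc, hb, h11, show A 0 0 = (l : K) from rfl, h]
      · right
        refine Matrix.SpecialLinearGroup.ext _ _ fun x y => ?_
        show A x y = _
        have h11 : A 1 1 = -1 := by
          rw [show A 0 0 = (l : K) from rfl, h] at hd
          linear_combination -hd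
        fin_cases x <;> fin_cases y <;> simp [hc, hb, h11, show A 0 0 = (l : K) from rfl, h]
    · exfalso
      let M : SpecialLinearGroup (Fin 2) K := ⟨!![0, -(A 1 0)⁻¹; A 1 0, 0], by simp [det_fin_two, hc]⟩
      have hgM : g = ChevCore.slX (A 0 0 / A 1 0) * M * ChevCore.slX (A 1 1 / A 1 0) := by
        refine Matrix.SpecialLinearGroup.ext _ _ fun x y => ?_
        show A x y = (!![1, A 0 0 / A 1 0; 0, 1] * !![0, -(A 1 0)⁻¹; A 1 0, 0] * !![1, A 1 1 / A 1 0; 0, 1]) x y
        fin_cases x <;> fin_cases y <;> simp [Matrix.mul_apply, Fin.sum_univ_two, div_mul_cancel₀ _ hc]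
        · field_simp
          linear_combination -hd
        · rw [mul_div_cancel₀ _ hc]
      rw [hgM, map_mul, map_mul, mul_assoc, mul_eq_one_iff_eq_inv'] at hg
      have hMU : ∃ w, ψ M = ψ (ChevCore.slX w) := by
        refine ⟨-(A 0 0 / A 1 0 + A 1 1 / A 1 0), ?_⟩
        have e : ∀ x y : K, ChevCore.slX (x + y) = ChevCore.slX x * (ChevCore.slX y : SpecialLinearGroup (Fin 2) K) := by
          intro x y
          refine Matrix.SpecialLinearGroup.ext _ _ fun i j => ?_
          fin_cases i <;> fin_cases j <;> simp [Matrix.mul_apply, Fin.sum_univ_two, add_comm]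
        have einv : ∀ x : K, ψ (ChevCore.slX (-x)) = (ψ (ChevCore.slX x))⁻¹ := fun x => by
          refine eq_inv_of_mul_eq_one_left ?_
          rw [← map_mul, ← e, neg_add_cancel, hX, ← uni, uni_zero]
        rw [neg_add, e, map_mul, einv, einv, ← hg, mul_inv_cancel_right]
      obtain ⟨w, hw⟩ := hMU
      have e1 : M * ChevCore.slX 1 = ChevCore.slY (-(A 1 0 ^ 2)) * M := by
        refine Matrix.SpecialLinearGroup.ext _ _ fun x y => ?_
        show (!![0, -(A 1 0)⁻¹; A 1 0, 0] * !![1, (1 : K); 0, 1]) x y = (!![1, 0; -(A 1 0 ^ 2), 1] * !![0, -(A 1 0)⁻¹; A 1 0, 0]) x y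
        fin_cases x <;> fin_cases y <;> simp [Matrix.mul_apply, Fin.sum_univ_two]
        field_simp
      have e2 := congrArg ψ e1
      rw [map_mul, map_mul, hw, ← map_mul, show ChevCore.slX w * ChevCore.slX (1 : K) = ChevCore.slX 1 * ChevCore.slX w by
        refine Matrix.SpecialLinearGroup.ext _ _ fun i j => ?_
        fin_cases i <;> fin_cases j <;> simp [Matrix.mul_apply, Fin.sum_univ_two, add_comm], map_mul] at e2
      have e3 := mul_right_cancel e2
      have hV : ψ (ChevCore.slX 1) ∈ chevG2.negUnipotent K := by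
        rw [e3, hY, reeWordV_eq, (coreG2 K).negUnipotent_eq]
        refine (coreG2 K).wordGL_mem_Ucl fun p hp => ?_
        have h : ∀ r ∈ [g2ma, g2mb, g2mab, g2maab, g2maaab, g2maaabb], chevG2.IsNegRoot r := by decide +kernel
        refine h _ ?_
        simp only [List.mem_cons, List.not_mem_nil, or_false] at hp
        rcases hp with rfl | rfl | rfl | rfl | rfl | rfl <;> simp
      exact one_ne_zero (hUinj 1 (B1_inf_neg (le_sup_left (b := chevG2.diagonalSubgroup K)
        ((hUa (1 : K)) ▸ (Subgroup.mem_inf.1 (uni_mem_U1 K m 0 1 0)).1)) hV))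
  have hcen : ∀ g : SpecialLinearGroup (Fin 2) K, g ∈ Subgroup.center _ ↔ g = 1 ∨ g = -1 := by
    intro g
    rw [CfsgLib.SpecLin.SLTwo.mem_center_iff']
    constructor
    · rintro (h | h)
      · exact Or.inl (Subtype.ext h)
      · exact Or.inr (Subtype.ext (h.trans (by simp)))
    · rintro (rfl | rfl) <;> simp
  have hle : Subgroup.center (SpecialLinearGroup (Fin 2) K) ≤ ψ'.ker := by
    intro g hg
    rw [MonoidHom.mem_ker]
    apply Subtype.ext; apply Subtype.ext
    rcases (hcen g).1 hg with rfl | rfl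
    · exact map_one ψ
    · exact hneg
  let Ψ : ProjectiveSpecialLinearGroup (Fin 2) K →* ↥(Subgroup.centralizer {a}) :=
    QuotientGroup.lift _ ψ' hle
  have haC : a ∈ Subgroup.centralizer {a} := Subgroup.mem_centralizer_singleton_iff.2 rfl
  have ha2 : (⟨a, haC⟩ : ↥(Subgroup.centralizer {a})) ^ 2 = 1 := by
    apply Subtype.ext; apply Subtype.ext
    simp only [SubmonoidClass.coe_pow, pow_two, Subgroup.coe_mul, ha, invol_mul_self, OneMemClass.coe_one]
  let A : Multiplicative (ZMod 2) →* ↥(Subgroup.centralizer {a}) :=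
    MonoidHom.mk' (fun x => ⟨a, haC⟩ ^ (Multiplicative.toAdd x).val) fun x y => by
      show _ ^ (Multiplicative.toAdd x + Multiplicative.toAdd y).val = _
      rw [ZMod.val_add, ← pow_eq_pow_mod _ ha2, pow_add]
  have hAc : ∀ x g, Commute (A x) (Ψ g) := by
    intro x g
    obtain ⟨g, rfl⟩ := QuotientGroup.mk_surjective g
    refine Commute.pow_left ?_ _
    apply Subtype.ext; apply Subtype.ext
    show (a : GL chevG2.Idx K) * ψ g = ψ g * (a : GL chevG2.Idx K)
    rw [ha]; exact (hcent g).symm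
  let Φ := MonoidHom.noncommCoprod A Ψ hAc
  have hΦ : Function.Injective Φ := by
    refine (injective_iff_map_eq_one Φ).2 ?_
    rintro ⟨x, p⟩ hp
    obtain ⟨g, rfl⟩ := QuotientGroup.mk_surjective p
    rw [MonoidHom.noncommCoprod_apply] at hp
    have hp' := congrArg (fun z : ↥(Subgroup.centralizer {a}) => ((z : ↥(twistedG2 K (3 ^ m))) : GL chevG2.Idx K)) hp
    have hfin : ∀ z : ZMod 2, z = 0 ∨ z = 1 := by decide
    rcases hfin (Multiplicative.toAdd x) with h0 | h1
    · have hx : x = 1 := Multiplicative.toAdd.injective h0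
      subst hx
      simp only [map_one, one_mul] at hp'
      have : ψ g = 1 := hp'
      refine Prod.ext rfl ((QuotientGroup.eq_one_iff g).2 ((hcen g).2 (hker g this)))
    · exfalso
      have hg : invol K m * ψ g = 1 := by
        have hAx : A x = ⟨a, haC⟩ := by
          show (⟨a, haC⟩ : ↥(Subgroup.centralizer {a})) ^ (Multiplicative.toAdd x).val = _
          rw [h1, ZMod.val_one, pow_one]
        rw [hAx] at hp
        rw [← ha]
        exact congrArg (fun z : ↥(Subgroup.centralizer {a}) => ((z : ↥(twistedG2 K (3 ^ m))) : GL chevG2.Idx K)) hp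
      have hψg : ψ g = invol K m := by
        rw [eq_comm]; calc invol K m = invol K m * (invol K m * ψ g) := by rw [hg, mul_one]
          _ = ψ g := by rw [← mul_assoc, invol_mul_self, one_mul]
      have hcg : g ∈ Subgroup.center (SpecialLinearGroup (Fin 2) K) := by
        have hcm : ∀ t : K, g * ChevCore.slX t = ChevCore.slX t * g ∧ g * ChevCore.slY t = ChevCore.slY t * g := by
          intro t
          have key : ∀ x : SpecialLinearGroup (Fin 2) K, (x : Matrix (Fin 2) (Fin 2) K).trace = 2 → g * x = x * g := by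
            intro x hx
            have h : ψ (g * x * g⁻¹ * x⁻¹) = 1 := by
              rw [map_mul, map_mul, map_mul, map_inv, map_inv, hψg, ← hcent x]; group
            rcases hker _ h with h | h
            · rw [mul_inv_eq_one, mul_inv_eq_iff_eq_mul] at h
              exact h
            · exfalso
              rw [mul_inv_eq_iff_eq_mul] at h
              have htr : ((g * x * g⁻¹ : SpecialLinearGroup (Fin 2) K) : Matrix (Fin 2) (Fin 2) K).trace = 2 := by
                show ((g : Matrix (Fin 2) (Fin 2) K) * (x : Matrix (Fin 2) (Fin 2) K) *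
                  ((g⁻¹ : SpecialLinearGroup (Fin 2) K) : Matrix (Fin 2) (Fin 2) K)).trace = 2
                have e : ((g⁻¹ : SpecialLinearGroup (Fin 2) K) : Matrix (Fin 2) (Fin 2) K) *
                    (g : Matrix (Fin 2) (Fin 2) K) = 1 :=
                  congrArg Subtype.val (inv_mul_cancel g)
                rw [Matrix.trace_mul_comm, ← mul_assoc, e, one_mul, hx]
              rw [h, neg_one_mul, SpecialLinearGroup.coe_neg, Matrix.trace_neg, hx] at htr
              have h4 : (2 : K) * 2 = 0 := by linear_combination -htr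
              exact two_ne_zero' (K := K) ((mul_eq_zero.1 h4).elim id id)
          exact ⟨key _ (by simp [Matrix.trace_fin_two, one_add_one_eq_two]),
            key _ (by simp [Matrix.trace_fin_two, one_add_one_eq_two])⟩
        refine Subgroup.mem_center_iff.2 ?_
        refine ChevCore.sl_decomp (fun x => x * g = g * x) (fun t => ((hcm t).1).symm) (fun t => ((hcm t).2).symm)
          (fun x y hx hy => by rw [mul_assoc, hy, ← mul_assoc, hx, mul_assoc])
      rcases (hcen g).1 hcg with rfl | rfl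
      · rw [map_one] at hψg; exact invol_ne_one hψg.symm
      · rw [hneg] at hψg; exact invol_ne_one hψg.symm
  have hsl : Nat.card (SpecialLinearGroup (Fin 2) K) = q * (q ^ 2 - 1) := CfsgLib.SpecLin.SLTwo.card_sl_two
  have hcc : Nat.card (Subgroup.center (SpecialLinearGroup (Fin 2) K)) = 2 := by
    rw [Nat.card_eq_two_iff]
    refine ⟨1, ⟨-1, (hcen _).2 (Or.inr rfl)⟩, fun e => ?_, ?_⟩
    · have h := congrFun (congrFun (congrArg (fun z : ↥(Subgroup.center (SpecialLinearGroup (Fin 2) K)) => ((z : SpecialLinearGroup (Fin 2) K) : Matrix (Fin 2) (Fin 2) K)) e) 0) 0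
      simp at h
      exact neg_one_ne_one (K := K) h.symm
    · refine Set.eq_univ_of_forall fun z => ?_
      rcases (hcen z.1).1 z.2 with e | e
      · exact Or.inl (Subtype.ext e)
      · exact Or.inr (Subtype.ext e)
  have hpsl : 2 * Nat.card (ProjectiveSpecialLinearGroup (Fin 2) K) = q * (q ^ 2 - 1) := by
    rw [← hsl, Subgroup.card_eq_card_quotient_mul_card_subgroup (Subgroup.center (SpecialLinearGroup (Fin 2) K)), hcc, mul_comm]
  have hdom : Nat.card (Multiplicative (ZMod 2) × ProjectiveSpecialLinearGroup (Fin 2) K) = q * (q ^ 2 - 1) := by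
    rw [Nat.card_prod, ← hpsl, Nat.card_congr Multiplicative.toAdd, Nat.card_zmod]
  have hfact : q * (q ^ 2 - 1) = q * (q - 1) * (q + 1) := by
    rw [mul_assoc, ← one_pow 2, Nat.sq_sub_sq]
    ring
  have hbij : Function.Bijective Φ := by
    refine (Nat.bijective_iff_injective_and_card Φ).2 ⟨hΦ, le_antisymm (Nat.card_le_card_of_injective Φ hΦ) ?_⟩
    rw [hdom, hfact]; exact hupper
  refine ⟨⟨(MulEquiv.ofBijective Φ hbij).symm⟩, ?_⟩
  rw [← Nat.card_eq_of_bijective Φ hbij, Nat.card_prod, Nat.card_congr Multiplicative.toAdd, Nat.card_zmod]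
  congr 1
  obtain ⟨k, hk⟩ : 2 ∣ q ^ 2 - 1 := by
    have h4 := card_odd K hn
    rw [← Nat.modEq_iff_dvd' (Nat.one_le_pow _ _ Fintype.card_pos), Nat.ModEq, Nat.pow_mod,
      show q % 2 = 1 by omega]
  rw [hk, Nat.mul_div_cancel_left k (by norm_num)]
  rw [hk] at hpsl
  exact Nat.eq_of_mul_eq_mul_left (by norm_num : 0 < 2) (by rw [hpsl]; ring)

end CfsgLib.SmallRee
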