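import Cfsg.Agent.Lib.SmallRee.InvolutionClass
import Cfsg.Agent.Lib.PSL2.Involution
import Cfsg.Agent.Lib.PSL2.MinimalSimple
import Cfsg.Agent.S0807
import Cfsg.Agent.S0992
import Cfsg.Agent.Lib.ClassicalGroups.SL2

/-!
The involutions and the Sylow 2-subgroups of a small Ree group: one class of involutions,
self-centralising Sylow 2-subgroups of order 8 with normaliser of order 168.
-/

set_option autoImplicit false

namespace CfsgLib.SmallRee

open Cfsg.Lie CfsgLib.ChevStr CfsgLib.Twisted Matrix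
open scoped MatrixGroups

section Psl

variable {F : Type*} [Field F] [Fintype F]

local notation "PSL" => ProjectiveSpecialLinearGroup (Fin 2) F

/-- The centre of `PSL₂(q)`, `q ≥ 4`, is trivial. -/
theorem psl_center_eq_bot (h4 : 4 ≤ Fintype.card F) : Subgroup.center PSL = ⊥ := by
  obtain ⟨-, hs, hnc⟩ := CfsgLib.PSL2.psl_not_solvable h4
  refine ((Subgroup.center PSL).normal_of_characteristic.eq_bot_or_eq_top).resolve_right fun h => hnc ?_
  exact ⟨⟨fun a b => ((Subgroup.mem_center_iff.1 (h ▸ Subgroup.mem_top a : a ∈ Subgroup.center PSL)) b).symm⟩⟩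

/-- A Klein four-group of `PSL₂(q)`, `q ≡ 3, 5 (mod 8)`, is self-centralising with normaliser of order 12. -/
theorem psl_klein_normalizer (h4 : 4 ≤ Fintype.card F) (h8 : Fintype.card F % 8 = 3 ∨ Fintype.card F % 8 = 5)
    (T : Sylow 2 PSL) :
    Subgroup.centralizer ((T : Subgroup PSL) : Set PSL) = T ∧
      Nat.card (Subgroup.normalizer ((T : Subgroup PSL) : Set PSL)) = 12 := by
  classical
  obtain ⟨-, hs, hnc⟩ := CfsgLib.PSL2.psl_not_solvable h4
  have hkl : ∀ P : Sylow 2 PSL, IsKleinFour (P : Subgroup PSL) :=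
    fun P => CfsgLib.ClassicalGroups.SL2.psl_sylow_two_klein rfl h8 P
  have hT4 : Nat.card (T : Subgroup PSL) = 4 := (hkl T).card_four
  have hfac : 2 ^ (Nat.card PSL).factorization 2 = 4 := by rw [← T.card_eq_multiplicity, hT4]
  have hodd : Odd (Fintype.card F) := by rw [Nat.odd_iff]; omega
  let eK : Sylow 2 PSL ≃ {V : Subgroup PSL // IsKleinFour V} :=
    { toFun := fun P => ⟨P, hkl P⟩
      invFun := fun V => Sylow.ofCard (p := 2) V.1 (by rw [hfac]; exact V.2.card_four)
      left_inv := fun P => Sylow.ext rfl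
      right_inv := fun V => Subtype.ext rfl }
  have h12 := Cfsg.Agent.S0807.result (F := F) rfl hodd
  rw [← Nat.card_congr eK, T.card_eq_index_normalizer] at h12
  have hN : Nat.card (Subgroup.normalizer ((T : Subgroup PSL) : Set PSL)) = 12 := by
    have h := (Subgroup.normalizer ((T : Subgroup PSL) : Set PSL)).card_mul_index
    rw [← h12] at h
    exact Nat.eq_of_mul_eq_mul_right (Nat.pos_of_ne_zero Subgroup.index_ne_zero_of_finite) h
  refine ⟨?_, hN⟩
  have h2 : Even (Nat.card PSL) := by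
    rw [even_iff_two_dvd]
    exact (show 2 ∣ 4 by norm_num).trans (hT4 ▸ Subgroup.card_subgroup_dvd_card (T : Subgroup PSL))
  have h8' : ¬ 8 ∣ Nat.card PSL := fun h => by
    have := (Nat.Prime.pow_dvd_iff_le_factorization Nat.prime_two Nat.card_pos.ne').1 (show 2 ^ 3 ∣ Nat.card PSL from h)
    have h' : 2 ^ 3 ≤ 2 ^ (Nat.card PSL).factorization 2 := Nat.pow_le_pow_right (by norm_num) this
    omega
  obtain ⟨-, hrel⟩ := Cfsg.Agent.S0992.result hnc h2 h8' T
  have hle : Subgroup.centralizer ((T : Subgroup PSL) : Set PSL) ≤ Subgroup.normalizer ((T : Subgroup PSL) : Set PSL) :=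
    CfsgLib.Small.centralizer_le_normalizer' _
  have hC : Nat.card (Subgroup.centralizer ((T : Subgroup PSL) : Set PSL)) = 4 := by
    have h := Subgroup.card_mul_index ((Subgroup.centralizer ((T : Subgroup PSL) : Set PSL)).subgroupOf
      (Subgroup.normalizer ((T : Subgroup PSL) : Set PSL)))
    rw [show Subgroup.index _ = 3 from hrel, Nat.card_congr (Subgroup.subgroupOfEquivOfLe hle).toEquiv, hN] at h
    omega
  have hTC : (T : Subgroup PSL) ≤ Subgroup.centralizer ((T : Subgroup PSL) : Set PSL) := by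
    intro x hx
    rw [Subgroup.mem_centralizer_iff]
    intro y hy
    exact congrArg Subtype.val
      ((@IsKleinFour.isMulCommutative _ _ (hkl T)).is_comm.comm (⟨y, hy⟩ : (T : Subgroup PSL)) ⟨x, hx⟩)
  exact (Subgroup.eq_of_le_of_card_ge hTC (le_of_eq (hC.trans hT4.symm))).symm

end Psl

/-- A group with involution centraliser `Z₂ × PSL₂(q)` of two-part `8`. -/
theorem sylow_two_of_centralizer {G : Type*} [Group G] [Finite G] {F : Type*} [Field F] [Fintype F]
    (h4 : 4 ≤ Fintype.card F) (h8 : Fintype.card F % 8 = 3 ∨ Fintype.card F % 8 = 5)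
    (hG : (Nat.card G).factorization 2 = 3) (S : Sylow 2 G) {s : G}
    (hs : s ∈ Subgroup.centralizer ((S : Subgroup G) : Set G)) (hsS : s ∈ S)
    (e : ↥(Subgroup.centralizer {s}) ≃* Multiplicative (ZMod 2) × ProjectiveSpecialLinearGroup (Fin 2) F) :
    Subgroup.centralizer ((S : Subgroup G) : Set G) = S ∧
      Nat.card ↥((Subgroup.centralizer {s}).subgroupOf (Subgroup.normalizer ((S : Subgroup G) : Set G))) = 24 := by
  classical
  set C : Subgroup G := Subgroup.centralizer {s} with hC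
  have hSC : (S : Subgroup G) ≤ C := fun x hx => by
    rw [hC, Subgroup.mem_centralizer_singleton_iff]
    exact Subgroup.mem_centralizer_iff.1 hs x hx
  set P : Subgroup C := (S : Subgroup G).subgroupOf C with hP
  set Q := P.map e.toMonoidHom with hQ
  have hS8 : Nat.card (S : Subgroup G) = 8 := by rw [S.card_eq_multiplicity, hG]; rfl
  have hP8 : Nat.card P = 8 := by rw [hP, Nat.card_congr (Subgroup.subgroupOfEquivOfLe hSC).toEquiv, hS8]
  have hQ8 : Nat.card Q = 8 := by rw [hQ, Subgroup.card_map_of_injective (K := P) e.injective, hP8]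
  have hV : IsPGroup 2 ↥(Q.map (MonoidHom.snd _ _)) := (IsPGroup.of_card (show Nat.card Q = 2 ^ 3 from hQ8)).map _
  obtain ⟨T, hT⟩ := hV.exists_le_sylow
  obtain ⟨hcT, hnT⟩ := psl_klein_normalizer h4 h8 T
  have hT4 : Nat.card (T : Subgroup (ProjectiveSpecialLinearGroup (Fin 2) F)) = 4 :=
    (CfsgLib.ClassicalGroups.SL2.psl_sylow_two_klein rfl h8 T).card_four
  have hQeq : Q = (⊤ : Subgroup (Multiplicative (ZMod 2))).prod T := by
    refine Subgroup.eq_of_le_of_card_ge (fun x hx => ⟨Subgroup.mem_top _, hT ⟨x, hx, rfl⟩⟩) ?_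
    rw [Nat.card_congr (Subgroup.prodEquiv _ _).toEquiv, Nat.card_prod, Subgroup.card_top, hT4, hQ8,
      Nat.card_eq_fintype_card]
    simp
  have hmemQ : ∀ x : C, (x : G) ∈ (S : Subgroup G) ↔ (e x).2 ∈ (T : Subgroup (ProjectiveSpecialLinearGroup (Fin 2) F)) := by
    intro x
    constructor
    · intro hx
      exact hT ⟨e x, ⟨x, hx, rfl⟩, rfl⟩
    · intro hx
      obtain ⟨y, hy, hxy⟩ : e x ∈ Q := hQeq ▸ (⟨Subgroup.mem_top _, hx⟩ : e x ∈ (⊤ : Subgroup (Multiplicative (ZMod 2))).prod T)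
      exact e.injective hxy ▸ hy
  constructor
  · refine le_antisymm (fun x hx => ?_) (fun x hx => ?_)
    · have hxC : x ∈ C := by
        rw [hC, Subgroup.mem_centralizer_singleton_iff]
        exact (Subgroup.mem_centralizer_iff.1 hx s hsS).symm
      refine (hmemQ ⟨x, hxC⟩).2 ?_
      rw [← hcT, Subgroup.mem_centralizer_iff]
      intro t ht
      obtain ⟨y, hy, hxy⟩ : ((1 : Multiplicative (ZMod 2)), t) ∈ Q :=
        hQeq ▸ (⟨Subgroup.mem_top _, ht⟩ : ((1 : Multiplicative (ZMod 2)), t) ∈ (⊤ : Subgroup _).prod T)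
      have h1 : y * ⟨x, hxC⟩ = ⟨x, hxC⟩ * y := Subtype.ext (Subgroup.mem_centralizer_iff.1 hx y hy)
      have h2 := congrArg (fun z => (e z).2) h1
      simp only [map_mul, Prod.snd_mul, show e y = ((1 : Multiplicative (ZMod 2)), t) from hxy] at h2
      exact h2
    · rw [Subgroup.mem_centralizer_iff]
      intro y hy
      refine congrArg Subtype.val (?_ : (⟨y, hSC hy⟩ : C) * ⟨x, hSC hx⟩ = ⟨x, hSC hx⟩ * ⟨y, hSC hy⟩)
      apply e.injective
      rw [map_mul, map_mul]
      have hx' := (hmemQ ⟨x, hSC hx⟩).1 hx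
      have hy' := (hmemQ ⟨y, hSC hy⟩).1 hy
      rw [← hcT] at hx'
      exact Prod.ext (mul_comm _ _) (Subgroup.mem_centralizer_iff.1 hx' _ hy')
  · let i : ↥(C.subgroupOf (Subgroup.normalizer ((S : Subgroup G) : Set G))) ≃
        Multiplicative (ZMod 2) × ↥(Subgroup.normalizer ((T : Subgroup (ProjectiveSpecialLinearGroup (Fin 2) F)) : Set _)) :=
      { toFun := fun n => ((e ⟨n.1.1, n.2⟩).1, ⟨(e ⟨n.1.1, n.2⟩).2, by
          rw [Subgroup.mem_normalizer_iff]
          intro t
          set c : C := ⟨n.1.1, n.2⟩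
          set y : C := e.symm (1, t)
          have h1 : (y : G) ∈ (S : Subgroup G) ↔ ((c * y * c⁻¹ : C) : G) ∈ (S : Subgroup G) := by
            simpa using Subgroup.mem_normalizer_iff.1 n.1.2 (y : G)
          rw [hmemQ, hmemQ] at h1
          simpa [y] using h1⟩)
        invFun := fun p => ⟨⟨(e.symm (p.1, p.2.1) : G), by
          rw [Subgroup.mem_normalizer_iff]
          intro x
          set c : C := e.symm (p.1, p.2.1)
          constructor
          · intro hx
            have h := (Subgroup.mem_normalizer_iff.1 p.2.2 _).1 ((hmemQ ⟨x, hSC hx⟩).1 hx)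
            have h2 : ((c * ⟨x, hSC hx⟩ * c⁻¹ : C) : G) ∈ (S : Subgroup G) := (hmemQ _).2 (by simpa [c] using h)
            simpa using h2
          · intro hx
            have hxC : x ∈ C := by
              have := mul_mem (mul_mem (inv_mem c.2) (hSC hx)) c.2
              simpa [mul_assoc] using this
            refine (hmemQ ⟨x, hxC⟩).2 ((Subgroup.mem_normalizer_iff.1 p.2.2 _).2 ?_)
            have h2 := (hmemQ (c * ⟨x, hxC⟩ * c⁻¹)).1 (by simpa using hx)
            simpa [c] using h2⟩, (e.symm (p.1, p.2.1)).2⟩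
        left_inv := fun n => by
          apply Subtype.ext; apply Subtype.ext
          simp
        right_inv := fun p => by
          refine Prod.ext ?_ (Subtype.ext ?_)
          · show (e (e.symm (p.1, p.2.1))).1 = p.1
            rw [MulEquiv.apply_symm_apply]
          · show (e (e.symm (p.1, p.2.1))).2 = p.2.1
            rw [MulEquiv.apply_symm_apply] }
    rw [Nat.card_congr i, Nat.card_prod, hnT, Nat.card_eq_fintype_card]
    simp

variable {K : Type*} [Field K] {m : ℕ} [CharP K 3] [Fintype K]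

/-- All involutions are conjugate. -/
theorem isConj_invol (hn : Fintype.card K = 3 * (3 ^ m * 3 ^ m)) (hm : 1 ≤ m)
    (a : ↥(twistedG2 K (3 ^ m))) (ha : (a : GL chevG2.Idx K) = invol K m)
    {x : ↥(twistedG2 K (3 ^ m))} (hx : orderOf x = 2) : IsConj a x := by
  classical
  obtain ⟨⟨e⟩, hcard⟩ := exists_centralizer_equiv hn a ha
  set C : Subgroup ↥(twistedG2 K (3 ^ m)) := Subgroup.centralizer {a} with hCdef
  have h4 : 4 ≤ Fintype.card K := by
    have : 3 ^ 1 ≤ 3 ^ m := Nat.pow_le_pow_right (by norm_num) hm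
    rw [hn]; nlinarith
  have hc := psl_center_eq_bot h4
  -- into the centraliser
  obtain ⟨hf1, hf2⟩ := factorization_card (K := K) hn
  have hex : ∃ (g : ↥(twistedG2 K (3 ^ m))), g * x * g⁻¹ ∈ C := by
    obtain ⟨P⟩ := (inferInstance : Nonempty (Sylow 2 C))
    have hP : Nat.card ((P : Subgroup C).map C.subtype) = 2 ^ (Nat.card ↥(twistedG2 K (3 ^ m))).factorization 2 := by
      rw [Subgroup.card_map_of_injective (K := (P : Subgroup C)) C.subtype_injective, P.card_eq_multiplicity, hcard, hf2, hf1]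
    set S₀ : Sylow 2 ↥(twistedG2 K (3 ^ m)) := Sylow.ofCard _ hP with hS₀
    have hp : IsPGroup 2 (Subgroup.zpowers x) :=
      IsPGroup.of_card (show Nat.card (Subgroup.zpowers x) = 2 ^ 1 by rw [Nat.card_zpowers, hx, pow_one])
    obtain ⟨T, hT⟩ := hp.exists_le_sylow
    obtain ⟨g, hg⟩ := MulAction.exists_smul_eq ↥(twistedG2 K (3 ^ m)) T S₀
    refine ⟨g, ?_⟩
    have : g * x * g⁻¹ ∈ (S₀ : Subgroup _) := by
      rw [← hg]
      exact ⟨x, hT (Subgroup.mem_zpowers x), rfl⟩
    rw [hS₀, Sylow.coe_ofCard] at this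
    obtain ⟨y, -, hy⟩ := this
    exact hy ▸ y.2
  obtain ⟨g, hg⟩ := hex
  refine IsConj.trans ?_ (show IsConj (g * x * g⁻¹) x from
    (isConj_iff.2 ⟨g, rfl⟩ : IsConj x (g * x * g⁻¹)).symm)
  have hxo : orderOf (g * x * g⁻¹) = 2 :=
    (orderOf_injective (MulAut.conj g).toMonoidHom (MulEquiv.injective _) x).trans hx
  generalize g * x * g⁻¹ = y at hg hxo
  obtain ⟨⟨g₁, hg₁, c1⟩, ⟨g₂, hg₂, c2⟩⟩ := exists_conj_invol K m
  set k₁ : ↥(twistedG2 K (3 ^ m)) := ⟨g₁, hg₁⟩
  set k₂ : ↥(twistedG2 K (3 ^ m)) := ⟨g₂, hg₂⟩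
  set w := k₁ * a * k₁⁻¹ with hw
  have hwconj : IsConj a w := isConj_iff.2 ⟨k₁, rfl⟩
  have haw : k₂ * a * k₂⁻¹ = a * w := Subtype.ext (by
    simp only [hw, k₁, k₂, Subgroup.coe_mul, InvMemClass.coe_inv, ha, c1, c2])
  have ha2 : a * a = 1 := Subtype.ext (by rw [Subgroup.coe_mul, ha, invol_mul_self]; rfl)
  have ha1 : a ≠ 1 := fun h => invol_ne_one (ha.symm.trans (congrArg Subtype.val h))
  have hw2 : w * w = 1 := by
    rw [hw, show k₁ * a * k₁⁻¹ * (k₁ * a * k₁⁻¹) = k₁ * (a * a) * k₁⁻¹ by group, ha2, mul_one, mul_inv_cancel]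
  have hw1 : w ≠ 1 := fun h => ha1 (conj_eq_one_iff.1 h)
  have haw2 : (a * w) * (a * w) = 1 := by
    rw [← haw, show k₂ * a * k₂⁻¹ * (k₂ * a * k₂⁻¹) = k₂ * (a * a) * k₂⁻¹ by group, ha2, mul_one, mul_inv_cancel]
  have hwa : w ≠ a := fun h => ha1 (conj_eq_one_iff.1 (haw.trans (by rw [h, ha2])))
  have hwC : w ∈ C := by
    rw [hCdef, Subgroup.mem_centralizer_singleton_iff]
    calc w * a = (a * a) * (w * a) * (w * w) := by rw [ha2, hw2, one_mul, mul_one]
      _ = a * ((a * w) * (a * w)) * w := by group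
      _ = a * w := by rw [haw2, mul_one]
  have hdec : ∀ i c : Multiplicative (ZMod 2), i ≠ 1 → c ≠ 1 → i = c := by decide
  set a' : C := ⟨a, Subgroup.mem_centralizer_singleton_iff.2 rfl⟩
  have hea2 : (e a').2 = 1 := by
    refine (Subgroup.eq_bot_iff_forall _).1 hc _ (Subgroup.mem_center_iff.2 fun j => ?_)
    have hj : (e.symm (1, j)) * a' = a' * e.symm (1, j) :=
      Subtype.ext (Subgroup.mem_centralizer_singleton_iff.1 (e.symm (1, j)).2)
    simpa using congrArg (fun z => (e z).2) hj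
  have hea1 : (e a').1 ≠ 1 := fun h => ha1 (congrArg Subtype.val
    (e.injective (show e a' = e 1 by rw [map_one]; exact Prod.ext h hea2) : a' = 1))
  set y' : C := ⟨y, hg⟩
  set w' : C := ⟨w, hwC⟩
  by_cases hj : (e y').2 = 1
  · have hy1 : (e y').1 ≠ 1 := fun h => by
      have : y' = 1 := e.injective (by rw [map_one]; exact Prod.ext h hj)
      rw [show y = 1 from congrArg Subtype.val this, orderOf_one] at hxo
      omega
    have : y' = a' := e.injective (Prod.ext (hdec _ _ hy1 hea1) (hj.trans hea2.symm))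
    rw [show y = a from congrArg Subtype.val this]
  · have hv : (e w').2 ≠ 1 := by
      intro h
      by_cases h1 : (e w').1 = 1
      · exact hw1 (congrArg Subtype.val (e.injective (show e w' = e 1 by rw [map_one]; exact Prod.ext h1 h)))
      · exact hwa (congrArg Subtype.val (e.injective (Prod.ext (hdec _ _ h1 hea1) (h.trans hea2.symm))))
    have ho : ∀ z : C, (z : ↥(twistedG2 K (3 ^ m))) * z = 1 → (e z).2 ≠ 1 → orderOf (e z).2 = 2 := by
      intro z hz hz1
      refine orderOf_eq_prime ?_ hz1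
      rw [pow_two, ← Prod.snd_mul, ← map_mul, show z * z = 1 from Subtype.ext hz, map_one, Prod.snd_one]
    have hy2 : y * y = 1 := by rw [← pow_two, ← hxo]; exact pow_orderOf_eq_one y
    have h2 : (2 : K) ≠ 0 := two_ne_zero'
    obtain ⟨p, hp⟩ := isConj_iff.1 (CfsgLib.PSL2.isConj_of_orderOf_two h2 (ho w' hw2 hv) (ho y' hy2 hj))
    set c : C := e.symm (1, p)
    by_cases hi : (e y').1 = (e w').1
    · refine hwconj.trans (isConj_iff.2 ⟨c, ?_⟩)
      exact congrArg Subtype.val (show c * w' * c⁻¹ = y' from e.injective (Prod.ext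
        (by simp [c, hi]) (by simpa [c] using hp)))
    · refine (isConj_iff.2 ⟨k₂, haw⟩ : IsConj a (a * w)).trans (isConj_iff.2 ⟨c, ?_⟩)
      exact congrArg Subtype.val (show c * (a' * w') * c⁻¹ = y' from e.injective (Prod.ext
        (by
          have hdec2 : ∀ i i₀ c : Multiplicative (ZMod 2), i ≠ i₀ → c ≠ 1 → c * i₀ = i := by decide
          simp [c, hdec2 _ _ _ hi hea1]) (by simpa [c, hea2] using hp)))

/-- Centraliser and normaliser of a Sylow 2-subgroup. -/
theorem sylow_two_normalizer (hn : Fintype.card K = 3 * (3 ^ m * 3 ^ m)) (hm : 1 ≤ m)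
    (S : Sylow 2 ↥(twistedG2 K (3 ^ m))) :
    Subgroup.centralizer ((S : Subgroup ↥(twistedG2 K (3 ^ m))) : Set ↥(twistedG2 K (3 ^ m))) = S ∧
      Nat.card (Subgroup.normalizer ((S : Subgroup ↥(twistedG2 K (3 ^ m))) : Set ↥(twistedG2 K (3 ^ m)))) = 168 := by
  classical
  set G := ↥(twistedG2 K (3 ^ m))
  set a : G := ⟨invol K m, (Subgroup.mem_inf.1 (invol_mem_H1 hn)).2⟩
  have h4 : 4 ≤ Fintype.card K := by
    have : 3 ^ 1 ≤ 3 ^ m := Nat.pow_le_pow_right (by norm_num) hm
    rw [hn]; nlinarith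
  have h8 : Fintype.card K % 8 = 3 ∨ Fintype.card K % 8 = 5 := by
    left
    rw [card_eq K hn, pow_succ, pow_mul, Nat.mul_mod, Nat.pow_mod]
    norm_num
  obtain ⟨hf1, -⟩ := factorization_card (K := K) hn
  have hS8 : Nat.card (S : Subgroup G) = 8 := by rw [S.card_eq_multiplicity, hf1]; rfl
  -- a central involution of S
  obtain ⟨z, hzc, hzS, hz2⟩ : ∃ z : G, z ∈ Subgroup.centralizer ((S : Subgroup G) : Set G) ∧ z ∈ S ∧ orderOf z = 2 := by
    have : Nontrivial (S : Subgroup G) := Finite.one_lt_card_iff_nontrivial.1 (by omega)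
    have hZ := S.isPGroup'.center_nontrivial
    obtain ⟨n, hn0, hn'⟩ := (S.isPGroup'.to_subgroup (Subgroup.center (S : Subgroup G))).nontrivial_iff_card.1 hZ
    obtain ⟨z, hz⟩ := exists_prime_orderOf_dvd_card' 2 (show 2 ∣ Nat.card (Subgroup.center (S : Subgroup G)) by
      rw [hn']; exact dvd_pow_self 2 hn0.ne')
    refine ⟨((z : (S : Subgroup G)) : G), ?_, z.1.2, ?_⟩
    · rw [Subgroup.mem_centralizer_iff]
      intro y hy
      exact congrArg Subtype.val (Subgroup.mem_center_iff.1 z.2 ⟨y, hy⟩)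
    · rwa [Subgroup.orderOf_coe, Subgroup.orderOf_coe]
  have hcent : ∀ {x : G}, orderOf x = 2 →
      Nonempty (↥(Subgroup.centralizer ({x} : Set G)) ≃* Multiplicative (ZMod 2) × ProjectiveSpecialLinearGroup (Fin 2) K) := by
    intro x hx
    obtain ⟨g, hg⟩ := isConj_iff.1 (isConj_invol hn hm a rfl hx)
    obtain ⟨⟨e⟩, -⟩ := exists_centralizer_equiv hn a rfl
    have hmap : (Subgroup.centralizer ({a} : Set G)).map (MulAut.conj g).toMonoidHom = Subgroup.centralizer {x} := by
      ext y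
      rw [Subgroup.mem_map_equiv, Subgroup.mem_centralizer_singleton_iff, Subgroup.mem_centralizer_singleton_iff,
        MulAut.conj_symm_apply, ← hg]
      constructor
      · intro h
        calc y * (g * a * g⁻¹) = g * (g⁻¹ * y * g * a) * g⁻¹ := by group
          _ = g * (a * (g⁻¹ * y * g)) * g⁻¹ := by rw [h]
          _ = _ := by group
      · intro h
        calc g⁻¹ * y * g * a = g⁻¹ * (y * (g * a * g⁻¹)) * g := by group
          _ = g⁻¹ * (g * a * g⁻¹ * y) * g := by rw [h]
          _ = _ := by group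
    exact ⟨(((MulAut.conj g).subgroupMap _).trans (MulEquiv.subgroupCongr hmap)).symm.trans e⟩
  obtain ⟨e⟩ := hcent hz2
  obtain ⟨hcS, h24⟩ := sylow_two_of_centralizer h4 h8 hf1 S hzc hzS e
  refine ⟨hcS, ?_⟩
  have hcomm : IsMulCommutative (S : Subgroup G) := by
    refine ⟨⟨fun x y => Subtype.ext ?_⟩⟩
    have : (y : G) ∈ Subgroup.centralizer ((S : Subgroup G) : Set G) := by rw [hcS]; exact y.2
    exact Subgroup.mem_centralizer_iff.1 this x x.2
  -- every non-trivial element is an involution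
  have hexp : ∀ x ∈ (S : Subgroup G), x ≠ 1 → orderOf x = 2 := by
    intro x hx hx1
    have hzx : x ∈ Subgroup.centralizer ({z} : Set G) := Subgroup.mem_centralizer_singleton_iff.2
      (Subgroup.mem_centralizer_iff.1 hzc x hx)
    refine orderOf_eq_prime ?_ hx1
    refine congrArg Subtype.val (e.injective (?_ : e (⟨x, hzx⟩ ^ 2) = e 1))
    rw [map_one, map_pow]
    set P : Subgroup (ProjectiveSpecialLinearGroup (Fin 2) K) :=
      (((S : Subgroup G).subgroupOf (Subgroup.centralizer ({z} : Set G))).map e.toMonoidHom).map (MonoidHom.snd _ _)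
    have hP : IsPGroup 2 P := ((S.isPGroup'.comap_subtype (K := Subgroup.centralizer ({z} : Set G))).map _).map _
    obtain ⟨T, hT⟩ := hP.exists_le_sylow
    have hk := CfsgLib.ClassicalGroups.SL2.psl_sylow_two_klein rfl h8 T
    have h2 : (e ⟨x, hzx⟩).2 ∈ (T : Subgroup _) := hT ⟨_, ⟨⟨x, hzx⟩, hx, rfl⟩, rfl⟩
    refine Prod.ext ?_ ?_
    · have hd : ∀ i : Multiplicative (ZMod 2), i ^ 2 = 1 := by decide
      simp [hd]
    · rw [Prod.pow_snd, Prod.snd_one, pow_two]
      exact congrArg Subtype.val (@IsKleinFour.mul_self _ _ hk ⟨_, h2⟩)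
  set N := Subgroup.normalizer ((S : Subgroup G) : Set G)
  set St := (Subgroup.centralizer ({z} : Set G)).subgroupOf N
  have hz1 : z ≠ 1 := fun h => by rw [h, orderOf_one] at hz2; omega
  let f : N ⧸ St → {x : (S : Subgroup G) // x ≠ 1} := Quotient.lift
    (fun n : N => ⟨⟨(n : G) * z * (n : G)⁻¹, (Subgroup.mem_normalizer_iff.1 n.2 z).1 hzS⟩,
      fun h => hz1 (conj_eq_one_iff.1 (congrArg Subtype.val h))⟩)
    (fun n n' h => by
      have h' : ((n : G)⁻¹ * n') * z = z * ((n : G)⁻¹ * n') :=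
        Subgroup.mem_centralizer_singleton_iff.1 (QuotientGroup.leftRel_apply.1 h : n⁻¹ * n' ∈ St)
      apply Subtype.ext; apply Subtype.ext
      show (n : G) * z * (n : G)⁻¹ = (n' : G) * z * (n' : G)⁻¹
      calc (n : G) * z * (n : G)⁻¹ = (n : G) * (z * ((n : G)⁻¹ * n')) * (n' : G)⁻¹ := by simp [mul_assoc]
        _ = (n : G) * (((n : G)⁻¹ * n') * z) * (n' : G)⁻¹ := by rw [h']
        _ = _ := by simp [mul_assoc])
  have hf : Function.Bijective f := by
    constructor
    · rintro ⟨n⟩ ⟨n'⟩ h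
      have h' : (n : G) * z * (n : G)⁻¹ = (n' : G) * z * (n' : G)⁻¹ := congrArg (fun t => ((t.1 : (S : Subgroup G)) : G)) h
      refine Quotient.sound (QuotientGroup.leftRel_apply.2 ?_)
      refine Subgroup.mem_centralizer_singleton_iff.2 ?_
      show ((n : G)⁻¹ * n') * z = z * ((n : G)⁻¹ * n')
      calc ((n : G)⁻¹ * n') * z = (n : G)⁻¹ * ((n' : G) * z * (n' : G)⁻¹) * n' := by simp [mul_assoc]
        _ = (n : G)⁻¹ * ((n : G) * z * (n : G)⁻¹) * n' := by rw [h']
        _ = _ := by simp [mul_assoc]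
    · rintro ⟨⟨x, hx⟩, hx1⟩
      have hxo := hexp x hx (fun h => hx1 (Subtype.ext h))
      obtain ⟨g, hg⟩ := isConj_iff.1 ((isConj_invol hn hm a rfl hz2).symm.trans (isConj_invol hn hm a rfl hxo))
      obtain ⟨n, hnN, hne⟩ := Sylow.conj_eq_normalizer_conj_of_mem (_hP := hcomm) S z g⁻¹ hzS
        (by rw [inv_inv, hg]; exact hx)
      refine ⟨QuotientGroup.mk ⟨n⁻¹, inv_mem hnN⟩, Subtype.ext (Subtype.ext ?_)⟩
      show n⁻¹ * z * (n⁻¹)⁻¹ = x
      rw [inv_inv, ← hne, inv_inv, hg]
  have h7 : Nat.card {x : (S : Subgroup G) // x ≠ 1} = 7 := by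
    have : Fintype (S : Subgroup G) := Fintype.ofFinite _
    rw [Nat.card_eq_fintype_card, Fintype.card_subtype_compl, Fintype.card_subtype_eq,
      ← Nat.card_eq_fintype_card, hS8]
  have := St.card_mul_index
  rw [show Nat.card St = 24 from h24, Subgroup.index, Nat.card_eq_of_bijective f hf, h7] at this
  exact this.symm

end CfsgLib.SmallRee
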