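import Cfsg.Agent.Lib.SmallRee.ToriHall

/-!
Element orders, element counts, cyclic subgroups of the tori and their normalisers in a small Ree group.
-/

set_option autoImplicit false

namespace CfsgLib.SmallRee

open Subgroup

section generic

variable {G : Type*} [Group G] [Finite G]

theorem eq_of_card_eq_cyclic {T A B : Subgroup G} (hT : IsCyclic T) (hA : A ≤ T) (hB : B ≤ T)
    (h : Nat.card A = Nat.card B) : A = B := by
  classical
  haveI := Fintype.ofFinite G
  refine eq_of_le_of_card_ge (fun x hx => ?_) h.ge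
  by_contra hxB
  have hle := IsCyclic.card_pow_eq_one_le (α := T) (n := Nat.card B) Nat.card_pos
  have hsub : (Finset.univ.filter fun y : T => (y : G) ∈ B ∨ (y : G) = x) ⊆
      Finset.univ.filter fun y : T => y ^ Nat.card B = 1 := by
    intro y hy
    simp only [Finset.mem_filter, Finset.mem_univ, true_and] at hy ⊢
    apply Subtype.ext
    rw [SubmonoidClass.coe_pow, OneMemClass.coe_one]
    rcases hy with hy | hy
    · exact orderOf_dvd_iff_pow_eq_one.1 (by rw [← Subgroup.orderOf_mk _ hy]; exact orderOf_dvd_natCard _)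
    · rw [hy, ← h]
      exact orderOf_dvd_iff_pow_eq_one.1 (by rw [← Subgroup.orderOf_mk _ hx]; exact orderOf_dvd_natCard _)
  have h1 := (Finset.card_le_card hsub).trans hle
  have h2 : (Finset.univ.filter fun y : T => (y : G) ∈ B ∨ (y : G) = x).card = Nat.card B + 1 := by
    rw [Finset.filter_or, Finset.card_union_of_disjoint]
    · congr 1
      · rw [Nat.card_eq_fintype_card, Fintype.card_subtype]
        refine Finset.card_bij (fun y _ => (y : G)) (fun y hy => by simpa using hy)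
          (fun _ _ _ _ e => Subtype.ext e) (fun y hy => ⟨⟨y, hB (by simpa using hy)⟩, by simpa using hy, rfl⟩)
      · exact Finset.card_eq_one.2 ⟨⟨x, hA hx⟩, by ext y; simp [Subtype.ext_iff]⟩
    · rw [Finset.disjoint_filter]
      rintro y - hy rfl
      exact hxB hy
  omega

/-- Cyclic subgroups of order `d` are conjugate when their generators are conjugate into one cyclic group. -/
theorem cyclic_conj {T : Subgroup G} (hT : IsCyclic T) {d : ℕ}
    (h : ∀ y : G, orderOf y = d → ∃ k : G, k * y * k⁻¹ ∈ T) (A B : Subgroup G) (hA : IsCyclic A)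
    (hB : IsCyclic B) (hAd : Nat.card A = d) (hBd : Nat.card B = d) :
    ∃ g : G, B = A.map (MulAut.conj g).toMonoidHom := by
  obtain ⟨x, rfl⟩ := (Subgroup.isCyclic_iff_exists_zpowers_eq_top _).1 hA
  obtain ⟨y, rfl⟩ := (Subgroup.isCyclic_iff_exists_zpowers_eq_top _).1 hB
  rw [Nat.card_zpowers] at hAd hBd
  obtain ⟨k, hk⟩ := h x hAd
  obtain ⟨l, hl⟩ := h y hBd
  have e : zpowers (k * x * k⁻¹) = zpowers (l * y * l⁻¹) := eq_of_card_eq_cyclic hT (zpowers_le.2 hk) (zpowers_le.2 hl)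
    (by rw [Nat.card_zpowers, Nat.card_zpowers, orderOf_conj, orderOf_conj, hAd, hBd])
  refine ⟨l⁻¹ * k, ?_⟩
  rw [MonoidHom.map_zpowers]
  show zpowers y = zpowers (l⁻¹ * k * x * (l⁻¹ * k)⁻¹)
  have e' := congrArg (fun K : Subgroup G => K.map (MulAut.conj l⁻¹).toMonoidHom) e
  simp only [MonoidHom.map_zpowers] at e'
  change zpowers (l⁻¹ * (k * x * k⁻¹) * l⁻¹⁻¹) = zpowers (l⁻¹ * (l * y * l⁻¹) * l⁻¹⁻¹) at e'
  rw [show l⁻¹ * (l * y * l⁻¹) * l⁻¹⁻¹ = y by group] at e'
  rw [← e']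
  congr 1
  group

/-- All non-trivial subgroups of a cyclic trivial intersection subgroup have the same normaliser. -/
theorem normalizer_eq_of_ti {T A N : Subgroup G} (hT : IsCyclic T) (hA : A ≤ T) (hA1 : A ≠ ⊥)
    (hN : N ≤ normalizer (T : Set G)) (hti : ∀ x ∈ A, x ≠ 1 → ∀ k : G, k * x * k⁻¹ ∈ T → k ∈ N) :
    normalizer (A : Set G) = N := by
  obtain ⟨x, hx, hx1⟩ : ∃ x ∈ A, x ≠ 1 := by
    by_contra h
    push Not at h
    exact hA1 ((Subgroup.eq_bot_iff_forall A).2 h)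
  refine le_antisymm (fun k hk => hti x hx hx1 k (hA ((mem_normalizer_iff.1 hk x).1 hx))) fun k hk => ?_
  rw [mem_normalizer_iff_map_conj_eq]
  refine eq_of_card_eq_cyclic hT ?_ hA (card_map_conj k A)
  rintro _ ⟨y, hy, rfl⟩
  exact (mem_normalizer_iff.1 (hN hk) y).1 (hA hy)

theorem exists_orderOf_of_dvd {x : G} {d : ℕ} (h : d ∣ orderOf x) : ∃ y : G, orderOf y = d := by
  refine ⟨x ^ (orderOf x / d), ?_⟩
  rw [orderOf_pow, Nat.gcd_eq_right (Nat.div_dvd_of_dvd h), Nat.div_div_self h (orderOf_pos x).ne']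

end generic

namespace ToriData

variable {G : Type*} [Group G] [Finite G] {q a r : ℕ} (D : ToriData G q a r)
include D

theorem exists_quad₀ : ∃ (v : G) (O : Subgroup G), Quad a D.t v O := by
  obtain ⟨S, hS⟩ := D.exists_sylow_t
  obtain ⟨⟨v, hv, hv1, hvt⟩⟩ := (Nat.card_pos_iff.1 (by rw [D.six_eq hS]; norm_num :
    0 < Nat.card {x : G // x ∈ S ∧ x ≠ 1 ∧ x ≠ D.t})).1
  obtain ⟨O, Q⟩ := D.exists_quad D.t_sq D.t_ne ((D.sylow_two S).2 v hv) hv1 hvt (D.sylow_comm S _ hS v hv)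
  exact ⟨v, O, Q⟩

theorem a_eq : (q + 1) / 4 = a ∧ (q + 1) / 2 = 2 * a := by have := D.h4a; omega

theorem half_odd : Odd ((q - 1) / 2) ∧ 2 * ((q - 1) / 2) = q - 1 := by
  have := D.h4a
  obtain ⟨i, hi⟩ := D.ha
  constructor
  · rw [Nat.odd_iff]; omega
  · omega

theorem r_lt : r < q := by
  by_contra h
  push Not at h
  have h1 := Nat.mul_le_mul h h
  rw [D.hr] at h1
  nlinarith [D.hq]

theorem coprime_plus_minus (h : (q + 1 - r) * (q + 1 + r) = q ^ 2 - q + 1) :
    Nat.Coprime (q + 1 - r) (q + 1 + r) := by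
  refine Nat.coprime_of_dvd fun p hp h1 h2 => ?_
  have hc : p ∣ q ^ 2 - q + 1 := by rw [← h]; exact dvd_mul_of_dvd_left h1 _
  have h2r : p ∣ 2 * r := by
    have := Nat.dvd_sub h2 h1
    have hr := D.r_lt
    rwa [show q + 1 + r - (q + 1 - r) = 2 * r by omega] at this
  have h7 := D.seven_le_of_dvd_c hp hc
  rcases hp.dvd_mul.1 h2r with e | e
  · have := Nat.le_of_dvd Nat.two_pos e; omega
  · have h3q : p ∣ 3 * q := by rw [← D.hr]; exact dvd_mul_of_dvd_left e r
    rcases hp.dvd_mul.1 h3q with e | e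
    · have := Nat.le_of_dvd (by norm_num) e; omega
    · exact hp.one_lt.ne' (Nat.eq_one_of_dvd_coprimes D.coprime_q_c e hc)

theorem H_gen : ∃ h : G, orderOf h = q - 1 ∧ D.H = zpowers h := by
  obtain ⟨h, hh⟩ := (Subgroup.isCyclic_iff_exists_zpowers_eq_top _).1 D.H_cyclic
  exact ⟨h, by rw [← Nat.card_zpowers, hh, D.card_H], hh.symm⟩

/-- An element of an order dividing a torus order is conjugate into that torus. -/
theorem conj_into_torus {v : G} {O : Subgroup G} (Q : Quad a D.t v O) {g : G} (hg : g ≠ 1) :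
    (orderOf g ∣ (q - 1) / 2 → ∃ k : G, k * g * k⁻¹ ∈ D.H) ∧
    (orderOf g ∣ a → ∃ k : G, k * g * k⁻¹ ∈ O) := by
  have hne : orderOf g ≠ 1 := fun e => hg (orderOf_eq_one_iff.1 e)
  obtain ⟨hodd, hhalf⟩ := D.half_odd
  constructor
  · intro hd
    have hdq : orderOf g ∣ q - 1 := hd.trans ⟨2, by omega⟩
    have ho : Odd (orderOf g) := Odd.of_dvd_nat hodd hd
    rcases D.order_cases Q hg with e | e | ⟨-, -, hk⟩ | ⟨h2, e, -⟩ | e
    · rw [e] at ho; exact absurd ho (by decide)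
    · exact absurd (e.trans hdq) D.three_not_dvd_q_sub
    · exact hk
    · exact (D.two_part_exclusive h2 hdq e).elim
    · obtain ⟨p, hp, hpd⟩ := Nat.exists_prime_and_dvd hne
      exact absurd (Nat.eq_one_of_dvd_coprimes D.coprime_q_sub_c (hpd.trans hdq) (e p hp hpd)) hp.one_lt.ne'
  · intro hd
    have ho : Odd (orderOf g) := Odd.of_dvd_nat D.ha hd
    have hda : orderOf g ∣ 2 * a := hd.trans (dvd_mul_left a 2)
    rcases D.order_cases Q hg with e | e | ⟨h2, e, -⟩ | ⟨-, -, k, hk⟩ | e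
    · rw [e] at ho; exact absurd ho (by decide)
    · exact absurd (e.trans hd) D.three_not_dvd_a
    · exact (D.two_part_exclusive h2 e hda).elim
    · refine ⟨k, ?_⟩
      obtain ⟨y, hy, z, hz, ez⟩ := (Q.W_structure D).2 _ hk
      rcases hy with rfl | hy
      · rw [ez, one_mul]; exact hz
      · exfalso
        rw [← orderOf_conj k, ez, D.orderOf_mul_W Q hy hz] at ho
        exact absurd ho (Nat.not_odd_iff_even.2 (even_two_mul _))
    · obtain ⟨p, hp, hpd⟩ := Nat.exists_prime_and_dvd hne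
      exact absurd (Nat.eq_one_of_dvd_coprimes D.coprime_a_c (hpd.trans hd) (e p hp hpd)) hp.one_lt.ne'

theorem conj_into_big {g : G} (hg : g ≠ 1) {T T' : Subgroup G} {c c' : ℕ} (hT' : BigTorus T' c')
    (hcop : Nat.Coprime c c') (hd : orderOf g ∣ c)
    (hcov : (∃ k : G, k * g * k⁻¹ ∈ T) ∨ (∃ k : G, k * g * k⁻¹ ∈ T')) : ∃ k : G, k * g * k⁻¹ ∈ T := by
  refine hcov.resolve_right ?_
  rintro ⟨k, hk⟩
  refine hg (orderOf_eq_one_iff.1 (Nat.eq_one_of_dvd_coprimes hcop hd ?_))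
  rw [← orderOf_conj k, ← Subgroup.orderOf_mk _ hk, ← hT'.card_T]
  exact _root_.orderOf_dvd_natCard _

omit D in
theorem primes_of_dvd {c : ℕ} {g : G} (hd : orderOf g ∣ c) (hc : c ∣ q ^ 2 - q + 1) :
    ∀ p : ℕ, p.Prime → p ∣ orderOf g → p ∣ q ^ 2 - q + 1 := fun _ _ hp => (hp.trans hd).trans hc

theorem card_order_big {T : Subgroup G} {c c' : ℕ} (hT : BigTorus T c) (hcc : c * c' = q ^ 2 - q + 1)
    (hcov : ∀ g : G, g ≠ 1 → orderOf g ∣ c → ∃ k : G, k * g * k⁻¹ ∈ T) {i : ℕ} (hi1 : 1 < i) (hi : i ∣ c) :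
    6 * Nat.card {g : G // orderOf g = i} = Nat.totient i * q ^ 3 * (q ^ 2 - 1) * c' := by
  classical
  have hidx : (normalizer (T : Set G)).index * 6 = q ^ 3 * (q ^ 2 - 1) * c' := by
    have h := card_mul_index (normalizer (T : Set G))
    rw [hT.card_N, D.card_eq', ← hcc] at h
    have hc0 : 0 < c := Nat.pos_of_ne_zero fun e => by rw [e, zero_mul] at hcc; omega
    refine Nat.eq_of_mul_eq_mul_left hc0 ?_
    rw [show c * ((normalizer (T : Set G)).index * 6) = 6 * c * (normalizer (T : Set G)).index by ring, h, D.q_sq_sub]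
    ring
  have hcount := card_of_ti (normalizer (T : Set G)) (T : Set G) (fun g => orderOf g = i)
    (fun k g h => by rw [orderOf_conj]; exact h) (fun k hk g hg _ => (mem_normalizer_iff.1 hk g).1 hg)
    (fun g hg h k hk => ti_of_cent hT.cent hg (fun e => by rw [e, orderOf_one] at h; omega) hk)
    (fun g h => hcov g (fun e => by rw [e, orderOf_one] at h; omega) (h ▸ hi))
  haveI := hT.cyclic
  haveI := Fintype.ofFinite T
  have htot : Nat.card {x : G // x ∈ (T : Set G) ∧ orderOf x = i} = Nat.totient i := by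
    rw [← IsCyclic.card_orderOf_eq_totient (α := T) (by rwa [← Nat.card_eq_fintype_card, hT.card_T]),
      ← Fintype.card_subtype, ← Nat.card_eq_fintype_card]
    exact Nat.card_congr ⟨fun x => ⟨⟨x.1, x.2.1⟩, by rw [Subgroup.orderOf_mk]; exact x.2.2⟩,
      fun x => ⟨x.1.1, x.1.2, by rw [Subgroup.orderOf_coe]; exact x.2⟩, fun _ => rfl, fun _ => rfl⟩
  rw [hcount, htot, ← mul_assoc, mul_comm 6, hidx]; ring

/-- The numbers of elements of each order. -/
theorem counts :
    Nat.card {g : G // orderOf g = 2} = q ^ 2 * (q ^ 2 - q + 1) ∧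
    Nat.card {g : G // orderOf g = 3} = (q ^ 2 - 1) * (q ^ 3 + 1) ∧
    Nat.card {g : G // orderOf g = 6} = q ^ 2 * (q - 1) * (q ^ 3 + 1) ∧
    Nat.card {g : G // orderOf g = 9} = q ^ 2 * (q - 1) * (q ^ 3 + 1) ∧
    (∀ i : ℕ, 2 < i → i ∣ q - 1 →
      2 * Nat.card {g : G // orderOf g = i} = Nat.totient i * q ^ 3 * (q ^ 3 + 1)) ∧
    (∀ i : ℕ, 1 < i → i ∣ (q + 1) / 4 →
      6 * Nat.card {g : G // orderOf g = i} = Nat.totient i * q ^ 3 * (q - 1) * (q ^ 2 - q + 1) ∧
      2 * Nat.card {g : G // orderOf g = 2 * i} = Nat.totient i * q ^ 3 * (q - 1) * (q ^ 2 - q + 1)) ∧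
    (∀ i : ℕ, 1 < i → i ∣ q - r + 1 →
      6 * Nat.card {g : G // orderOf g = i} = Nat.totient i * q ^ 3 * (q ^ 2 - 1) * (q + r + 1)) ∧
    (∀ i : ℕ, 1 < i → i ∣ q + r + 1 →
      6 * Nat.card {g : G // orderOf g = i} = Nat.totient i * q ^ 3 * (q ^ 2 - 1) * (q - r + 1)) := by
  obtain ⟨v, O, Q⟩ := D.exists_quad₀
  obtain ⟨T₁, T₂, h₁, h₂, hrq, hprod, hcov⟩ := D.exists_bigTori Q
  have hsub : q ^ 3 - q ^ 2 = q ^ 2 * (q - 1) := by rw [Nat.mul_sub_one, ← pow_succ]
  have hr := D.r_lt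
  have hcop := D.coprime_plus_minus hprod
  refine ⟨D.card_order_two, D.card_order_three, by rw [D.card_order_six, hsub]; ring,
    by rw [D.card_order_nine, hsub]; ring, fun i hi2 hi => ?_, fun i hi1 hi => ?_, fun i hi1 hi => ?_,
    fun i hi1 hi => ?_⟩
  · have h := D.card_H_type (fun n => n = i) (fun n e => ⟨e ▸ hi2, e ▸ hi⟩) Q
    simp only [D.card_H_order hi] at h
    rw [h]; ring
  · rw [D.a_eq.1] at hi
    obtain ⟨e1, e2⟩ := D.card_W_order Q hi
    have hi3 : 2 < i := by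
      obtain ⟨j, rfl⟩ := Odd.of_dvd_nat D.ha hi
      omega
    have h := D.card_W_type Q (fun n => n = i) (fun n e => ⟨e ▸ hi3, e ▸ hi.trans (dvd_mul_left a 2)⟩)
    have h' := D.card_W_type Q (fun n => n = 2 * i) (fun n e => ⟨by omega, e ▸ mul_dvd_mul_left 2 hi⟩)
    simp only [e1] at h
    simp only [e2] at h'
    refine ⟨by rw [h]; ring, ?_⟩
    refine Nat.eq_of_mul_eq_mul_left (show 0 < 3 by norm_num) ?_
    rw [← mul_assoc, show 3 * 2 = 6 from rfl, h']; ring
  · rw [show q + r + 1 = q + 1 + r by omega]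
    rw [show q - r + 1 = q + 1 - r by omega] at hi
    exact D.card_order_big h₁ hprod (fun g hg hd => D.conj_into_big hg h₂ hcop hd
      (hcov g hg (primes_of_dvd hd (hprod ▸ dvd_mul_right _ _)))) hi1 hi
  · rw [show q - r + 1 = q + 1 - r by omega]
    rw [show q + r + 1 = q + 1 + r by omega] at hi
    exact D.card_order_big h₂ ((mul_comm _ _).trans hprod) (fun g hg hd => D.conj_into_big hg h₁ hcop.symm hd
      (hcov g hg (primes_of_dvd hd (hprod ▸ dvd_mul_left _ _))).symm) hi1 hi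

/-- The element orders. -/
theorem orders (d : ℕ) : (∃ g : G, orderOf g = d) ↔
    (d ∣ 6 ∨ d ∣ 9 ∨ d ∣ q - 1 ∨ d ∣ (q + 1) / 2 ∨ d ∣ q - r + 1 ∨ d ∣ q + r + 1) := by
  obtain ⟨v, O, Q⟩ := D.exists_quad₀
  obtain ⟨T₁, T₂, h₁, h₂, hrq, hprod, hcov⟩ := D.exists_bigTori Q
  have hr := D.r_lt
  rw [D.a_eq.2, show q - r + 1 = q + 1 - r by omega, show q + r + 1 = q + 1 + r by omega]
  constructor
  · rintro ⟨g, rfl⟩
    rcases eq_or_ne g 1 with rfl | hg
    · exact Or.inl (by rw [orderOf_one]; exact one_dvd 6)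
    rcases D.order_cases Q hg with e | e | ⟨-, e, -⟩ | ⟨-, e, -⟩ | e
    · exact Or.inl (by rw [e]; norm_num)
    · rcases D.orderOf_eq_three_div e with o | o | o
      · exact Or.inl (by rw [o]; norm_num)
      · exact Or.inl (by rw [o])
      · exact Or.inr (Or.inl (by rw [o]))
    · exact Or.inr (Or.inr (Or.inl e))
    · exact Or.inr (Or.inr (Or.inr (Or.inl e)))
    · rcases hcov g hg e with ⟨k, hk⟩ | ⟨k, hk⟩
      · refine Or.inr (Or.inr (Or.inr (Or.inr (Or.inl ?_))))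
        rw [← h₁.card_T, ← orderOf_conj k, ← Subgroup.orderOf_mk _ hk]
        exact _root_.orderOf_dvd_natCard _
      · refine Or.inr (Or.inr (Or.inr (Or.inr (Or.inr ?_))))
        rw [← h₂.card_T, ← orderOf_conj k, ← Subgroup.orderOf_mk _ hk]
        exact _root_.orderOf_dvd_natCard _
  · have hpos : ∀ i, 0 < Nat.card {g : G // orderOf g = i} → ∀ d, d ∣ i → ∃ g : G, orderOf g = d := by
      intro i h d hd
      obtain ⟨⟨g, hg⟩⟩ := (Nat.card_pos_iff.1 h).1
      exact exists_orderOf_of_dvd (hg ▸ hd : d ∣ orderOf g)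
    have hq := D.hq
    have hlt : q ^ 2 < q ^ 3 := Nat.pow_lt_pow_right (by omega) (by norm_num)
    have hcyc : ∀ (T : Subgroup G) (c : ℕ), IsCyclic T → Nat.card T = c → ∀ d, d ∣ c → ∃ g : G, orderOf g = d := by
      intro T c hT hc d hd
      obtain ⟨x, hx⟩ := (Subgroup.isCyclic_iff_exists_zpowers_eq_top _).1 hT
      exact exists_orderOf_of_dvd (x := x) (by rwa [← Nat.card_zpowers, hx, hc])
    rintro (h | h | h | h | h | h)
    · refine hpos 6 ?_ d h
      rw [D.card_order_six]; exact Nat.mul_pos (by omega) (by omega)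
    · refine hpos 9 ?_ d h
      rw [D.card_order_nine]; exact Nat.mul_pos (by omega) (by omega)
    · exact hcyc _ _ D.H_cyclic D.card_H d h
    · obtain ⟨z, hz⟩ := (Subgroup.isCyclic_iff_exists_zpowers_eq_top _).1 Q.cyclic
      refine exists_orderOf_of_dvd (x := D.t * z) ?_
      rw [D.orderOf_mul_W Q (Or.inl rfl) (hz ▸ mem_zpowers z), ← Nat.card_zpowers, hz, Q.card_O]
      exact h
    · exact hcyc _ _ h₁.cyclic h₁.card_T d h
    · exact hcyc _ _ h₂.cyclic h₂.card_T d h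

/-- Cyclic subgroups of toral orders are conjugate. -/
theorem toral_conj (d : ℕ)
    (hd : d ∣ (q - 1) / 2 ∨ d ∣ (q + 1) / 4 ∨ d ∣ q - r + 1 ∨ d ∣ q + r + 1)
    (A B : Subgroup G) (hA : IsCyclic A) (hB : IsCyclic B) (hAd : Nat.card A = d) (hBd : Nat.card B = d) :
    ∃ g : G, B = A.map (MulAut.conj g).toMonoidHom := by
  obtain ⟨v, O, Q⟩ := D.exists_quad₀
  obtain ⟨T₁, T₂, h₁, h₂, hrq, hprod, hcov⟩ := D.exists_bigTori Q
  have hr := D.r_lt
  have hcop := D.coprime_plus_minus hprod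
  rw [D.a_eq.1, show q - r + 1 = q + 1 - r by omega, show q + r + 1 = q + 1 + r by omega] at hd
  rcases eq_or_ne d 1 with rfl | hd1
  · exact ⟨1, by rw [Subgroup.card_eq_one.1 hAd, Subgroup.card_eq_one.1 hBd, Subgroup.map_bot]⟩
  have hne : ∀ y : G, orderOf y = d → y ≠ 1 := fun y hy e => hd1 (by rw [← hy, e, orderOf_one])
  rcases hd with h | h | h | h
  · exact cyclic_conj D.H_cyclic (fun y hy => (D.conj_into_torus Q (hne y hy)).1 (hy ▸ h)) A B hA hB hAd hBd
  · exact cyclic_conj Q.cyclic (fun y hy => (D.conj_into_torus Q (hne y hy)).2 (hy ▸ h)) A B hA hB hAd hBd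
  · exact cyclic_conj h₁.cyclic (fun y hy => D.conj_into_big (hne y hy) h₂ hcop (hy ▸ h)
      (hcov y (hne y hy) (primes_of_dvd (hy ▸ h) (hprod ▸ dvd_mul_right _ _)))) A B hA hB hAd hBd
  · exact cyclic_conj h₂.cyclic (fun y hy => D.conj_into_big (hne y hy) h₁ hcop.symm (hy ▸ h)
      (hcov y (hne y hy) (primes_of_dvd (hy ▸ h) (hprod ▸ dvd_mul_left _ _))).symm) A B hA hB hAd hBd

theorem sq_ne_one_of_odd {x : G} (ho : Odd (orderOf x)) (hx : x ≠ 1) : x * x ≠ 1 := fun e => by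
  rw [orderOf_eq_two e hx] at ho
  exact absurd ho (by decide)

/-- Centralisers of cyclic subgroups of orders `(q - 1) / 2` and `(q + 1) / 4`. -/
theorem centralizers (A : Subgroup G) (hA : IsCyclic A) :
    (Nat.card A = (q - 1) / 2 →
      IsCyclic ↥(centralizer (A : Set G)) ∧ Nat.card ↥(centralizer (A : Set G)) = q - 1 ∧
        ∀ B : Subgroup G, B ≤ A → B ≠ ⊥ → centralizer (B : Set G) = centralizer (A : Set G)) ∧
    (Nat.card A = (q + 1) / 4 →
      IsMulCommutative ↥(centralizer (A : Set G)) ∧ Nat.card ↥(centralizer (A : Set G)) = q + 1 ∧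
        (∀ x ∈ centralizer (A : Set G), orderOf x ≠ 4) ∧
        ∀ B : Subgroup G, B ≤ A → B ≠ ⊥ → centralizer (B : Set G) = centralizer (A : Set G)) := by
  obtain ⟨v, O, Q⟩ := D.exists_quad₀
  obtain ⟨x, rfl⟩ := (Subgroup.isCyclic_iff_exists_zpowers_eq_top _).1 hA
  rw [Nat.card_zpowers]
  -- the common argument
  have key : ∀ (T : Subgroup G) (C : Subgroup G),
      (∃ k : G, k * x * k⁻¹ ∈ T) → (∀ z ∈ T, z ≠ 1 → Odd (orderOf z) → centralizer ({z} : Set G) = C) →
      Odd (orderOf x) → x ≠ 1 →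
      ∃ k : G, centralizer (zpowers x : Set G) = C.map (MulAut.conj k).toMonoidHom ∧
        ∀ B : Subgroup G, B ≤ zpowers x → B ≠ ⊥ → centralizer (B : Set G) = centralizer (zpowers x : Set G) := by
    rintro T C ⟨k, hk⟩ hC hodd hx
    have hone : ∀ z ∈ zpowers x, z ≠ 1 → centralizer ({z} : Set G) = C.map (MulAut.conj k⁻¹).toMonoidHom := by
      intro z hz hz1
      have hzT : k * z * k⁻¹ ∈ T := by
        obtain ⟨j, rfl⟩ := mem_zpowers_iff.1 hz
        rw [← conj_zpow]; exact zpow_mem hk j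
      have hzo : Odd (orderOf (k * z * k⁻¹)) := by
        rw [orderOf_conj]
        refine Odd.of_dvd_nat hodd ?_
        rw [← Nat.card_zpowers x, ← Subgroup.orderOf_mk z hz]
        exact _root_.orderOf_dvd_natCard _
      rw [← hC _ hzT (conj_ne_one k hz1) hzo, centralizer_conj_map]
      congr 1
      rw [Set.singleton_eq_singleton_iff]; group
    have hall : ∀ B : Subgroup G, B ≤ zpowers x → B ≠ ⊥ → centralizer (B : Set G) = C.map (MulAut.conj k⁻¹).toMonoidHom := by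
      intro B hB hB1
      obtain ⟨z, hz, hz1⟩ : ∃ z ∈ B, z ≠ 1 := by
        by_contra h
        push Not at h
        exact hB1 ((Subgroup.eq_bot_iff_forall B).2 h)
      refine le_antisymm ((Subgroup.centralizer_le (Set.singleton_subset_iff.2 hz)).trans (hone z (hB hz) hz1).le) ?_
      intro g hg
      refine mem_centralizer_iff.2 fun y hy => ?_
      rcases eq_or_ne y 1 with rfl | hy1
      · rw [one_mul, mul_one]
      · rw [← hone y (hB hy) hy1] at hg
        exact (mem_centralizer_singleton_iff.1 hg).symm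
    have hxne : zpowers x ≠ ⊥ := by rwa [Ne, zpowers_eq_bot]
    exact ⟨k⁻¹, hall _ le_rfl hxne, fun B hB hB1 => (hall B hB hB1).trans (hall _ le_rfl hxne).symm⟩
  have hq := D.hq
  constructor
  · intro ho
    have hodd : Odd (orderOf x) := ho ▸ D.half_odd.1
    have hx : x ≠ 1 := fun e => by rw [e, orderOf_one] at ho; omega
    obtain ⟨k, hk, hB⟩ := key D.H D.H ((D.conj_into_torus Q hx).1 ho.dvd)
      (fun z hz hz1 hzo => D.centralizer_torus hz (D.sq_ne_one_of_odd hzo hz1)) hodd hx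
    haveI := D.H_cyclic
    refine ⟨?_, ?_, hB⟩
    · rw [hk]
      exact isCyclic_of_surjective _ (D.H.equivMapOfInjective _ (MulAut.conj k).injective).surjective
    · rw [hk, card_map_conj, D.card_H]
  · intro ho
    rw [D.a_eq.1] at ho
    have hodd : Odd (orderOf x) := ho ▸ D.ha
    have hx : x ≠ 1 := fun e => by
      rw [e, orderOf_one] at ho
      have := D.h4a
      omega
    obtain ⟨k, hk, hB⟩ := key O (Wgrp D.t v O) ((D.conj_into_torus Q hx).2 ho.dvd)
      (fun z hz hz1 _ => Q.centralizer_eq D hz hz1) hodd hx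
    refine ⟨?_, ?_, fun y _ h4 => ?_, hB⟩
    · rw [hk]
      refine ⟨⟨?_⟩⟩
      rintro ⟨_, y, hy, rfl⟩ ⟨_, z, hz, rfl⟩
      exact Subtype.ext (commute_conj k (Q.W_comm D y hy z hz)).eq
    · rw [hk, card_map_conj, (Q.W_structure D).1, D.h4a]
    · have hd := orderOf_dvd_of_pow_eq_one ((pow_two y).trans (D.sq_of_two_pow (k := 2) h4))
      rw [h4] at hd
      omega

/-- The normalisers of the four kinds of tori. -/
theorem hall_subgroups :
    ∀ kn ∈ ({((q - 1) / 2, 2 * (q - 1)), ((q + 1) / 4, 6 * (q + 1)),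
        (q - r + 1, 6 * (q - r + 1)), (q + r + 1, 6 * (q + r + 1))} : Set (ℕ × ℕ)),
      ∃ A : Subgroup G, IsCyclic A ∧ Nat.card A = kn.1 ∧ Nat.card (normalizer (A : Set G)) = kn.2 ∧
        ∀ A₀ : Subgroup G, A₀ ≤ A → A₀ ≠ ⊥ → normalizer (A₀ : Set G) = normalizer (A : Set G) := by
  obtain ⟨v, O, Q⟩ := D.exists_quad₀
  obtain ⟨T₁, T₂, h₁, h₂, hrq, hprod, -⟩ := D.exists_bigTori Q
  have hr := D.r_lt
  have hq := D.hq
  have main : ∀ (A T N : Subgroup G) (k : ℕ), IsCyclic T → A ≤ T → Nat.card A = k → 1 < k →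
      N ≤ normalizer (T : Set G) → (∀ x ∈ A, x ≠ 1 → ∀ g : G, g * x * g⁻¹ ∈ T → g ∈ N) →
      ∃ A : Subgroup G, IsCyclic A ∧ Nat.card A = k ∧ Nat.card (normalizer (A : Set G)) = Nat.card N ∧
        ∀ A₀ : Subgroup G, A₀ ≤ A → A₀ ≠ ⊥ → normalizer (A₀ : Set G) = normalizer (A : Set G) := by
    intro A T N k hT hA hk hk1 hN hti
    haveI := hT
    have hA1 : A ≠ ⊥ := fun e => by rw [e, Subgroup.card_bot] at hk; omega
    have h := normalizer_eq_of_ti hT hA hA1 hN hti
    refine ⟨A, isCyclic_of_injective (inclusion hA) (inclusion_injective hA), hk, by rw [h], fun A₀ h0 h01 => ?_⟩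
    rw [h, normalizer_eq_of_ti hT (h0.trans hA) h01 hN fun x hx => hti x (h0 hx)]
  intro kn hkn
  simp only [Set.mem_insert_iff, Set.mem_singleton_iff] at hkn
  rcases hkn with rfl | rfl | rfl | rfl
  · obtain ⟨h, hh, hH⟩ := D.H_gen
    obtain ⟨hodd, hhalf⟩ := D.half_odd
    have hcard : Nat.card (zpowers (h ^ 2)) = (q - 1) / 2 := by
      rw [Nat.card_zpowers, orderOf_pow, hh, Nat.gcd_eq_right ⟨(q - 1) / 2, hhalf.symm⟩]
    rw [← D.card_NH]
    exact main (zpowers (h ^ 2)) D.H (normalizer (D.H : Set G)) _ D.H_cyclic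
      (zpowers_le.2 (pow_mem (hH ▸ mem_zpowers h) 2)) hcard (by omega) le_rfl fun x hx hx1 g hg =>
        D.H_ti x ((zpowers_le.2 (pow_mem (hH ▸ mem_zpowers h) 2)) hx) (D.sq_ne_one_of_odd (Odd.of_dvd_nat hodd (by
          rw [← hcard, ← Subgroup.orderOf_mk x hx]; exact _root_.orderOf_dvd_natCard _)) hx1) g hg
  · rw [D.a_eq.1, show 6 * (q + 1) = 24 * a by rw [D.h4a]; ring, ← Q.card_normalizer D]
    exact main O O _ _ Q.cyclic le_rfl Q.card_O (by have := D.h4a; omega) (Q.normalizer_le D)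
      fun x hx hx1 g hg => Q.mem_normalizer_of_conj D hx hx1 hg
  · rw [show q - r + 1 = q + 1 - r by omega, ← h₁.card_N]
    exact main T₁ T₁ _ _ h₁.cyclic le_rfl h₁.card_T (by omega) le_rfl fun x hx hx1 g hg => ti_of_cent h₁.cent hx hx1 hg
  · rw [show q + r + 1 = q + 1 + r by omega, ← h₂.card_N]
    exact main T₂ T₂ _ _ h₂.cyclic le_rfl h₂.card_T (by omega) le_rfl fun x hx hx1 g hg => ti_of_cent h₂.cent hx hx1 hg

end ToriData

end CfsgLib.SmallRee
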