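import Cfsg.Agent.Lib.SmallRee.ToriPSL
import Cfsg.Agent.Lib.SpecLin.SLTwoClassSize

/-!
Pairs of commuting involutions in a group whose involution centraliser is `Z₂ × PSL₂(q)`.
-/

set_option autoImplicit false

namespace CfsgLib.SmallRee

open Subgroup Matrix

theorem zmod_two_cases (z : Multiplicative (ZMod 2)) : z = 1 ∨ z = Multiplicative.ofAdd 1 := by
  have h : ∀ w : ZMod 2, w = 0 ∨ w = 1 := by decide
  rcases h (Multiplicative.toAdd z) with e | e
  · exact Or.inl (Multiplicative.toAdd.injective e)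
  · exact Or.inr (Multiplicative.toAdd.injective e)

theorem centralizer_facts {G : Type*} [Group G] [Finite G] {F : Type*} [Field F] [Fintype F]
    (hq4 : Fintype.card F % 4 = 3) (hq : 5 ≤ Fintype.card F) {a : ℕ} (ha : Fintype.card F + 1 = 4 * a)
    (haodd : Odd a) {t : G} (ht : t * t = 1) (ht1 : t ≠ 1)
    (e : ↥(centralizer ({t} : Set G)) ≃* Multiplicative (ZMod 2) × ProjectiveSpecialLinearGroup (Fin 2) F) :
    (∀ u v : G, u * u = 1 → u ≠ 1 → u ≠ t → Commute t u → v * v = 1 → v ≠ 1 → v ≠ t →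
      Commute t v → ∃ g : G, Commute t g ∧ (g * u * g⁻¹ = v ∨ g * u * g⁻¹ = t * v)) ∧
    (∀ v g : G, v * v = 1 → v ≠ 1 → v ≠ t → Commute t v → Commute t g → g * v * g⁻¹ ≠ t * v) ∧
    (∀ v : G, v * v = 1 → v ≠ 1 → v ≠ t → Commute t v →
      ∃ O : Subgroup G, IsCyclic O ∧ Nat.card O = a ∧
        Nat.card ↥(centralizer ({t} : Set G) ⊓ centralizer {v}) = 8 * a ∧
        (∀ z ∈ O, Commute t z ∧ Commute v z) ∧
        (∀ g : G, Commute t g → Commute v g → Odd (orderOf g) → g ∈ O) ∧
        (∀ w : G, Commute t w → Commute v w → w * w = 1 → w ≠ 1 → w ≠ t → w ≠ v → w ≠ t * v →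
          ∀ z ∈ O, Commute w z → z = 1) ∧
        (∀ z ∈ O, z ≠ 1 → ∀ g : G, Commute t g → Commute z g → Commute v g)) := by
  classical
  set C := centralizer ({t} : Set G)
  set L := ProjectiveSpecialLinearGroup (Fin 2) F
  set ω : Multiplicative (ZMod 2) := Multiplicative.ofAdd 1
  have hω1 : ω ≠ 1 := by decide
  have hzz : ∀ z : Multiplicative (ZMod 2), z * z = 1 := by decide
  have h2 : (2 : F) ≠ 0 := CfsgLib.PSL2.two_ne_zero_of_odd (Nat.odd_iff.2 (by omega))
  have hmem : ∀ {g : G}, Commute t g → g ∈ C := fun h => mem_centralizer_singleton_iff.2 h.eq.symm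
  -- the embedding
  let ψ : Multiplicative (ZMod 2) × L →* G := C.subtype.comp e.symm.toMonoidHom
  have hψi : Function.Injective ψ := C.subtype_injective.comp e.symm.injective
  have hψt : ∀ p, Commute t (ψ p) := fun p => (mem_centralizer_singleton_iff.1 (e.symm p).2).symm
  have hsur : ∀ g, Commute t g → ∃ p, ψ p = g := fun g hg => ⟨e ⟨g, hmem hg⟩, by simp [ψ]⟩
  have hcomm : ∀ p p', Commute (ψ p) (ψ p') ↔ Commute p p' := fun p p' =>
    ⟨fun h => hψi (by rw [map_mul, map_mul]; exact h.eq), fun h => h.map ψ⟩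
  have hinvol : ∀ (z : Multiplicative (ZMod 2)) (x : L), ψ (z, x) * ψ (z, x) = 1 ↔ x * x = 1 := by
    intro z x
    rw [← map_mul, map_eq_one_iff ψ hψi, Prod.mk_mul_mk, Prod.mk_eq_one, and_iff_right (hzz z)]
  have hord : ∀ x : L, x * x = 1 → x ≠ 1 → orderOf x = 2 := fun x h1 h2 =>
    orderOf_eq_prime (hp := ⟨Nat.prime_two⟩) (by rw [pow_two]; exact h1) h2
  -- the image of `t`
  obtain ⟨⟨z₀, x₀⟩, hp0⟩ := hsur t (Commute.refl t)
  have hx0 : x₀ = 1 := by
    by_contra hx
    have hx2 : x₀ * x₀ = 1 := (hinvol z₀ x₀).1 (by rw [hp0]; exact ht)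
    obtain ⟨f, hf, hxf, -, hcard, -, -⟩ := psl_invol_structure hq4 hq (hord x₀ hx2 hx)
    have hall : centralizer ({x₀} : Set L) = ⊤ := by
      refine eq_top_iff.2 fun g _ => mem_centralizer_singleton_iff.2 ?_
      have := (hcomm (z₀, x₀) (1, g)).1 (by rw [hp0]; exact hψt _)
      exact (congrArg Prod.snd this.eq).symm
    rw [hall, Subgroup.card_top] at hcard
    have hsl := Subgroup.card_eq_card_quotient_mul_card_subgroup
      (Subgroup.center (SpecialLinearGroup (Fin 2) F))
    rw [CfsgLib.PSL2.card_center_sl h2, CfsgLib.SpecLin.SLTwo.card_sl_two] at hsl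
    change _ = Nat.card L * 2 at hsl
    rw [hcard] at hsl
    have hq2 : 25 ≤ Fintype.card F ^ 2 := by
      calc 25 = 5 ^ 2 := rfl
        _ ≤ _ := Nat.pow_le_pow_left hq 2
    have := Nat.mul_le_mul_left (Fintype.card F) (show 24 ≤ Fintype.card F ^ 2 - 1 by omega)
    omega
  subst hx0
  have hz0 : z₀ = ω := by
    rcases zmod_two_cases z₀ with h | h
    · exact absurd (by rw [← hp0, h, ← Prod.one_eq_mk, map_one]) ht1
    · exact h
  rw [hz0] at hp0
  have htmul : ∀ z (x : L), t * ψ (z, x) = ψ (ω * z, x) := fun z x => by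
    rw [← hp0, ← map_mul, Prod.mk_mul_mk, one_mul]
  have hsplit : ∀ v, v * v = 1 → v ≠ 1 → v ≠ t → Commute t v →
      ∃ z i, ψ (z, i) = v ∧ orderOf i = 2 := by
    intro v hv hv1 hvt hc
    obtain ⟨⟨z, i⟩, rfl⟩ := hsur v hc
    refine ⟨z, i, rfl, hord i ((hinvol z i).1 hv) ?_⟩
    rintro rfl
    rcases zmod_two_cases z with rfl | rfl
    · exact hv1 (by rw [← Prod.one_eq_mk, map_one])
    · exact hvt hp0
  refine ⟨fun u v hu hu1 hut hcu hv hv1 hvt hcv => ?_, fun v g hv hv1 hvt hcv hg he => ?_, fun v hv hv1 hvt hcv => ?_⟩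
  · obtain ⟨z, i, rfl, hi⟩ := hsplit u hu hu1 hut hcu
    obtain ⟨z', i', rfl, hi'⟩ := hsplit v hv hv1 hvt hcv
    obtain ⟨k, hk⟩ := isConj_iff.1 (CfsgLib.PSL2.isConj_of_orderOf_two h2 hi hi')
    refine ⟨ψ (1, k), hψt _, ?_⟩
    rw [← map_inv, ← map_mul, ← map_mul, htmul, Prod.inv_mk, Prod.mk_mul_mk, Prod.mk_mul_mk, hk, inv_one,
      one_mul, mul_one]
    rcases zmod_two_cases z with rfl | rfl <;> rcases zmod_two_cases z' with rfl | rfl
    · exact Or.inl rfl
    · exact Or.inr (by rw [hzz])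
    · exact Or.inr (by rw [mul_one])
    · exact Or.inl rfl
  · obtain ⟨z, i, rfl, hi⟩ := hsplit v hv hv1 hvt hcv
    obtain ⟨⟨z', k⟩, rfl⟩ := hsur g hg
    rw [← map_inv, ← map_mul, ← map_mul, htmul] at he
    have h1 := congrArg Prod.fst (hψi he)
    simp only [Prod.fst_mul, Prod.fst_inv] at h1
    rw [mul_comm z' z, mul_inv_cancel_right, right_eq_mul] at h1
    exact hω1 h1
  · obtain ⟨zv, i, rfl, hi⟩ := hsplit v hv hv1 hvt hcv
    obtain ⟨f, hf, hif, hfC, hCcard, hout, hle⟩ := psl_invol_structure hq4 hq hi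
    rw [show (Fintype.card F + 1) / 2 = 2 * a by omega] at hf
    have hf2 : orderOf (f ^ 2) = a := by
      rw [orderOf_pow, hf, Nat.gcd_eq_right (dvd_mul_right 2 a), Nat.mul_div_cancel_left _ Nat.two_pos]
    set g₀ := ψ (1, f ^ 2) with hg0
    have hg0o : orderOf g₀ = a := by
      rw [hg0, orderOf_injective ψ hψi, Prod.orderOf_mk, orderOf_one, Nat.lcm_one_left, hf2]
    have hiF : ∀ y ∈ zpowers f, Commute i y := fun y hy => (mem_centralizer_singleton_iff.1 (hfC hy)).symm
    have hOmem : ∀ y, y ∈ zpowers g₀ → ∃ x ∈ zpowers f, y = ψ (1, x) ∧ x ^ a = 1 := by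
      intro y hy
      obtain ⟨n, rfl⟩ := mem_zpowers_iff.1 hy
      refine ⟨(f ^ 2) ^ n, zpow_mem (pow_mem (mem_zpowers f) 2) n, ?_, ?_⟩
      · rw [hg0, ← map_zpow, Prod.pow_mk, _root_.one_zpow]
      · rw [← zpow_natCast, ← _root_.zpow_mul, mul_comm, _root_.zpow_mul, zpow_natCast,
          orderOf_dvd_iff_pow_eq_one.1 hf2.dvd, _root_.one_zpow]
    have hpv : ∀ z (x : L), Commute i x → Commute (ψ (zv, i)) (ψ (z, x)) := fun z x h =>
      (hcomm _ _).2 (show (zv, i) * (z, x) = (z, x) * (zv, i) by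
        rw [Prod.mk_mul_mk, Prod.mk_mul_mk, h.eq, mul_comm zv z])
    have hpv' : ∀ z (x : L), Commute (ψ (zv, i)) (ψ (z, x)) → Commute i x := fun z x h =>
      congrArg Prod.snd ((hcomm _ _).1 h).eq
    refine ⟨zpowers g₀, inferInstance, by rw [Nat.card_zpowers, hg0o], ?_, ?_, ?_, ?_, ?_⟩
    · have hb : Function.Bijective (fun p : Multiplicative (ZMod 2) × ↥(centralizer ({i} : Set L)) =>
          (⟨ψ (p.1, (p.2 : L)), mem_inf.2 ⟨hmem (hψt _), mem_centralizer_singleton_iff.2
            (hpv _ _ (mem_centralizer_singleton_iff.1 p.2.2).symm).eq.symm⟩⟩ :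
              ↥(C ⊓ centralizer {ψ (zv, i)}))) := by
        constructor
        · rintro ⟨z, x⟩ ⟨z', x'⟩ h
          have h' := congrArg Subtype.val h
          have := hψi h'
          exact Prod.ext (congrArg Prod.fst this :) (Subtype.ext (congrArg Prod.snd this :))
        · rintro ⟨g, hg, hg'⟩
          obtain ⟨⟨z, x⟩, rfl⟩ := hsur g (mem_centralizer_singleton_iff.1 hg).symm
          exact ⟨(z, ⟨x, mem_centralizer_singleton_iff.2 (hpv' z x (mem_centralizer_singleton_iff.1 hg').symm).eq.symm⟩), rfl⟩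
      rw [← Nat.card_eq_of_bijective _ hb, Nat.card_prod, Nat.card_congr Multiplicative.toAdd, Nat.card_zmod, hCcard, ha]
      ring
    · intro y hy
      obtain ⟨x, hx, rfl, -⟩ := hOmem y hy
      exact ⟨hψt _, hpv _ _ (hiF x hx)⟩
    · intro g hg hg' ho
      obtain ⟨⟨z, x⟩, rfl⟩ := hsur g hg
      rw [orderOf_injective ψ hψi, Prod.orderOf_mk] at ho
      have hz : z = 1 := by
        rcases zmod_two_cases z with h | h
        · exact h
        · exfalso
          have : orderOf z = 2 := orderOf_eq_prime (hp := ⟨Nat.prime_two⟩) (by rw [pow_two]; exact hzz z) (h ▸ hω1)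
          have h2 := Odd.of_dvd_nat ho (Nat.dvd_lcm_left _ _)
          rw [this] at h2
          exact absurd h2 (by decide)
      have hxo : Odd (orderOf x) := Odd.of_dvd_nat ho (Nat.dvd_lcm_right _ _)
      have hxf : x ∈ zpowers f := by
        by_contra hn
        have h2 := hout x (hpv' z x hg') hn
        have hx1 : x = 1 := by
          by_contra hne
          rw [hord x h2 hne] at hxo
          exact absurd hxo (by decide)
        exact hn (hx1 ▸ one_mem _)
      obtain ⟨j, hj⟩ := exists_pow_eq_self_of_coprime (n := 2) (x := x) (Nat.coprime_two_left.2 hxo)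
      obtain ⟨n, rfl⟩ := mem_zpowers_iff.1 hxf
      have h2 : (f ^ n) ^ 2 = (f ^ 2) ^ n := by
        rw [← zpow_natCast (f ^ n), ← zpow_natCast f 2, ← _root_.zpow_mul, ← _root_.zpow_mul, mul_comm]
      rw [hz, ← hj, h2]
      refine mem_zpowers_iff.2 ⟨n * j, ?_⟩
      rw [hg0, ← map_zpow, Prod.pow_mk, _root_.one_zpow, _root_.zpow_mul, zpow_natCast]
    · intro w hw hw' hw2 hw1 hwt hwv hwtv y hy hwy
      obtain ⟨⟨z, x⟩, rfl⟩ := hsur w hw
      obtain ⟨x', hx', rfl, hx'a⟩ := hOmem y hy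
      have hx2 := (hinvol z x).1 hw2
      by_cases hxf : x ∈ zpowers f
      · exfalso
        rcases eq_or_ne x 1 with rfl | hx1
        · rcases zmod_two_cases z with rfl | rfl
          · exact hw1 (by rw [← Prod.one_eq_mk, map_one])
          · exact hwt hp0
        · have hxi : x = i := by
            have h1 : orderOf (⟨x, hxf⟩ : zpowers f) = 2 := by rw [Subgroup.orderOf_mk]; exact hord x hx2 hx1
            have h2 : orderOf (⟨i, hif⟩ : zpowers f) = 2 := by rw [Subgroup.orderOf_mk]; exact hi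
            exact congrArg Subtype.val (CfsgLib.PSL2.eq_of_orderOf_two h1 h2)
          subst hxi
          rcases zmod_two_cases z with rfl | rfl <;> rcases zmod_two_cases zv with rfl | rfl
          · exact hwv rfl
          · exact hwtv (by rw [htmul, hzz])
          · exact hwtv (by rw [htmul, mul_one])
          · exact hwv rfl
      · have hxx' : Commute x x' := congrArg Prod.snd ((hcomm _ _).1 hwy).eq
        have hn : x * x' ∉ zpowers f := fun h => hxf (by simpa using mul_mem h (inv_mem hx'))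
        have h1 := hout _ ((hpv' z x hw').mul_right (hiF x' hx')) hn
        rw [hxx'.symm.mul_mul_mul_comm, hx2, one_mul] at h1
        have hx'1 : x' = 1 := by
          obtain ⟨j, hj⟩ := haodd
          rw [hj, pow_succ, pow_mul, pow_two, h1, one_pow, one_mul] at hx'a
          exact hx'a
        rw [hx'1, ← Prod.one_eq_mk, map_one]
    · intro y hy hy1 g hg hyg
      obtain ⟨⟨z, x⟩, rfl⟩ := hsur g hg
      obtain ⟨x', hx', rfl, -⟩ := hOmem y hy
      refine hpv _ _ (hle x' hx' (fun e => hy1 (by rw [e, ← Prod.one_eq_mk, map_one])) x ?_)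
      exact congrArg Prod.snd ((hcomm _ _).1 hyg).eq

end CfsgLib.SmallRee
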