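import Mathlib

/-!
An element of prime order `l` in a seven-dimensional linear group over `q` elements, `q` of order six
modulo `l`: its centraliser is commutative and contains at most six of its conjugates.
-/

set_option autoImplicit false

namespace CfsgLib.SmallRee

open Matrix

variable {K : Type*} [Field K] [Fintype K] {ι : Type*} [Fintype ι] [DecidableEq ι]
  {G : Type*} [Group G] [Finite G]

/-- A non-trivial element of order prime to `q` of a group of `7 × 7` matrices has a fixed vector. -/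
theorem exists_fixed_vector (ρ : G →* GL ι K) {x : G} {l : ℕ} (hl : l.Prime) (hx : orderOf x = l)
    (h7 : ¬ l ∣ Fintype.card K ^ Fintype.card ι - 1) :
    ∃ v : ι → K, v ≠ 0 ∧ (ρ x : Matrix ι ι K) *ᵥ v = v := by
  classical
  haveI := Fact.mk hl
  letI : MulAction (Subgroup.zpowers x) (ι → K) :=
    { smul := fun g v => (ρ (g : G) : Matrix ι ι K) *ᵥ v
      one_smul := fun v => show (ρ ((1 : Subgroup.zpowers x) : G) : Matrix ι ι K) *ᵥ v = v by simp
      mul_smul := fun g h v => show (ρ ((g * h : Subgroup.zpowers x) : G) : Matrix ι ι K) *ᵥ v =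
          (ρ (g : G) : Matrix ι ι K) *ᵥ ((ρ (h : G) : Matrix ι ι K) *ᵥ v) by
        simp [Matrix.mulVec_mulVec] }
  have hP : IsPGroup l (Subgroup.zpowers x) :=
    IsPGroup.of_card (n := 1) (by rw [Nat.card_zpowers, hx, pow_one])
  have hmod := hP.card_modEq_card_fixedPoints (ι → K)
  by_contra hno
  push Not at hno
  have hfix : MulAction.fixedPoints (Subgroup.zpowers x) (ι → K) = {0} := by
    ext v
    rw [MulAction.mem_fixedPoints, Set.mem_singleton_iff]
    refine ⟨fun h => ?_, fun h g => ?_⟩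
    · by_contra hv
      exact hno v hv (h ⟨x, Subgroup.mem_zpowers x⟩)
    · subst h
      exact Matrix.mulVec_zero _
  rw [hfix, Nat.card_unique (α := ({0} : Set (ι → K))), Nat.card_fun, Nat.card_eq_fintype_card,
    Nat.card_eq_fintype_card] at hmod
  exact h7 ((Nat.modEq_iff_dvd' (Nat.one_le_pow _ _ Fintype.card_pos)).1 hmod.symm)

theorem linear_torus (hι : Fintype.card ι = 7) (ρ : G →* GL ι K) (hρ : Function.Injective ρ) {x : G}
    {l : ℕ} (hl : l.Prime) (hx : orderOf x = l) (hlq : ¬ l ∣ Fintype.card K)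
    (hord : ∀ i, 0 < i → i < 6 → ¬ l ∣ Fintype.card K ^ i - 1)
    (h6 : l ∣ Fintype.card K ^ 6 - 1) :
    (∀ g h : G, Commute x g → Commute x h → Commute g h) ∧
      Nat.card {y : G // Commute x y ∧ IsConj x y} ≤ 6 := by
  classical
  set q := Fintype.card K with hq
  have hq1 : 1 < q := Fintype.one_lt_card
  let L := AlgebraicClosure K
  let f : K →+* L := algebraMap K L
  let σ : G →* Matrix ι ι L := (f.mapMatrix.toMonoidHom).comp ((Units.coeHom _).comp ρ)
  have hσ : Function.Injective σ := fun g h e =>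
    hρ (Units.ext (Matrix.map_injective f.injective e))
  let E : G →* Module.End L (ι → L) :=
    ((Matrix.toLinAlgEquiv' : Matrix ι ι L ≃ₐ[L] _).toAlgHom.toMonoidHom).comp σ
  have hEdef : ∀ g v, E g v = σ g *ᵥ v := fun g v => rfl
  have hE : Function.Injective E := fun g h e => hσ ((Matrix.toLinAlgEquiv' (R := L)).injective e)
  have hEm : ∀ g h v, E (g * h) v = E g (E h v) := fun g h v => by rw [map_mul]; rfl
  have hE1 : ∀ v, E 1 v = v := fun v => by rw [map_one]; rfl
  -- semilinearity
  let Φ := FiniteField.frobeniusAlgHom K L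
  have hΦ : ∀ z : L, Φ z = z ^ q := fun z => rfl
  let φ : (ι → L) → (ι → L) := fun v i => Φ (v i)
  have hφE : ∀ g v, E g (φ v) = φ (E g v) := by
    intro g v
    funext i
    simp only [hEdef, φ, Matrix.mulVec, dotProduct, map_sum, map_mul]
    refine Finset.sum_congr rfl fun j _ => ?_
    congr 1
    exact (Φ.commutes ((ρ g : Matrix ι ι K) i j)).symm
  have hφsmul : ∀ (c : L) v, φ (c • v) = Φ c • φ v := fun c v => by
    funext i; simp [φ]
  have hφ0 : ∀ v, φ v = 0 → v = 0 := fun v h => by
    funext i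
    exact Φ.toRingHom.injective ((congrFun h i).trans (map_zero Φ).symm)
  -- powers on eigenvectors
  have hpow : ∀ g (μ : L) v, E g v = μ • v → ∀ k : ℕ, E (g ^ k) v = μ ^ k • v := by
    intro g μ v h k
    induction k with
    | zero => rw [pow_zero, hE1, pow_zero, one_smul]
    | succ k ih => rw [pow_succ', hEm, ih, map_smul, h, smul_smul, pow_succ]
  have hxl : x ^ l = 1 := by rw [← hx]; exact pow_orderOf_eq_one x
  have hx1 : x ≠ 1 := fun e => by rw [e, orderOf_one] at hx; exact hl.one_lt.ne hx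
  have hμl : ∀ g (μ : L) v, g ^ l = 1 → v ≠ 0 → E g v = μ • v → μ ^ l = 1 := by
    intro g μ v hg hv h
    have h1 := hpow g μ v h l
    rw [hg, hE1] at h1
    have h2 : (μ ^ l - 1) • v = 0 := by rw [sub_smul, one_smul, ← h1, sub_self]
    exact sub_eq_zero.1 ((smul_eq_zero.1 h2).resolve_right hv)
  have hlK : (l : L) ≠ 0 := by
    intro e
    obtain ⟨p, hp⟩ := CharP.exists K
    obtain ⟨n, hpp, hn⟩ := FiniteField.card K p
    haveI : CharP L p := charP_of_injective_ringHom f.injective p
    have : l = p := ((Nat.prime_dvd_prime_iff_eq hpp hl).1 ((CharP.cast_eq_zero_iff L p l).1 e)).symm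
    exact hlq (by rw [hq, hn, this]; exact dvd_pow_self p n.ne_zero)
  -- an eigenvalue different from one
  obtain ⟨ζ, v₀, hv₀, hζv, hζ1⟩ : ∃ (ζ : L) (v : ι → L), v ≠ 0 ∧ E x v = ζ • v ∧ ζ ≠ 1 := by
    set W : Submodule L (ι → L) := LinearMap.range (E x - 1)
    have hW : W ≠ ⊥ := by
      intro e
      rw [LinearMap.range_eq_bot, sub_eq_zero] at e
      exact hx1 (hE (e.trans (map_one E).symm))
    haveI : Nontrivial W := Submodule.nontrivial_iff_ne_bot.2 hW
    have hinv : ∀ w ∈ W, E x w ∈ W := by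
      rintro _ ⟨v, rfl⟩
      exact ⟨E x v, by simp [map_sub]⟩
    obtain ⟨μ, hμ⟩ := Module.End.exists_eigenvalue (LinearMap.restrict (E x) hinv)
    obtain ⟨w, hw⟩ := hμ.exists_hasEigenvector
    have hw0 : (w : ι → L) ≠ 0 := fun e => hw.2 (Subtype.ext e)
    have hwe : E x (w : ι → L) = μ • (w : ι → L) := congrArg Subtype.val hw.apply_eq_smul
    refine ⟨μ, w, hw0, hwe, fun e => hw0 ?_⟩
    rw [e, one_smul] at hwe
    obtain ⟨v, hv⟩ := w.2
    have hit : ∀ k : ℕ, E (x ^ k) v = v + k • (w : ι → L) := by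
      intro k
      induction k with
      | zero => simp [hE1]
      | succ k ih =>
        rw [pow_succ', hEm, ih, map_add, map_nsmul, hwe, succ_nsmul]
        rw [← hv]
        simp only [LinearMap.sub_apply, Module.End.one_apply]
        abel
    have h0 := hit l
    rw [hxl, hE1, left_eq_add, ← Nat.cast_smul_eq_nsmul L, smul_eq_zero] at h0
    exact h0.resolve_left hlK
  have hζl : orderOf ζ = l :=
    haveI := Fact.mk hl
    orderOf_eq_prime (hμl x ζ v₀ hxl hv₀ hζv) hζ1
  have hd : ∀ i j, i < j → j < 6 → ζ ^ q ^ i ≠ ζ ^ q ^ j := by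
    intro i j hij hj e
    have h1 : q ^ i ≡ q ^ j [MOD l] := by
      have hu : IsOfFinOrder ζ := orderOf_pos_iff.1 (hζl.symm ▸ hl.pos)
      exact hζl ▸ (hu.pow_eq_pow_iff_modEq).1 e
    have h2 := (Nat.modEq_iff_dvd' (Nat.pow_le_pow_right (by omega) hij.le)).1 h1
    rw [show q ^ j - q ^ i = q ^ i * (q ^ (j - i) - 1) by
      rw [Nat.mul_sub_one, ← pow_add, Nat.add_sub_cancel' hij.le]] at h2
    rcases hl.dvd_mul.1 h2 with h | h
    · exact hlq (hl.dvd_of_dvd_pow h)
    · exact hord (j - i) (by omega) (by omega) h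
  have hne1 : ∀ i, ζ ^ q ^ i ≠ 1 := fun i e => hlq (hl.dvd_of_dvd_pow (hζl ▸ orderOf_dvd_of_pow_eq_one e))
  -- the rational fixed vector
  obtain ⟨w₀, hw₀, hw₀f⟩ := exists_fixed_vector ρ hl hx (by
    rw [hι, ← hq]
    intro h7
    refine hord 1 (by norm_num) (by norm_num) ?_
    rw [pow_one]
    have h : q ^ 7 - 1 - (q ^ 6 - 1) = q ^ 6 * (q - 1) := by
      rw [Nat.mul_sub_one, ← pow_succ, show (6 + 1 : ℕ) = 7 from rfl]
      have := Nat.one_le_pow 6 q (by omega)
      have := Nat.one_le_pow 7 q (by omega)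
      omega
    have h' := Nat.dvd_sub h7 h6
    rw [h] at h'
    exact (hl.dvd_mul.1 h').resolve_left fun e => hlq (hl.dvd_of_dvd_pow e))
  set w : ι → L := fun i => f (w₀ i) with hw
  have hwE : E x w = w := by
    funext i
    have := congrArg f (congrFun hw₀f i)
    simpa [hEdef, hw, σ, Matrix.mulVec, dotProduct] using this
  have hwne : w ≠ 0 := fun e => hw₀ (funext fun i => f.injective (by simpa [hw] using congrFun e i))
  have hφw : φ w = w := funext fun i => Φ.commutes (w₀ i)
  -- the seven eigenvectors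
  let vec : Fin 7 → (ι → L) := fun i => if (i : ℕ) < 6 then φ^[(i : ℕ)] v₀ else w
  let μ : Fin 7 → L := fun i => if (i : ℕ) < 6 then ζ ^ q ^ (i : ℕ) else 1
  have hit : ∀ g (c : L), E g v₀ = c • v₀ → ∀ i : ℕ, E g (φ^[i] v₀) = c ^ q ^ i • φ^[i] v₀ := by
    intro g c h i
    induction i with
    | zero => simpa using h
    | succ i ih =>
      rw [Function.iterate_succ_apply', hφE, ih, hφsmul, hΦ, ← pow_mul, ← pow_succ]
  have hne : ∀ i : ℕ, φ^[i] v₀ ≠ 0 := by
    intro i
    induction i with
    | zero => simpa using hv₀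
    | succ i ih => rw [Function.iterate_succ_apply']; exact fun e => ih (hφ0 _ e)
  have hvec : ∀ i, E x (vec i) = μ i • vec i := by
    intro i
    by_cases h : (i : ℕ) < 6
    · simp only [vec, μ, h, if_true]; exact hit x ζ hζv i
    · simp only [vec, μ, h, if_false, one_smul]; exact hwE
  have hvne : ∀ i, vec i ≠ 0 := fun i => by
    by_cases h : (i : ℕ) < 6
    · simp only [vec, h, if_true]; exact hne _
    · simp only [vec, h, if_false]; exact hwne
  have hμinj : Function.Injective μ := by
    intro i j e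
    have := i.2; have := j.2
    by_contra hne'
    have hij : (i : ℕ) ≠ j := fun h => hne' (Fin.ext h)
    simp only [μ] at e
    split_ifs at e with hi hj hj
    · rcases lt_or_gt_of_ne hij with h | h
      · exact hd _ _ h hj e
      · exact hd _ _ h hi e.symm
    · exact hne1 _ e
    · exact hne1 _ e.symm
    · omega
  have hind : LinearIndependent L vec :=
    Module.End.eigenvectors_linearIndependent' (E x) μ hμinj vec fun i =>
      ⟨Module.End.mem_eigenspace_iff.2 (hvec i), hvne i⟩
  let b := basisOfLinearIndependentOfCardEqFinrank hind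
    (by rw [Module.finrank_fintype_fun_eq_card, hι, Fintype.card_fin])
  have hb : ∀ i, b i = vec i := fun i => by simp [b]
  have hcoef : ∀ (c : L) (u : ι → L), E x u = c • u → ∀ j, b.repr u j ≠ 0 → μ j = c := by
    intro c u h j hj
    have h1 : ∑ i, (b.repr u i * (μ i - c)) • vec i = 0 := by
      have h2 : E x (∑ i, b.repr u i • b i) = c • ∑ i, b.repr u i • b i := by rw [b.sum_repr]; exact h
      simp only [map_sum, map_smul, hb, hvec, Finset.smul_sum, smul_smul] at h2
      simp only [mul_sub, sub_smul, Finset.sum_sub_distrib]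
      rw [h2, sub_eq_zero]
      exact Finset.sum_congr rfl fun i _ => by rw [mul_comm]
    have h3 := (Fintype.linearIndependent_iff.1 hind) _ h1 j
    exact sub_eq_zero.1 ((mul_eq_zero.1 h3).resolve_left hj)
  have hdiag : ∀ g, Commute x g → ∀ i, ∃ c : L, E g (vec i) = c • vec i := by
    intro g hg i
    set u := E g (vec i) with hu
    have h1 : E x u = μ i • u := by rw [hu, ← hEm, hg.eq, hEm, hvec, map_smul]
    refine ⟨b.repr u i, ?_⟩
    rw [← hb]
    conv_lhs => rw [← b.sum_repr u]
    refine Finset.sum_eq_single i (fun j _ hji => ?_) (fun h => absurd (Finset.mem_univ i) h)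
    by_cases h : b.repr u j = 0
    · rw [h, zero_smul]
    · exact absurd (hμinj (hcoef _ u h1 j h)) hji
  have hcomm : ∀ g h : G, Commute x g → Commute x h → Commute g h := by
    intro g h hg hh
    refine hE (b.ext fun i => ?_)
    obtain ⟨c, hc⟩ := hdiag g hg i
    obtain ⟨d, hd⟩ := hdiag h hh i
    rw [hb, hEm, hEm, hd, map_smul, hc, map_smul, hd, smul_smul, smul_smul, mul_comm]
  refine ⟨hcomm, ?_⟩
  have hfixw : ∀ y, Commute x y → y ^ l = 1 → E y w = w := by
    intro y hxy hyl
    obtain ⟨d, hd'⟩ := hdiag y hxy 6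
    have h6' : vec 6 = w := by simp [vec]
    rw [h6'] at hd'
    have hdl := hμl y d w hyl hwne hd'
    have hdq : d ^ q = d := by
      have h := congrArg φ hd'
      rw [← hφE, hφw, hφsmul, hφw, hd', hΦ] at h
      have h2 : (d - d ^ q) • w = 0 := by rw [sub_smul, h, sub_self]
      exact (sub_eq_zero.1 ((smul_eq_zero.1 h2).resolve_right hwne)).symm
    have hd0 : d ≠ 0 := fun e => by rw [e, zero_pow hl.ne_zero] at hdl; exact zero_ne_one hdl
    have hq' : d ^ (q - 1) = 1 := by
      refine mul_right_cancel₀ hd0 ?_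
      rw [one_mul, ← pow_succ, Nat.sub_add_cancel (by omega), hdq]
    have hd1 : d = 1 := orderOf_eq_one_iff.1 (Nat.eq_one_of_dvd_coprimes
      ((hl.coprime_iff_not_dvd).2 (by simpa using hord 1 (by norm_num) (by norm_num)))
      (orderOf_dvd_of_pow_eq_one hdl) (orderOf_dvd_of_pow_eq_one hq'))
    rw [hd', hd1, one_smul]
  -- conjugates
  have hsel : ∀ y : {y : G // Commute x y ∧ IsConj x y}, ∃ j : Fin 6, E y.1 v₀ = ζ ^ q ^ (j : ℕ) • v₀ := by
    rintro ⟨y, hxy, hconj⟩
    obtain ⟨g, hg⟩ := isConj_iff.1 hconj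
    obtain ⟨c, hc⟩ := hdiag y hxy 0
    have h0 : vec 0 = v₀ := by simp [vec]
    rw [h0] at hc
    set u := E g⁻¹ v₀ with hu
    have hu0 : u ≠ 0 := fun e => hv₀ (by
      rw [← hE1 v₀, ← mul_inv_cancel g, hEm, ← hu, e, map_zero])
    have hux : E x u = c • u := by
      rw [hu, ← map_smul, ← hc, ← hEm, ← hEm, ← hg]
      congr 2
      group
    obtain ⟨j, hj⟩ : ∃ j, b.repr u j ≠ 0 := by
      by_contra hno
      push Not at hno
      exact hu0 (b.repr.injective (by rw [map_zero]; ext j; simp [hno j]))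
    have hμ := hcoef c u hux j hj
    by_cases hj6 : (j : ℕ) < 6
    · refine ⟨⟨j, hj6⟩, ?_⟩
      show E y v₀ = _
      rw [hc, ← hμ]
      simp [μ, hj6]
    · exfalso
      have hc1 : c = 1 := by rw [← hμ]; simp [μ, hj6]
      have hy1 : y ≠ 1 := fun e => hx1 (isConj_one_left.1 (e ▸ hconj))
      refine hy1 (hE (b.ext fun i => ?_))
      rw [hb, hE1]
      have hyl : y ^ l = 1 := by rw [← hg, conj_pow, hxl, mul_one, mul_inv_cancel]
      by_cases hi : (i : ℕ) < 6
      · simp only [vec, hi, if_true]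
        rw [hit y c hc, hc1, one_pow, one_smul]
      · simp only [vec, hi, if_false]
        exact hfixw y hxy hyl
  choose F hF using hsel
  refine (Nat.card_le_card_of_injective F fun y z e => Subtype.ext ?_).trans (by simp)
  have hyz : E y.1 v₀ = E z.1 v₀ := by rw [hF, hF, e]
  refine hE (b.ext fun i => ?_)
  rw [hb]
  by_cases hi : (i : ℕ) < 6
  · simp only [vec, hi, if_true]
    rw [hit _ _ (hF y), hit _ _ (hF z), e]
  · simp only [vec, hi, if_false]
    have key : ∀ y : {y : G // Commute x y ∧ IsConj x y}, E y.1 w = w := by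
      rintro ⟨y, hxy, hconj⟩
      obtain ⟨g, hg⟩ := isConj_iff.1 hconj
      exact hfixw y hxy (by rw [← hg, conj_pow, hxl, mul_one, mul_inv_cancel])
    rw [key y, key z]

end CfsgLib.SmallRee
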