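import Cfsg.Agent.Lib.SmallRee.Torus

/-!
The unipotent subgroup of a small Ree group: parametrisation, the action of the torus, and the
elements of order three.
-/

set_option autoImplicit false

namespace CfsgLib.SmallRee

open Cfsg.Lie CfsgLib.ChevStr CfsgLib.Twisted
open scoped MatrixGroups

variable (K : Type*) [Field K] (m : ℕ)

/-- `U1`. -/
abbrev U1 : Subgroup (GL chevG2.Idx K) := chevG2.posUnipotent K ⊓ twistedG2 K (3 ^ m)

/-- The element with parameters `t, u, v`. -/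
noncomputable def uni (t u v : K) : GL chevG2.Idx K := (coreG2 K).wordGL (reeWordU (3 ^ m) t u v)

theorem uni_mem_U1 (t u v : K) : uni K m t u v ∈ U1 K m := by
  refine Subgroup.mem_inf.2 ⟨?_, (coreG2 K).wordGL_mem_gen ⟨t, u, v, Or.inl rfl⟩⟩
  rw [(coreG2 K).posUnipotent_eq]
  refine (coreG2 K).wordGL_mem_Ucl fun p hp => ?_
  have h : ∀ r ∈ [g2a, g2b, g2ab, g2aab, g2aaab, g2aaabb], chevG2.IsPosRoot r := by decide +kernel
  refine h _ ?_
  simp only [reeWordU, List.mem_cons, List.not_mem_nil, or_false] at hp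
  rcases hp with rfl | rfl | rfl | rfl | rfl | rfl <;> simp

theorem uni_zero : uni K m 0 0 0 = 1 := by
  have hpos : 0 < 3 ^ m := Nat.pow_pos (by norm_num)
  simp [uni, reeWordU, ChevCore.wordGL_cons, ChevCore.wordGL_nil, (coreG2 K).xGL_zero,
    zero_pow hpos.ne', zero_pow (Nat.succ_ne_zero _)]

variable [CharP K 3]

theorem uni_inj {t u v t' u' v' : K} (h : uni K m t u v = uni K m t' u' v') :
    t = t' ∧ u = u' ∧ v = v' := by
  have := word_injG2 K (a₁ := (t, u, v)) (a₂ := (t', u', v')) h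
  simpa using this

theorem uni_eq_one_iff {t u v : K} : uni K m t u v = 1 ↔ t = 0 ∧ u = 0 ∧ v = 0 := by
  constructor
  · intro h
    exact uni_inj K m (h.trans (uni_zero K m).symm)
  · rintro ⟨rfl, rfl, rfl⟩
    exact uni_zero K m

variable [Fintype K] {m} (hn : Fintype.card K = 3 * (3 ^ m * 3 ^ m))
include hn

theorem exists_uni {g : GL chevG2.Idx K} (hg : g ∈ U1 K m) : ∃ t u v, uni K m t u v = g := by
  classical
  let f : K × K × K → ↥(U1 K m) := fun p => ⟨uni K m p.1 p.2.1 p.2.2, uni_mem_U1 K m _ _ _⟩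
  have hf : Function.Bijective f := by
    rw [Nat.bijective_iff_injective_and_card]
    refine ⟨fun a b h => word_injG2 K (congrArg Subtype.val h), ?_⟩
    rw [card_U1G2 K hn, Nat.card_prod, Nat.card_prod, Nat.card_eq_fintype_card]
    ring
  obtain ⟨⟨t, u, v⟩, hp⟩ := hf.2 ⟨g, hg⟩
  exact ⟨t, u, v, congrArg Subtype.val hp⟩

omit [CharP K 3] in
theorem pow_q (x : K) : x ^ (3 * (3 ^ m * 3 ^ m)) = x := by rw [← hn]; exact FiniteField.pow_card x

omit [CharP K 3] in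
theorem pow_three_sq (x : K) : ((x ^ 3 ^ m) ^ 3) ^ 3 ^ m = x := by
  rw [← pow_mul, ← pow_mul, show 3 ^ m * (3 * 3 ^ m) = 3 * (3 ^ m * 3 ^ m) by ring, pow_q K hn]

/-- The torus scales the parameters by `l`, `l ^ (3θ+1)`, `l ^ (3θ+2)`. -/
theorem tau_conj_uni (l : Kˣ) (t u v : K) :
    tau K m l * uni K m t u v * (tau K m l)⁻¹ =
      uni K m (l * t) ((l : K) ^ (3 * 3 ^ m + 1) * u) ((l : K) ^ (3 * 3 ^ m + 2) * v) := by
  set χ := fun s => (chr K (tauVec K m l) s : K)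
  obtain ⟨ha, hb⟩ := chr_tau K m l
  obtain ⟨-, -, -, -, c1, c2, c3, c4, c5, c6, c7, c8⟩ := cartan_vals
  have e : ∀ (s : ℕ) (hs : s < 12) (i j : ℕ),
      chevG2.cartan 0 s = (2 : ℤ) * i - 3 * j → chevG2.cartan 1 s = -(i : ℤ) + 2 * j →
      χ s = ((l : K) ^ 3 ^ m) ^ i * (l : K) ^ j := by
    intro s hs i j h0 h1
    have : chr K (tauVec K m l) s = (l ^ 3 ^ m) ^ i * l ^ j := by
      rw [chr_eq K _ hs, h0, h1]
      simp only [tauVec, MonoidHom.coe_mk, OneHom.coe_mk, if_true, Nat.one_ne_zero, if_false]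
      generalize l ^ 3 ^ m = A
      rw [← zpow_natCast A 2, ← zpow_natCast A 3, ← zpow_natCast l 2, ← zpow_natCast A i,
        ← zpow_natCast l j, mul_zpow, mul_zpow, ← zpow_mul, ← zpow_mul, ← zpow_mul,
        mul_mul_mul_comm, ← zpow_add, ← zpow_add]
      congr 1 <;> congr 1 <;> push_cast <;> ring
    show ((chr K (tauVec K m l) s : Kˣ) : K) = _
    rw [this]; simp
  have k7 : χ g2a = (l : K) ^ 3 ^ m := by simp [χ, ha]
  have k6 : χ g2b = (l : K) := by simp [χ, hb]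
  have k8 := e g2ab (by decide) 1 1 (by rw [show g2ab = 8 from rfl, c1]; norm_num)
    (by rw [show g2ab = 8 from rfl, c2]; norm_num)
  have k9 := e g2aab (by decide) 2 1 (by rw [show g2aab = 9 from rfl, c3]; norm_num)
    (by rw [show g2aab = 9 from rfl, c4]; norm_num)
  have k10 := e g2aaab (by decide) 3 1 (by rw [show g2aaab = 10 from rfl, c5]; norm_num)
    (by rw [show g2aaab = 10 from rfl, c6]; norm_num)
  have k11 := e g2aaabb (by decide) 3 2 (by rw [show g2aaabb = 11 from rfl, c7]; norm_num)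
    (by rw [show g2aaabb = 11 from rfl, c8]; norm_num)
  have hc : ∀ (s : ℕ), s < 12 → ∀ x : K, tau K m l * (coreG2 K).xGL s x =
      (coreG2 K).xGL s (χ s * x) * tau K m l := fun s hs x => by
    rw [← tau_conj K m l hs x, inv_mul_cancel_right]
  rw [mul_inv_eq_iff_eq_mul, uni, uni]
  simp only [reeWordU, ChevCore.wordGL_cons, ChevCore.wordGL_nil, mul_one, ← mul_assoc]
  rw [hc g2a (by decide), mul_assoc _ (tau K m l), hc g2b (by decide), ← mul_assoc,
    mul_assoc _ (tau K m l), hc g2ab (by decide), ← mul_assoc,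
    mul_assoc _ (tau K m l), hc g2aab (by decide), ← mul_assoc,
    mul_assoc _ (tau K m l), hc g2aaab (by decide), ← mul_assoc,
    mul_assoc _ (tau K m l), hc g2aaabb (by decide), ← mul_assoc, k7, k6, k8, k9, k10, k11]
  have h3 : ∀ x : K, (x ^ (3 * 3 ^ m)) ^ 3 ^ m = x := fun x => by
    rw [← pow_mul, show 3 * 3 ^ m * 3 ^ m = 3 * (3 ^ m * 3 ^ m) by ring, pow_q K hn]
  have p1 : ((l : K) ^ (3 * 3 ^ m + 1)) ^ 3 ^ m = (l : K) * (l : K) ^ 3 ^ m := by
    rw [pow_succ, mul_pow, h3]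
  have p2 : ((l : K) ^ (3 * 3 ^ m + 2)) ^ 3 ^ m = (l : K) * ((l : K) ^ 3 ^ m) ^ 2 := by
    rw [pow_add, mul_pow, h3, ← pow_mul, ← pow_mul, mul_comm 2]
  have d7 : (l : K) ^ 3 ^ m * t ^ 3 ^ m = ((l : K) * t) ^ 3 ^ m := (mul_pow _ _ _).symm
  have d8 : ((l : K) ^ 3 ^ m) ^ 1 * (l : K) ^ 1 * (t ^ (3 ^ m + 1) + u ^ 3 ^ m) =
      ((l : K) * t) ^ (3 ^ m + 1) + ((l : K) ^ (3 * 3 ^ m + 1) * u) ^ 3 ^ m := by
    rw [mul_pow _ u, p1, mul_pow _ t, pow_succ (l : K) (3 ^ m)]; ring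
  have d9 : ((l : K) ^ 3 ^ m) ^ 2 * (l : K) ^ 1 * (t ^ (2 * 3 ^ m + 1) + v ^ 3 ^ m) =
      ((l : K) * t) ^ (2 * 3 ^ m + 1) + ((l : K) ^ (3 * 3 ^ m + 2) * v) ^ 3 ^ m := by
    rw [mul_pow _ v, p2, mul_pow _ t, pow_succ (l : K) (2 * 3 ^ m), mul_comm 2 (3 ^ m), pow_mul]; ring
  have d10 : ((l : K) ^ 3 ^ m) ^ 3 * (l : K) ^ 1 * u = (l : K) ^ (3 * 3 ^ m + 1) * u := by ring
  have d11 : ((l : K) ^ 3 ^ m) ^ 3 * (l : K) ^ 2 * v = (l : K) ^ (3 * 3 ^ m + 2) * v := by ring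
  rw [d7, d8, d9, d10, d11]

omit hn in
/-- The root subgroups above `a` and `b`. -/
abbrev midSet : Set ℕ := listSet [g2ab, g2aab, g2aaab, g2aaabb]

omit hn in
/-- The root subgroups of `2a+b`, `3a+2b`. -/
abbrev topSet : Set ℕ := listSet [g2aab, g2aaabb]

omit hn in
theorem comm_table : ∀ r ∈ [g2a, g2b, g2ab, g2aab, g2aaab, g2aaabb],
    (∀ s ∈ [g2ab, g2aab, g2aaab, g2aaabb], s = r ∨ (r < chevG2.nroots ∧ s < chevG2.nroots ∧ s ≠ r ∧
      s ≠ chevG2.neg r ∧ ∀ c ∈ chevG2.commTerms r s, c.2.1 % 3 = 0 ∨ (c.1 = g2aab ∨ c.1 = g2aaabb))) ∧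
    ∀ s ∈ [g2aab, g2aaabb], s = r ∨ (r < chevG2.nroots ∧ s < chevG2.nroots ∧ s ≠ r ∧
      s ≠ chevG2.neg r ∧ ∀ c ∈ chevG2.commTerms r s, c.2.1 % 3 = 0) := by
  decide +kernel

omit hn [Fintype K] in
theorem pos_roots {r : ℕ} (hr : chevG2.IsPosRoot r) : r ∈ [g2a, g2b, g2ab, g2aab, g2aaab, g2aaabb] := by
  have h : ∀ r : Fin chevG2.nroots, chevG2.IsPosRoot r.val →
      r.val ∈ [g2a, g2b, g2ab, g2aab, g2aaab, g2aaabb] := by decide +kernel
  exact h ⟨r, hr.1⟩ hr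

omit hn [Fintype K] in
theorem commute_pair {r s : ℕ}
    (h : s = r ∨ (r < chevG2.nroots ∧ s < chevG2.nroots ∧ s ≠ r ∧ s ≠ chevG2.neg r ∧
      ∀ c ∈ chevG2.commTerms r s, c.2.1 % 3 = 0)) (t u : K) :
    Commute ((coreG2 K).xGL r t) ((coreG2 K).xGL s u) := by
  rcases h with rfl | ⟨a, b, c, d, e⟩
  · show _ * _ = _ * _
    rw [← (coreG2 K).xGL_add, ← (coreG2 K).xGL_add, add_comm]
  · exact ((coreG2 K).xGL_commute a b c d (fun z hz => (CharP.intCast_eq_zero_iff K 3 _).2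
      (Int.dvd_of_emod_eq_zero (by exact_mod_cast e z hz))) t u).symm

omit hn [Fintype K] in
theorem top_central {z x : GL chevG2.Idx K} (hz : z ∈ (coreG2 K).Ucl topSet)
    (hx : x ∈ chevG2.posUnipotent K) : Commute x z := by
  have h1 : (coreG2 K).Ucl topSet ≤ Subgroup.centralizer (chevG2.posUnipotent K : Set _) := by
    refine (coreG2 K).Ucl_le fun s hs u => Subgroup.mem_centralizer_iff.2 fun y hy => ?_
    have : chevG2.posUnipotent K ≤ Subgroup.centralizer {(coreG2 K).xGL s u} :=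
      (coreG2 K).posUnipotent_le fun r t hr => Subgroup.mem_centralizer_singleton_iff.2
        (commute_pair K ((comm_table r (pos_roots hr)).2 s hs) t u)
    exact Subgroup.mem_centralizer_singleton_iff.1 (this hy)
  exact Subgroup.mem_centralizer_iff.1 (h1 hz) x hx

omit hn [Fintype K] in
theorem mid_le_pos : (coreG2 K).Ucl midSet ≤ chevG2.posUnipotent K := by
  refine (coreG2 K).Ucl_le fun r hr t => (coreG2 K).xGL_mem_posUnipotent ?_ t
  exact (by decide +kernel : ∀ r ∈ [g2ab, g2aab, g2aaab, g2aaabb], chevG2.IsPosRoot r) r hr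

omit hn [Fintype K] in
theorem mid_comm {a b : GL chevG2.Idx K} (ha : a ∈ (coreG2 K).Ucl midSet)
    (hb : b ∈ (coreG2 K).Ucl midSet) : Commute a b := by
  have h0 : ∀ r ∈ [g2ab, g2aab, g2aaab, g2aaabb], ∀ s ∈ [g2ab, g2aab, g2aaab, g2aaabb],
      s = r ∨ (r < chevG2.nroots ∧ s < chevG2.nroots ∧ s ≠ r ∧ s ≠ chevG2.neg r ∧
        ∀ c ∈ chevG2.commTerms r s, c.2.1 % 3 = 0) := by decide +kernel
  have h1 : (coreG2 K).Ucl midSet ≤ Subgroup.centralizer ((coreG2 K).Ucl midSet : Set _) := by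
    refine (coreG2 K).Ucl_le fun r hr t => Subgroup.mem_centralizer_iff.2 fun y hy => ?_
    have : (coreG2 K).Ucl midSet ≤ Subgroup.centralizer {(coreG2 K).xGL r t} :=
      (coreG2 K).Ucl_le fun s hs u => Subgroup.mem_centralizer_singleton_iff.2
        (commute_pair K (h0 r hr s hs) t u).symm
    exact Subgroup.mem_centralizer_singleton_iff.1 (this hy)
  exact Subgroup.mem_centralizer_iff.1 (h1 hb) a ha

omit hn [Fintype K] in
theorem mid_pow_three {a : GL chevG2.Idx K} (ha : a ∈ (coreG2 K).Ucl midSet) : a ^ 3 = 1 := by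
  have h : ∀ g ∈ (coreG2 K).Ucl midSet, g ∈ (coreG2 K).Ucl midSet ∧ g ^ 3 = 1 := by
    intro g hg
    refine Subgroup.closure_induction (p := fun g _ => g ∈ (coreG2 K).Ucl midSet ∧ g ^ 3 = 1) ?_
      ⟨one_mem _, one_pow 3⟩ ?_ ?_ hg
    · rintro _ ⟨r, hr, t, rfl⟩
      refine ⟨(coreG2 K).xGL_mem_Ucl hr t, ?_⟩
      rw [pow_succ, pow_two, ← (coreG2 K).xGL_add, ← (coreG2 K).xGL_add,
        show t + t + t = 0 by linear_combination t * (CharP.cast_eq_zero K 3), (coreG2 K).xGL_zero]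
    · rintro x y - - ⟨hx, hx3⟩ ⟨hy, hy3⟩
      exact ⟨mul_mem hx hy, by rw [(mid_comm K hx hy).mul_pow, hx3, hy3, one_mul]⟩
    · rintro x - ⟨hx, hx3⟩
      exact ⟨inv_mem hx, by rw [inv_pow, hx3, inv_one]⟩
  exact (h a ha).2

omit hn [Fintype K] in
theorem mid_commutator {x a : GL chevG2.Idx K} (hx : x ∈ chevG2.posUnipotent K)
    (ha : a ∈ (coreG2 K).Ucl midSet) : x * a * x⁻¹ * a⁻¹ ∈ (coreG2 K).Ucl topSet := by
  have hA := mid_le_pos K
  have hgen : ∀ r, chevG2.IsPosRoot r → ∀ t, ∀ a ∈ (coreG2 K).Ucl midSet,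
      (coreG2 K).xGL r t * a * ((coreG2 K).xGL r t)⁻¹ * a⁻¹ ∈ (coreG2 K).Ucl topSet := by
    intro r hr t a ha
    refine Subgroup.closure_induction (p := fun a _ =>
      (coreG2 K).xGL r t * a * ((coreG2 K).xGL r t)⁻¹ * a⁻¹ ∈ (coreG2 K).Ucl topSet ∧
        a ∈ (coreG2 K).Ucl midSet) ?_ ⟨by simp, one_mem _⟩ ?_ ?_ ha |>.1
    · rintro _ ⟨s, hs, u, rfl⟩
      refine ⟨?_, (coreG2 K).xGL_mem_Ucl hs u⟩
      rcases (comm_table r (pos_roots hr)).1 s hs with rfl | ⟨a, b, c, d, e⟩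
      · rw [(commute_pair K (Or.inl rfl) t u).eq, mul_inv_cancel_right, mul_inv_cancel]
        exact one_mem _
      · set W := (coreG2 K).wordGL (chevG2.commWord K r s t u) with hW
        have hWm : W ∈ (coreG2 K).Ucl topSet := by
          refine Subgroup.list_prod_mem _ fun y hy => ?_
          simp only [ChevalleyDatum.commWord, List.map_map, List.mem_map, Function.comp] at hy
          obtain ⟨z, hz, rfl⟩ := hy
          rcases e z hz with h0 | h0
          · rw [(CharP.intCast_eq_zero_iff K 3 _).2 (Int.dvd_of_emod_eq_zero (by exact_mod_cast h0)),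
              zero_mul, zero_mul, (coreG2 K).xGL_zero]
            exact one_mem _
          · exact (coreG2 K).xGL_mem_Ucl (by rcases h0 with h | h <;> simp [h, topSet, listSet]) _
        have h1 := (coreG2 K).xGL_comm a b c d t u
        set x := (coreG2 K).xGL r t
        set y := (coreG2 K).xGL s u
        have hxy : x * y ∈ chevG2.posUnipotent K :=
          mul_mem ((coreG2 K).xGL_mem_posUnipotent hr t) (hA ((coreG2 K).xGL_mem_Ucl hs u))
        have h3 : x * y * x⁻¹ * y⁻¹ = x * y * W⁻¹ * (x * y)⁻¹ := by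
          rw [show x * y * x⁻¹ * y⁻¹ = x * y * (y * x)⁻¹ by group, h1, ← hW]
          group
        rw [h3, (top_central K (inv_mem hWm) hxy).eq, mul_inv_cancel_right]
        exact inv_mem hWm
    · rintro a b - - ⟨ha1, ha⟩ ⟨hb1, hb⟩
      refine ⟨?_, mul_mem ha hb⟩
      set x := (coreG2 K).xGL r t
      rw [show x * (a * b) * x⁻¹ * (a * b)⁻¹ = x * a * x⁻¹ * a⁻¹ * (a * (x * b * x⁻¹ * b⁻¹) * a⁻¹) by
        group, (top_central K hb1 (hA ha)).eq, mul_inv_cancel_right]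
      exact mul_mem ha1 hb1
    · rintro a - ⟨ha1, ha⟩
      refine ⟨?_, inv_mem ha⟩
      set x := (coreG2 K).xGL r t
      rw [show x * a⁻¹ * x⁻¹ * a⁻¹⁻¹ = a⁻¹ * (x * a * x⁻¹ * a⁻¹)⁻¹ * a by group,
        (top_central K (inv_mem ha1) (hA (inv_mem ha))).eq, inv_mul_cancel_right]
      exact inv_mem ha1
  rw [(coreG2 K).posUnipotent_eq] at hx
  refine (Subgroup.closure_induction (p := fun x _ => x ∈ chevG2.posUnipotent K ∧
      ∀ a ∈ (coreG2 K).Ucl midSet, x * a * x⁻¹ * a⁻¹ ∈ (coreG2 K).Ucl topSet) ?_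
    ⟨one_mem _, fun a _ => by simp⟩ ?_ ?_ hx).2 a ha
  · rintro _ ⟨r, hr, t, rfl⟩
    exact ⟨(coreG2 K).xGL_mem_posUnipotent hr t, hgen r hr t⟩
  · rintro x y - - ⟨hx, hx1⟩ ⟨hy, hy1⟩
    refine ⟨mul_mem hx hy, fun a ha => ?_⟩
    rw [show x * y * a * (x * y)⁻¹ * a⁻¹ = x * (y * a * y⁻¹ * a⁻¹) * x⁻¹ * (x * a * x⁻¹ * a⁻¹) by group,
      (top_central K (hy1 a ha) hx).eq, mul_inv_cancel_right]
    exact mul_mem (hy1 a ha) (hx1 a ha)
  · rintro x - ⟨hx, hx1⟩
    refine ⟨inv_mem hx, fun a ha => ?_⟩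
    rw [show x⁻¹ * a * x⁻¹⁻¹ * a⁻¹ = x⁻¹ * (x * a * x⁻¹ * a⁻¹)⁻¹ * x by group,
      (top_central K (inv_mem (hx1 a ha)) (inv_mem hx)).eq, inv_mul_cancel_right]
    exact inv_mem (hx1 a ha)

omit hn [Fintype K] [CharP K 3] in
theorem uni_eq_top_mul (t u v : K) : uni K m t u v =
    (coreG2 K).wordGL [(g2a, t ^ 3 ^ m), (g2b, t)] * (coreG2 K).wordGL
      [(g2ab, t ^ (3 ^ m + 1) + u ^ 3 ^ m), (g2aab, t ^ (2 * 3 ^ m + 1) + v ^ 3 ^ m), (g2aaab, u), (g2aaabb, v)] := by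
  rw [← ChevCore.wordGL_append]; rfl

omit hn [Fintype K] [CharP K 3] in
theorem uni_zero_mem_mid (u v : K) : uni K m 0 u v ∈ (coreG2 K).Ucl midSet := by
  have hpos : 0 < 3 ^ m := Nat.pow_pos (by norm_num)
  rw [uni_eq_top_mul]
  refine mul_mem ?_ ((coreG2 K).wordGL_mem_Ucl (by simp [midSet, listSet]))
  simp [ChevCore.wordGL_cons, ChevCore.wordGL_nil, (coreG2 K).xGL_zero, zero_pow hpos.ne']

/-- `U(1,0,0)³ = U(0,0,-1)` as words. -/
def cubeWord : List CfsgLib.Chev.Letter × List CfsgLib.Chev.Letter :=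
  (([(7, 1), (6, 1), (8, 1), (9, 1), (7, 1), (6, 1), (8, 1), (9, 1), (7, 1), (6, 1), (8, 1), (9, 1)] :
      List (ℕ × ℤ)).map fun p => ⟨p.1, p.2, 0, 0⟩,
    ([(9, -1), (11, -1)] : List (ℕ × ℤ)).map fun p => ⟨p.1, p.2, 0, 0⟩)

omit hn in
theorem cube_check : checkMod CfsgLib.Chev.G2.cert.T 3 cubeWord.1 cubeWord.2 = true := by decide +kernel

omit hn [Fintype K] in
theorem uni_one_cube : uni K m 1 0 0 ^ 3 = uni K m 0 0 (-1) := by
  have h := wordMat_eq_of_checkMod (D := chevG2) (F := K) (p := 3) CfsgLib.Chev.G2.cert.hv cube_check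
  have e : (coreG2 K).wordGL (cubeWord.1.map fun L => (L.r, (L.c : K))) =
      (coreG2 K).wordGL (cubeWord.2.map fun L => (L.r, (L.c : K))) :=
    Units.ext (by rw [ChevCore.coe_wordGL, ChevCore.coe_wordGL]; exact h)
  have hpos : 0 < 3 ^ m := Nat.pow_pos (by norm_num)
  have z : ∀ e : ℕ, (0 : K) ^ (e + 1) = 0 := fun e => zero_pow e.succ_ne_zero
  simp only [cubeWord, List.map_cons, List.map_nil, ChevCore.wordGL_cons, ChevCore.wordGL_nil] at e
  simp only [Int.cast_one, Int.cast_neg] at e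
  rw [pow_succ, pow_two]
  simpa [uni, reeWordU, ChevCore.wordGL_cons, ChevCore.wordGL_nil, (coreG2 K).xGL_zero,
    zero_pow hpos.ne', z, three_pow_odd, g2a, g2b, g2ab, g2aab, g2aaab, g2aaabb, mul_assoc] using e

/-- `U(t,u,v)³ = U(0,0,-t^(3θ+2))`. -/
theorem uni_cube (t u v : K) : uni K m t u v ^ 3 = uni K m 0 0 (-t ^ (3 * 3 ^ m + 2)) := by
  rcases eq_or_ne t 0 with rfl | ht
  · rw [mid_pow_three K (uni_zero_mem_mid K u v), zero_pow (by omega), neg_zero, uni_zero]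
  set x := uni K m t 0 0 with hx
  set y := x⁻¹ * uni K m t u v with hy
  have hxU : x ∈ chevG2.posUnipotent K := (Subgroup.mem_inf.1 (uni_mem_U1 K m t 0 0)).1
  have hyA : y ∈ (coreG2 K).Ucl midSet := by
    rw [hy, hx, uni_eq_top_mul, uni_eq_top_mul, _root_.mul_inv_rev, mul_assoc, inv_mul_cancel_left]
    exact mul_mem (inv_mem ((coreG2 K).wordGL_mem_Ucl (by simp [midSet, listSet])))
      ((coreG2 K).wordGL_mem_Ucl (by simp [midSet, listSet]))
  have hxy : uni K m t u v = x * y := by rw [hy, mul_inv_cancel_left]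
  set z := y * x * y⁻¹ * x⁻¹ with hz
  have hzT : z ∈ (coreG2 K).Ucl topSet := by
    have := inv_mem (mid_commutator K hxU hyA)
    rwa [show (x * y * x⁻¹ * y⁻¹)⁻¹ = z by rw [hz]; group] at this
  have hzx : Commute x z := top_central K hzT hxU
  have hzy : Commute y z := top_central K hzT (mid_le_pos K hyA)
  have hy3 : y ^ 3 = 1 := mid_pow_three K hyA
  have hz3 : z ^ 3 = 1 := mid_pow_three K ((coreG2 K).Ucl_mono (by
    intro r hr; simp only [topSet, midSet, listSet, List.mem_cons, List.not_mem_nil, or_false,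
      Set.mem_ofPred_eq] at hr ⊢
    tauto) hzT)
  have h1 : y * x = z * (x * y) := by rw [hz]; group
  have h2 : (x * y) ^ 3 = x ^ 3 * y ^ 3 * z ^ 3 := by
    calc (x * y) ^ 3 = x * (y * x) * y * (x * y) := by simp only [pow_succ, pow_zero, one_mul, mul_assoc]
      _ = z * (x * x * (y * y)) * (x * y) := by
          rw [h1, ← mul_assoc x z, hzx.eq]; simp only [mul_assoc]
      _ = z * (x * x * y) * (y * x) * y := by simp only [mul_assoc]
      _ = z * (x * x * y) * z * (x * y * y) := by rw [h1]; simp only [mul_assoc]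
      _ = z * z * (x * x * (y * x) * y * y) := by
          rw [mul_assoc z (x * x * y) z,
            ((hzx.mul_left hzx).mul_left hzy).eq]; simp only [mul_assoc]
      _ = z * z * z * (x * x * x * (y * y * y)) := by
          rw [h1, ← mul_assoc (x * x) z, (hzx.mul_left hzx).eq]; simp only [mul_assoc]
      _ = _ := by rw [← pow_three' x, ← pow_three' y, ← pow_three' z, hy3, hz3]; simp
  rw [hxy, h2, hy3, hz3, mul_one, mul_one]
  have e1 := tau_conj_uni K hn (Units.mk0 t ht) 1 0 0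
  rw [Units.val_mk0, mul_one, mul_zero, mul_zero] at e1
  rw [hx, ← e1, conj_pow, uni_one_cube K, tau_conj_uni K hn, Units.val_mk0, mul_zero, mul_zero,
    mul_neg_one]

theorem orderOf_uni_eq_three {t u v : K} :
    orderOf (uni K m t u v) = 3 ↔ t = 0 ∧ ¬(u = 0 ∧ v = 0) := by
  have : Fact (Nat.Prime 3) := ⟨Nat.prime_three⟩
  rw [orderOf_eq_prime_iff, uni_cube K hn, uni_eq_one_iff, Ne, uni_eq_one_iff]
  constructor
  · rintro ⟨⟨-, -, h⟩, h'⟩
    have ht : t = 0 := (pow_eq_zero_iff (by omega)).1 (neg_eq_zero.1 h)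
    exact ⟨ht, fun h2 => h' ⟨ht, h2⟩⟩
  · rintro ⟨rfl, h⟩
    exact ⟨⟨rfl, rfl, by simp⟩, fun h2 => h h2.2⟩

end CfsgLib.SmallRee
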