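import Cfsg.Agent.Lib.SmallRee.ToriData
import Cfsg.Agent.Lib.SmallRee.ToriLinear
import Cfsg.Agent.Lib.SmallRee.ToriInvol
import Cfsg.Agent.Lib.SmallRee.Involution
import Cfsg.Agent.Lib.Twisted.SpanTables
import Cfsg.Agent.S1116
import Cfsg.Agent.S1151
import Cfsg.Agent.S1152
import Cfsg.Agent.S1154
import Cfsg.Agent.S1156

/-!
The small Ree groups satisfy the abstract data used for their tori.
-/

set_option autoImplicit false

namespace CfsgLib.SmallRee

open Cfsg.Lie CfsgLib.ChevStr CfsgLib.Twisted Matrix Subgroup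

variable {K : Type*} [Field K] [Fintype K] {m : ℕ}

/-- The `p`-adic conditions on a prime dividing `q² - q + 1`. -/
theorem order_six {q l : ℕ} (hl : l.Prime) (hl3 : l ≠ 3) (hq : 1 ≤ q) (h : l ∣ q ^ 2 - q + 1) :
    ¬ l ∣ q ∧ (∀ i, 0 < i → i < 6 → ¬ l ∣ q ^ i - 1) ∧ l ∣ q ^ 6 - 1 := by
  haveI := Fact.mk hl
  have hz : ∀ k, l ∣ q ^ k - 1 ↔ (q : ZMod l) ^ k = 1 := fun k => by
    rw [← ZMod.natCast_eq_zero_iff, Nat.cast_sub (Nat.one_le_pow _ _ (by omega)), Nat.cast_pow,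
      Nat.cast_one, sub_eq_zero]
  have hc : (q : ZMod l) ^ 2 - q + 1 = 0 := by
    have := (ZMod.natCast_eq_zero_iff _ l).2 h
    rwa [Nat.cast_add, Nat.cast_sub (Nat.le_self_pow (by norm_num) q), Nat.cast_pow, Nat.cast_one] at this
  generalize hx : (q : ZMod l) = x at hc hz
  have h3 : (3 : ZMod l) ≠ 0 := fun e => hl3 ((Nat.prime_dvd_prime_iff_eq hl Nat.prime_three).1
    ((ZMod.natCast_eq_zero_iff 3 l).1 (by exact_mod_cast e)))
  have e3 : x ^ 3 = -1 := by linear_combination (x + 1) * hc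
  refine ⟨fun hd => ?_, fun i hi hi6 hd => ?_, ?_⟩
  · have : x = 0 := by rw [← hx]; exact (ZMod.natCast_eq_zero_iff q l).2 hd
    subst this
    exact one_ne_zero (show (1 : ZMod l) = 0 by linear_combination hc)
  · rw [hz] at hd
    have h2 : x ^ 2 ≠ 1 := fun e => h3 (by linear_combination (x + 2) * hc + (-1 - x) * e)
    interval_cases i
    · exact h2 (by rw [pow_one] at hd; rw [hd, one_pow])
    · exact h2 hd
    · refine h2 ?_
      -- `x ^ 3 = 1 = -1`
      exact absurd h fun h' => by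
        have h2' : l = 2 := (Nat.prime_dvd_prime_iff_eq hl Nat.prime_two).1
          ((ZMod.natCast_eq_zero_iff 2 l).1 (by push_cast; linear_combination e3 - hd))
        subst h2'
        have hq2 : q ≤ q ^ 2 := Nat.le_self_pow (by norm_num) q
        have hpar : q % 2 = q ^ 2 % 2 := by rw [Nat.pow_mod]; rcases Nat.mod_two_eq_zero_or_one q with e | e <;> simp [e]
        omega
    · refine h2 ?_
      have hx1 : x = -1 := by linear_combination x * e3 - hd
      rw [hx1]; ring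
    · have h5 : x ^ 2 = -1 := by linear_combination (x ^ 2) * e3 - hd
      refine h3 ?_
      have : x = 0 := by linear_combination h5 - hc
      subst this
      exact absurd (show (1 : ZMod l) = 0 by linear_combination hc) one_ne_zero
  · rw [hz, show x ^ 6 = (x ^ 3) ^ 2 by ring, e3]; ring

theorem exists_toriData (hm : 1 ≤ m) (hK : Fintype.card K = 3 ^ (2 * m + 1)) :
    Nonempty (ToriData ↥(twistedG2 K (3 ^ m)) (3 ^ (2 * m + 1)) ((3 ^ (2 * m + 1) + 1) / 4) (3 ^ (m + 1))) := by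
  classical
  obtain ⟨_, hn⟩ := CfsgLib.Twisted.setupG2 K hK
  haveI : Fact (Nat.Prime 3) := ⟨Nat.prime_three⟩
  haveI : Fact (Nat.Prime 2) := ⟨Nat.prime_two⟩
  have h4 := card_odd K hn
  have h27 : 27 ≤ Fintype.card K := by
    rw [hK]
    calc 27 = 3 ^ 3 := rfl
      _ ≤ _ := Nat.pow_le_pow_right (by norm_num) (by omega)
  have h8 : Fintype.card K % 8 = 3 := by
    rw [hK, pow_succ, pow_mul, Nat.mul_mod, Nat.pow_mod]; norm_num
  rw [← hK]
  set q := Fintype.card K with hq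
  have ha4 : q + 1 = 4 * ((q + 1) / 4) := by omega
  have haodd : Odd ((q + 1) / 4) := Nat.odd_iff.2 (by omega)
  -- elements
  set t : ↥(twistedG2 K (3 ^ m)) := ⟨invol K m, (Subgroup.mem_inf.1 (invol_mem_H1 hn)).2⟩
  have ht : t * t = 1 := Subtype.ext invol_mul_self
  have ht1 : t ≠ 1 := fun e => invol_ne_one (congrArg Subtype.val e)
  obtain ⟨⟨e⟩, hcardC⟩ := exists_centralizer_equiv hn t rfl
  obtain ⟨hconj, hswap, hpair⟩ := centralizer_facts h4 (by omega) ha4 haodd ht ht1 e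
  set H : Subgroup ↥(twistedG2 K (3 ^ m)) := (H1 K m).subgroupOf (twistedG2 K (3 ^ m))
  set B : Subgroup ↥(twistedG2 K (3 ^ m)) := (B1 K m).subgroupOf (twistedG2 K (3 ^ m))
  have hHle : H1 K m ≤ twistedG2 K (3 ^ m) := inf_le_right
  have hcardH : Nat.card H = q - 1 := by rw [Nat.card_congr (subgroupOfEquivOfLe hHle).toEquiv, card_H1 K hn]
  have hcycH : IsCyclic H := by
    haveI : IsCyclic ↥(H1 K m) := by
      rw [H1_eq K hn]; exact isCyclic_of_surjective _ (tau K m).rangeRestrict_surjective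
    exact isCyclic_of_surjective _ (subgroupOfEquivOfLe hHle).symm.surjective
  have hcentH : ∀ h ∈ H, h * h ≠ 1 → ∀ u : GL chevG2.Idx K, u ∈ U1 K m →
      Commute (h : GL chevG2.Idx K) u → u = 1 := by
    intro h hh h2 u hu hc
    have hmem : (h : GL chevG2.Idx K) * h ∈ H1 K m := mul_mem hh hh
    have hodd : Odd (orderOf ((h : GL chevG2.Idx K) * h)) := by
      refine Odd.of_dvd_nat (n := (q - 1) / 2) (Nat.odd_iff.2 (by omega)) (orderOf_dvd_of_pow_eq_one ?_)
      rw [← pow_two, ← pow_mul, show 2 * ((q - 1) / 2) = q - 1 by omega, hq, ← card_H1 K hn]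
      exact congrArg Subtype.val (pow_card_eq_one' (x := (⟨(h : GL chevG2.Idx K), hh⟩ : ↥(H1 K m))))
    have hne : (h : GL chevG2.Idx K) * h ≠ 1 := fun e => h2 (Subtype.ext e)
    exact (Subgroup.eq_bot_iff_forall _).1 ((Cfsg.Agent.S1151.result hK).2 _ hmem hne hodd) u
      (Subgroup.mem_inf.2 ⟨hu, mem_centralizer_singleton_iff.2 (hc.mul_left hc).symm.eq⟩)
  have hHcomm : ∀ {x y : GL chevG2.Idx K}, x ∈ H1 K m → y ∈ H1 K m → Commute x y := by
    intro x y hx hy
    obtain ⟨l, rfl⟩ := H1_le K hn hx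
    obtain ⟨l', rfl⟩ := H1_le K hn hy
    exact (Commute.all l l').map (tau K m)
  have hti : ∀ h ∈ H, h * h ≠ 1 → ∀ g : ↥(twistedG2 K (3 ^ m)), g * h * g⁻¹ ∈ H →
      (g : GL chevG2.Idx K) ∈ H1 K m ∨ ∃ k ∈ H1 K m, (g : GL chevG2.Idx K) = k * sRee hn := by
    intro h hh h2 g hg
    set h' := g * h * g⁻¹ with hh'
    have h2' : h' * h' ≠ 1 := by
      rw [hh', show g * h * g⁻¹ * (g * h * g⁻¹) = g * (h * h) * g⁻¹ by group]
      exact fun e => h2 (conj_eq_one_iff.1 e)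
    have he : (g : GL chevG2.Idx K) * h = (h' : GL chevG2.Idx K) * g := by
      show ((g * h : ↥(twistedG2 K (3 ^ m))) : GL chevG2.Idx K) = ((h' * g : ↥(twistedG2 K (3 ^ m))) : GL chevG2.Idx K)
      rw [hh', inv_mul_cancel_right]
    rcases bruhat hn g.2 with hB | ⟨u, hu, k, hk, v, hv, eg⟩
    · obtain ⟨u, hu, k, hk, eg⟩ := (mem_B1 hn).1 hB
      have hcong : u * (k * h) = (h' : GL chevG2.Idx K) * u * (h' : GL chevG2.Idx K)⁻¹ * (h' * k) := by
        rw [show u * (k * (h : GL chevG2.Idx K)) = (u * k) * h by group, eg, he, ← eg]; group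
      obtain ⟨e1, -⟩ := B1_unique hn hu (H1_conj_U1' hg hu) (mul_mem hk hh) (mul_mem hg hk) hcong
      rw [eq_mul_inv_iff_mul_eq] at e1
      have hu1 := hcentH h' hg h2' u hu e1.symm
      rw [hu1, one_mul] at eg
      exact Or.inl (eg ▸ hk)
    · have hs : sRee hn * h * (sRee hn)⁻¹ ∈ H1 K m := (sRee_conj_H1 hn hh).1
      have hcong : u * (k * (sRee hn * h * (sRee hn)⁻¹)) * sRee hn * ((h : GL chevG2.Idx K)⁻¹ * v * h) =
          ((h' : GL chevG2.Idx K) * u * (h' : GL chevG2.Idx K)⁻¹) * (h' * k) * sRee hn * v := by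
        calc _ = (u * k * sRee hn * v) * h := by group
          _ = h' * (u * k * sRee hn * v) := by rw [← eg, he]
          _ = _ := by group
      have hv' : (h : GL chevG2.Idx K)⁻¹ * v * h ∈ U1 K m := by
        have := H1_conj_U1' (inv_mem hh) hv
        rwa [inv_inv] at this
      obtain ⟨e1, -, e3⟩ := bruhat_unique hn hu (H1_conj_U1' hg hu) (mul_mem hk hs) (mul_mem hg hk) hv' hv hcong
      rw [eq_mul_inv_iff_mul_eq] at e1
      have hu1 := hcentH h' hg h2' u hu e1.symm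
      have hv1 := hcentH h hh h2 v hv (by
        rw [mul_assoc, inv_mul_eq_iff_eq_mul] at e3
        exact e3.symm)
      exact Or.inr ⟨k, hk, by rw [eg, hu1, hv1, one_mul, mul_one]⟩
  set s : ↥(twistedG2 K (3 ^ m)) := ⟨sRee hn, sRee_mem hn⟩
  have hsN : s ∈ normalizer (H : Set ↥(twistedG2 K (3 ^ m))) := by
    rw [mem_normalizer_iff]
    refine fun x => ⟨fun hx => (sRee_conj_H1 hn hx).1, fun hx => ?_⟩
    have := (sRee_conj_H1 hn hx).2
    show (x : GL chevG2.Idx K) ∈ H1 K m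
    convert this using 1
    simp [s, mul_assoc]
  have hNH : ∀ g : ↥(twistedG2 K (3 ^ m)), ((g : GL chevG2.Idx K) ∈ H1 K m ∨ ∃ k ∈ H1 K m, (g : GL chevG2.Idx K) = k * sRee hn) →
      g ∈ normalizer (H : Set ↥(twistedG2 K (3 ^ m))) := by
    rintro g (h | ⟨k, hk, e⟩)
    · exact le_normalizer h
    · obtain rfl : g = (⟨k, hHle hk⟩ : ↥(twistedG2 K (3 ^ m))) * s := Subtype.ext e
      exact mul_mem (le_normalizer hk) hsN
  have hcardNH : Nat.card (normalizer (H : Set ↥(twistedG2 K (3 ^ m)))) = 2 * (q - 1) := by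
    obtain ⟨h₀, hh₀⟩ := (Subgroup.isCyclic_iff_exists_zpowers_eq_top H).1 hcycH
    have ho : orderOf h₀ = q - 1 := by rw [← Nat.card_zpowers, hh₀, hcardH]
    have h02 : h₀ * h₀ ≠ 1 := fun e => by
      have := Nat.le_of_dvd Nat.two_pos (orderOf_dvd_of_pow_eq_one ((pow_two h₀).trans e))
      omega
    have h0 : h₀ ∈ H := hh₀ ▸ mem_zpowers h₀
    have hsH : sRee hn ∉ H1 K m := fun e => sRee_not_mem_B1 hn (H1_le_B1 e)
    let f : H ⊕ H → ↥(normalizer (H : Set ↥(twistedG2 K (3 ^ m)))) := Sum.elim (fun x => ⟨x, le_normalizer x.2⟩)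
      (fun x => ⟨x * s, mul_mem (le_normalizer x.2) hsN⟩)
    have hf : Function.Bijective f := by
      refine ⟨?_, fun ⟨g, hg⟩ => ?_⟩
      · rintro (x | x) (y | y) e <;> have e' := congrArg Subtype.val e <;> simp only [f, Sum.elim_inl, Sum.elim_inr] at e'
        · rw [Subtype.ext e']
        · refine absurd ?_ hsH
          have : (s : ↥(twistedG2 K (3 ^ m))) = (y : ↥(twistedG2 K (3 ^ m)))⁻¹ * x := by rw [e', inv_mul_cancel_left]
          show (s : ↥(twistedG2 K (3 ^ m))) ∈ H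
          rw [this]; exact mul_mem (inv_mem y.2) x.2
        · refine absurd ?_ hsH
          have : (s : ↥(twistedG2 K (3 ^ m))) = (x : ↥(twistedG2 K (3 ^ m)))⁻¹ * y := by rw [← e', inv_mul_cancel_left]
          show (s : ↥(twistedG2 K (3 ^ m))) ∈ H
          rw [this]; exact mul_mem (inv_mem x.2) y.2
        · rw [Subtype.ext (mul_right_cancel e')]
      · rcases hti h₀ h0 h02 g ((mem_normalizer_iff.1 hg h₀).1 h0) with h | ⟨k, hk, e⟩
        · exact ⟨Sum.inl ⟨g, h⟩, rfl⟩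
        · exact ⟨Sum.inr ⟨⟨k, hHle hk⟩, hk⟩, Subtype.ext (Subtype.ext e.symm)⟩
    rw [← Nat.card_eq_of_bijective f hf, Nat.card_sum, hcardH]; omega
  -- the Sylow 3-subgroup
  set U : Subgroup ↥(twistedG2 K (3 ^ m)) := Uin
  have hUle : U1 K m ≤ twistedG2 K (3 ^ m) := inf_le_right
  have hBN : ∀ g : ↥(twistedG2 K (3 ^ m)), (g : GL chevG2.Idx K) ∈ B1 K m → g ∈ normalizer (U : Set ↥(twistedG2 K (3 ^ m))) := by
    intro g hg
    rw [mem_normalizer_iff]
    refine fun x => ⟨fun hx => B1_conj hn hg hx, fun hx => ?_⟩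
    have := B1_conj hn (inv_mem hg) hx
    show (x : GL chevG2.Idx K) ∈ U1 K m
    convert this using 1
    simp [mul_assoc]
  have hNB : ∀ g : ↥(twistedG2 K (3 ^ m)), g ∈ normalizer (U : Set ↥(twistedG2 K (3 ^ m))) → (g : GL chevG2.Idx K) ∈ B1 K m := by
    intro g hg
    by_contra hgB
    have hu : uni K m 0 1 0 ∈ U1 K m := uni_mem_U1 K m _ _ _
    exact one_ne_zero ((uni_eq_one_iff K m).1 (eq_one_of_conj hn g.2 hgB hu
      ((mem_normalizer_iff.1 hg (⟨_, hUle hu⟩ : ↥(twistedG2 K (3 ^ m)))).1 hu))).2.1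
  have hcardNU : Nat.card (normalizer (U : Set ↥(twistedG2 K (3 ^ m)))) = q ^ 3 * (q - 1) := by
    let f : ↥(U1 K m) × ↥(H1 K m) → ↥(normalizer (U : Set ↥(twistedG2 K (3 ^ m)))) := fun p =>
      ⟨⟨p.1 * p.2, mul_mem (hUle p.1.2) (hHle p.2.2)⟩, hBN _ (mul_mem (U1_le_B1 p.1.2) (H1_le_B1 p.2.2))⟩
    have hf : Function.Bijective f := by
      refine ⟨fun x y e => ?_, fun ⟨g, hg⟩ => ?_⟩
      · obtain ⟨a, b⟩ := B1_unique hn x.1.2 y.1.2 x.2.2 y.2.2
          (congrArg (fun z : ↥(normalizer (U : Set ↥(twistedG2 K (3 ^ m)))) => ((z : ↥(twistedG2 K (3 ^ m))) : GL chevG2.Idx K)) e)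
        exact Prod.ext (Subtype.ext a) (Subtype.ext b)
      · obtain ⟨u, hu, h, hh, e⟩ := (mem_B1 hn).1 (hNB g hg)
        exact ⟨(⟨u, hu⟩, ⟨h, hh⟩), Subtype.ext (Subtype.ext e)⟩
    rw [← Nat.card_eq_of_bijective f hf, Nat.card_prod, card_H1 K hn, card_U1G2 K hn]
  have hcardU : Nat.card U = q ^ 3 := by
    rw [Nat.card_congr (subgroupOfEquivOfLe hUle).toEquiv, card_U1G2 K hn]
  have hinvol_uni : ∀ g : ↥(twistedG2 K (3 ^ m)), g ∈ U → Commute t g → ∃ u, (g : GL chevG2.Idx K) = uni K m 0 u 0 := by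
    intro g hg hc
    obtain ⟨a, b, c, e⟩ := exists_uni K hn (show (g : GL chevG2.Idx K) ∈ U1 K m from hg)
    have hc' : Commute (invol K m) (g : GL chevG2.Idx K) := congrArg Subtype.val hc.eq
    rw [← e, commute_invol_uni_iff hn] at hc'
    exact ⟨b, by rw [← e, hc'.1, hc'.2]⟩
  have hcardUt : Nat.card ↥(U ⊓ centralizer ({t} : Set ↥(twistedG2 K (3 ^ m)))) = q := by
    let f : K → ↥(U ⊓ centralizer ({t} : Set ↥(twistedG2 K (3 ^ m)))) := fun u =>
      ⟨⟨uni K m 0 u 0, hUle (uni_mem_U1 K m _ _ _)⟩, Subgroup.mem_inf.2 ⟨uni_mem_U1 K m _ _ _,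
        mem_centralizer_singleton_iff.2 (Subtype.ext ((commute_invol_uni_iff hn).2 ⟨rfl, rfl⟩).eq.symm)⟩⟩
    have hf : Function.Bijective f := by
      refine ⟨fun x y e => ?_, fun ⟨g, hg⟩ => ?_⟩
      · exact (uni_inj K m (congrArg (fun z : ↥(U ⊓ centralizer ({t} : Set ↥(twistedG2 K (3 ^ m)))) => ((z : ↥(twistedG2 K (3 ^ m))) : GL chevG2.Idx K)) e)).2.1
      · obtain ⟨u, hu⟩ := hinvol_uni g (Subgroup.mem_inf.1 hg).1 (mem_centralizer_singleton_iff.1 (Subgroup.mem_inf.1 hg).2).symm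
        exact ⟨u, Subtype.ext (Subtype.ext hu.symm)⟩
    rw [← Nat.card_eq_of_bijective f hf, Nat.card_eq_fintype_card]
  -- the seven-dimensional representation
  have hlin : ∀ x : ↥(twistedG2 K (3 ^ m)), (orderOf x).Prime → orderOf x ∣ q ^ 2 - q + 1 →
      (∀ g h : ↥(twistedG2 K (3 ^ m)), Commute x g → Commute x h → Commute g h) ∧
        Nat.card {y : ↥(twistedG2 K (3 ^ m)) // Commute x y ∧ IsConj x y} ≤ 6 := by
    intro x hx hxc
    haveI : CharP K CfsgLib.Twisted.subG2.p := (inferInstance : CharP K 3)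
    let C := CfsgLib.ChevStr.coreG2 K
    have hgrp : ∀ g : ↥(twistedG2 K (3 ^ m)), (g : GL Cfsg.Lie.chevG2.Idx K) ∈ Cfsg.Lie.chevG2.group K :=
      fun g => (CfsgLib.Twisted.le_fixedG2 K hn g.2).1
    let ρ₀ : ↥(twistedG2 K (3 ^ m)) →* Matrix (CfsgLib.Twisted.SubData.IIdx CfsgLib.Twisted.subG2 Cfsg.Lie.chevG2)
        (CfsgLib.Twisted.SubData.IIdx CfsgLib.Twisted.subG2 Cfsg.Lie.chevG2) K :=
      { toFun := fun g => CfsgLib.Twisted.SubData.resI K ((g : GL Cfsg.Lie.chevG2.Idx K) : Matrix _ _ K)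
        map_one' := CfsgLib.Twisted.SubData.resI_one K
        map_mul' := fun g g' => CfsgLib.Twisted.SubData.resI_mul K
          (CfsgLib.Twisted.SubData.mem_group_triangular CfsgLib.Twisted.subG2_check K (hgrp g')) }
    have hρ : Function.Injective ρ₀.toHomUnits := by
      refine (injective_iff_map_eq_one ρ₀.toHomUnits).2 fun g hg => Subtype.ext ?_
      exact CfsgLib.Twisted.SubData.faithI C CfsgLib.Twisted.subG2_check CfsgLib.Twisted.spanI_G2 _ (hgrp g)
        (congrArg Units.val hg)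
    have hl3 : orderOf x ≠ 3 := fun e => by
      rw [e] at hxc
      have h3 : 3 ∣ q := by rw [hK]; exact dvd_pow_self 3 (by omega)
      have : q ≤ q ^ 2 := Nat.le_self_pow (by norm_num) q
      have : 3 ∣ q ^ 2 := dvd_pow h3 (by norm_num)
      omega
    obtain ⟨h1, h2, h3⟩ := order_six hx hl3 (by omega) hxc
    exact linear_torus (by decide) ρ₀.toHomUnits hρ hx rfl h1 h2 h3
  refine ⟨{
    hq := h27
    h4a := ha4
    ha := haodd
    hr := by rw [hK, ← pow_add, ← pow_succ']; congr 1; omega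
    h3 := ⟨2 * m + 1, hK⟩
    card_eq := card_G1 hn
    perfect := Cfsg.Agent.S1116.result hK hm
    sylow_two := fun S => (Cfsg.Agent.S1152.result hK t (Subgroup.mem_inf.1 (invol_mem_H1 hn)).1 ht1 ht).2 S
    t := t
    t_sq := ht
    t_ne := ht1
    card_cent := by
      rw [hcardC]
      obtain ⟨j, hj⟩ : 2 ∣ q ^ 2 - 1 := by
        have h9 : q ^ 2 % 2 = 1 := by rw [Nat.pow_mod, show q % 2 = 1 by omega]
        omega
      rw [← hq, hj, Nat.mul_div_cancel_left j Nat.two_pos]; ring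
    conj_or := hconj
    no_swap := hswap
    cent_pair := hpair
    H := H
    H_cyclic := hcycH
    card_H := hcardH
    t_mem_H := invol_mem_H1 hn
    H_ti := fun h hh h2 g hg => hNH g (hti h hh h2 g hg)
    card_NH := hcardNH
    U := U
    U_sylow := exists_sylow_eq hn
    card_U := hcardU
    U_pow := fun x hx => by
      obtain ⟨a, b, c, e⟩ := exists_uni K hn (show (x : GL chevG2.Idx K) ∈ U1 K m from hx)
      apply Subtype.ext
      show (x : GL chevG2.Idx K) ^ 9 = 1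
      rw [← e, show 9 = 3 * 3 from rfl, pow_mul, uni_cube K hn, uni_cube K hn, zero_pow (by omega), neg_zero, uni_zero]
    U_ti := fun x hx hx1 g hg => hBN g (by
      by_contra hgB
      exact hx1 (Subtype.ext (eq_one_of_conj hn g.2 hgB hx hg)))
    H_le_NU := fun g hg => hBN g (H1_le_B1 hg)
    NU_dec := fun g hg => by
      obtain ⟨u, hu, h, hh, e⟩ := (mem_B1 hn).1 (hNB g hg)
      exact ⟨⟨u, hUle hu⟩, hu, ⟨h, hHle hh⟩, hh, Subtype.ext e⟩
    card_NU := hcardNU
    U_cent_H := fun h hh h2 u hu hc => Subtype.ext (hcentH h hh h2 u hu (congrArg Subtype.val hc.eq))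
    card_U_cent := hcardUt
    U_cent_cube := fun g hg hc => by
      obtain ⟨u, hu⟩ := hinvol_uni g hg hc
      apply Subtype.ext
      show (g : GL chevG2.Idx K) ^ 3 = 1
      rw [hu, uni_cube K hn, zero_pow (by omega), neg_zero, uni_zero]
    card_U_three := by
      rw [hK, ← Cfsg.Agent.S1154.result hm hK]
      refine Nat.card_congr ⟨fun x => ⟨⟨(x.1 : GL chevG2.Idx K), x.2.1⟩, ?_⟩,
        fun x => ⟨⟨(x.1 : GL chevG2.Idx K), (Subgroup.mem_inf.1 x.1.2).2⟩, x.1.2, ?_⟩, fun _ => rfl, fun _ => rfl⟩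
      · rw [← Subgroup.orderOf_coe]; exact (Subgroup.orderOf_coe x.1).trans x.2.2
      · rw [← Subgroup.orderOf_coe]; exact (Subgroup.orderOf_coe x.1).trans x.2
    cyclic_sylow := fun p hp h3 P => haveI := Fact.mk hp; Cfsg.Agent.S1156.result hm hK h3 P
    lin := hlin }⟩

end CfsgLib.SmallRee
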