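import Cfsg.Agent.Lib.PSL2.Involution

/-!
Centralisers of involutions and of elements of the non-split torus in `PSL₂(q)`, `q % 4 = 3`.
-/

set_option autoImplicit false

namespace CfsgLib.SmallRee

open Subgroup CfsgLib.PSL2 CfsgLib.PermSmall.Moebius Matrix

theorem psl_invol_structure {F : Type*} [Field F] [Fintype F] (hq4 : Fintype.card F % 4 = 3)
    (hq : 5 ≤ Fintype.card F) {i : ProjectiveSpecialLinearGroup (Fin 2) F} (hi : orderOf i = 2) :
    ∃ f : ProjectiveSpecialLinearGroup (Fin 2) F, orderOf f = (Fintype.card F + 1) / 2 ∧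
      i ∈ zpowers f ∧ zpowers f ≤ centralizer {i} ∧
      Nat.card ↥(centralizer ({i} : Set (ProjectiveSpecialLinearGroup (Fin 2) F))) = Fintype.card F + 1 ∧
      (∀ x, Commute i x → x ∉ zpowers f → x * x = 1) ∧
      (∀ z ∈ zpowers f, z ≠ 1 → ∀ g, Commute z g → Commute i g) := by
  classical
  obtain ⟨p, hp⟩ := CharP.exists F
  have : Fact p.Prime := ⟨CharP.char_is_prime F p⟩
  let ι : F →+* AlgebraicClosure F := algebraMap F _
  have : CharP (AlgebraicClosure F) p := charP_of_injective_ringHom ι.injective p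
  obtain ⟨Φ, hΦ⟩ := exists_frob (F := F) (L := AlgebraicClosure F) p
  have hodd : Odd (Fintype.card F) := Nat.odd_iff.2 (by omega)
  have h2 := two_ne_zero_of_odd hodd
  -- the structure for one involution
  suffices h : ∃ j : ProjectiveSpecialLinearGroup (Fin 2) F, orderOf j = 2 ∧ ∃ f, orderOf f = (Fintype.card F + 1) / 2 ∧
      j ∈ zpowers f ∧ zpowers f ≤ centralizer {j} ∧
      Nat.card ↥(centralizer ({j} : Set (ProjectiveSpecialLinearGroup (Fin 2) F))) = Fintype.card F + 1 ∧
      (∀ x, Commute j x → x ∉ zpowers f → x * x = 1) ∧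
      (∀ z ∈ zpowers f, z ≠ 1 → ∀ g, Commute z g → Commute j g) by
    obtain ⟨j, hj, f, h1, h2', h3, h4, h5, h6⟩ := h
    obtain ⟨k, hk⟩ := isConj_iff.1 (isConj_of_orderOf_two h2 hj hi)
    have hmem : ∀ x, x ∈ zpowers (k * f * k⁻¹) ↔ k⁻¹ * x * k ∈ zpowers f := by
      intro x
      simp only [mem_zpowers_iff, conj_zpow]
      exact ⟨fun ⟨n, hn⟩ => ⟨n, by rw [← hn]; group⟩, fun ⟨n, hn⟩ => ⟨n, by rw [hn]; group⟩⟩
    have hback : ∀ x, Commute i x ↔ Commute j (k⁻¹ * x * k) := by
      intro x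
      rw [← hk]
      constructor <;> intro h
      · show j * (k⁻¹ * x * k) = k⁻¹ * x * k * j
        calc _ = k⁻¹ * (k * j * k⁻¹ * x) * k := by group
          _ = k⁻¹ * (x * (k * j * k⁻¹)) * k := by rw [h.eq]
          _ = _ := by group
      · show k * j * k⁻¹ * x = x * (k * j * k⁻¹)
        calc _ = k * (j * (k⁻¹ * x * k)) * k⁻¹ := by group
          _ = k * (k⁻¹ * x * k * j) * k⁻¹ := by rw [h.eq]
          _ = _ := by group
    refine ⟨k * f * k⁻¹, ?_, ?_, ?_, ?_, ?_, ?_⟩
    · exact (orderOf_injective (MulAut.conj k).toMonoidHom (MulAut.conj k).injective f).trans h1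
    · rw [hmem, ← hk, show k⁻¹ * (k * j * k⁻¹) * k = j by group]; exact h2'
    · intro x hx
      refine mem_centralizer_singleton_iff.2 ((hback x).2 ?_).eq.symm
      exact (mem_centralizer_singleton_iff.1 (h3 ((hmem x).1 hx))).symm
    · rw [card_centralizer_conj (isConj_iff.2 ⟨k, hk⟩).symm, h4]
    · intro x hx hn
      have := h5 _ ((hback x).1 hx) (fun e => hn ((hmem x).2 e))
      calc x * x = k * (k⁻¹ * x * k * (k⁻¹ * x * k)) * k⁻¹ := by group
        _ = 1 := by rw [this, mul_one, mul_inv_cancel]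
    · intro z hz hz1 g hg
      refine (hback g).2 (h6 _ ((hmem z).1 hz) ?_ _ ?_)
      · intro e
        exact hz1 (by rw [show z = k * (k⁻¹ * z * k) * k⁻¹ by group, e, mul_one, mul_inv_cancel])
      · show k⁻¹ * z * k * (k⁻¹ * g * k) = k⁻¹ * g * k * (k⁻¹ * z * k)
        calc _ = k⁻¹ * (z * g) * k := by group
          _ = k⁻¹ * (g * z) * k := by rw [hg.eq]
          _ = _ := by group
  obtain ⟨x, y, h⟩ := exists_isPair_nonsplit hΦ (ι := ι)
  obtain ⟨j, hj, hC, hc⟩ := exists_centralizer_eq hodd hΦ h (by omega)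
  have hfix : Nat.card (pslFix ι x y) = (Fintype.card F + 1) / 2 := by rw [card_pslFix hΦ h, gcd_eq_two hodd]
  obtain ⟨f, hf⟩ := (Subgroup.isCyclic_iff_exists_zpowers_eq_top _).1 (isCyclic_pslFix hΦ (ι := ι) h.1)
  have hord : orderOf f = (Fintype.card F + 1) / 2 := by rw [← Nat.card_zpowers, hf, hfix]
  have hle : zpowers f ≤ centralizer {j} := by
    rw [hC, hf]
    exact fun g hg => Or.inl hg
  have hswap : ∀ g ∈ pslPair ι x y, g ∉ pslFix ι x y → g * g = 1 := by
    intro g hg hgn
    rcases hg with hf' | ⟨h1, h2⟩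
    · exact absurd hf' hgn
    · apply ProjectiveSpecialLinearGroup.toPGL_injective
      rw [map_mul, map_one]
      exact mul_self_eq_one_of_swap h.1 h1 h2
  have hjf : j ∈ zpowers f := by
    by_contra hn
    have hjP : j ∈ pslPair ι x y := hC ▸ mem_centralizer_singleton_iff.2 rfl
    have hfP : f ∈ pslPair ι x y := hC ▸ hle (mem_zpowers f)
    have hfj : j * f = f * j := (mem_centralizer_singleton_iff.1 (hle (mem_zpowers f))).symm
    have hjj : j * j = 1 := (pow_two j).symm.trans (orderOf_dvd_iff_pow_eq_one.1 hj.dvd)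
    have hnf : j * f ∉ pslFix ι x y := fun e => hn (by
      rw [hf]
      have hfm : f ∈ pslFix ι x y := by rw [← hf]; exact mem_zpowers f
      simpa using mul_mem e (inv_mem hfm))
    have h1 := hswap _ (mul_mem hjP hfP) hnf
    rw [show j * f * (j * f) = j * j * (f * f) by
      rw [show j * f * (j * f) = j * (f * j) * f by group, ← hfj]; group, hjj, one_mul] at h1
    have := Nat.le_of_dvd Nat.two_pos (orderOf_dvd_of_pow_eq_one ((pow_two f).trans h1))
    omega
  refine ⟨j, hj, f, hord, hjf, hle, by rw [hC, hc], fun g hg hn => ?_, fun z hz hz1 g hg => ?_⟩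
  · exact hswap g (hC ▸ mem_centralizer_singleton_iff.2 hg.eq.symm) (hf ▸ hn)
  · have hz' : z ∈ pslFix ι x y := hf ▸ hz
    have hne := (map_ne_one_iff _ (pslLineHom_injective ι)).2 hz1
    have key : ∀ w, pslLineHom ι z w = w → pslLineHom ι g w = x ∨ pslLineHom ι g w = y := by
      intro w hw
      have hfx : pslLineHom ι z (pslLineHom ι g w) = pslLineHom ι g w := by
        rw [← Equiv.Perm.mul_apply, ← map_mul, hg.eq, map_mul, Equiv.Perm.mul_apply, hw]
      rcases fix_le_two_perm (pslLineHom_mem_range ι z) hne hz'.1 hz'.2 hfx with e | e | e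
      · exact absurd e h.1
      · exact Or.inl e.symm
      · exact Or.inr e.symm
    refine (mem_centralizer_singleton_iff.1 (hC.symm ▸ ?_ : g ∈ centralizer {j})).symm
    show ProjectiveSpecialLinearGroup.toPGL g ∈ pairStab ι x y
    rcases key x hz'.1 with ha | ha <;> rcases key y hz'.2 with hb | hb
    · exact absurd ((pslLineHom ι g).injective (ha.trans hb.symm)) h.1
    · exact Or.inl ⟨ha, hb⟩
    · exact Or.inr ⟨ha, hb⟩
    · exact absurd ((pslLineHom ι g).injective (ha.trans hb.symm)) h.1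

end CfsgLib.SmallRee
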