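import Cfsg.Agent.Lib.SmallRee.Unipotent
import Cfsg.Agent.Lib.Twisted.WeylQuot

/-!
The normal form of a small Ree group: `G1 = B1 ∪ U1 H1 s U1`, and the consequences that `U1` is a
trivial intersection subgroup.
-/

set_option autoImplicit false

namespace CfsgLib.SmallRee

open Cfsg.Lie CfsgLib.ChevStr CfsgLib.Twisted
open scoped MatrixGroups

variable (K : Type*) [Field K] (m : ℕ)

/-- `B1`. -/
abbrev B1 : Subgroup (GL chevG2.Idx K) := chevG2.borelSubgroup K ⊓ twistedG2 K (3 ^ m)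

variable {K m}

theorem U1_le_B1 : U1 K m ≤ B1 K m := inf_le_inf_right _ le_sup_left

theorem H1_le_B1 : H1 K m ≤ B1 K m := inf_le_inf_right _ le_sup_right

theorem H1_conj_U1' {h u : GL chevG2.Idx K} (hh : h ∈ H1 K m) (hu : u ∈ U1 K m) :
    h * u * h⁻¹ ∈ U1 K m := by
  obtain ⟨hd, hG⟩ := Subgroup.mem_inf.1 hh
  obtain ⟨huP, huG⟩ := Subgroup.mem_inf.1 hu
  exact Subgroup.mem_inf.2 ⟨(Subgroup.mem_normalizer_iff.1 ((coreG2 K).diagonal_normalizes_pos hd) u).1 huP,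
    mul_mem (mul_mem hG huG) (inv_mem hG)⟩

variable [CharP K 3] [Fintype K] (hn : Fintype.card K = 3 * (3 ^ m * 3 ^ m))

/-- The representative of the non-trivial element of the twisted Weyl group. -/
noncomputable def sRee : GL chevG2.Idx K := (gensG2 K hn).s 0

include hn

theorem sRee_mem : sRee hn ∈ twistedG2 K (3 ^ m) := (gensG2 K hn).s_mem 0

theorem sRee_mem_N : sRee hn ∈ chevG2.monomialSubgroup K := (gensG2 K hn).s_mem_N 0

theorem sRee_sq_mem : sRee hn * sRee hn ∈ H1 K m :=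
  Subgroup.mem_inf.2 ⟨(gensG2 K hn).sq_mem 0, mul_mem (sRee_mem hn) (sRee_mem hn)⟩

theorem sRee_conj_pos {x : GL chevG2.Idx K} (hx : x ∈ chevG2.posUnipotent K) :
    sRee hn * x * (sRee hn)⁻¹ ∈ chevG2.negUnipotent K := by
  set g := gensG2 K hn
  refine Ucl_negIn_le_V (conj_in (g.s_moves 0) (g.wJ_mem 0) (g.wJ_neg 0) x ?_)
  refine (coreG2 K).Ucl_mono (S := {r | chevG2.IsPosRoot r}) (fun r hr => ?_) ((coreG2 K).posUnipotent_eq ▸ hx)
  have h : ∀ r : Fin chevG2.nroots, chevG2.IsPosRoot r.val → SuppIn rootDataG2 (nodesG2 0) r.val := by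
    decide +kernel
  exact ⟨hr, h ⟨r, hr.1⟩ hr⟩

theorem sRee_inv_conj_pos {x : GL chevG2.Idx K} (hx : x ∈ chevG2.posUnipotent K) :
    (sRee hn)⁻¹ * x * sRee hn ∈ chevG2.negUnipotent K := by
  have hd := (Subgroup.mem_inf.1 (sRee_sq_mem hn)).1
  have h1 := (Subgroup.mem_normalizer_iff.1 (inv_mem ((coreG2 K).diagonal_normalizes_neg hd)) _).1
    (sRee_conj_pos hn hx)
  convert h1 using 1
  group

theorem sRee_conj_H1 {h : GL chevG2.Idx K} (hh : h ∈ H1 K m) :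
    sRee hn * h * (sRee hn)⁻¹ ∈ H1 K m ∧ (sRee hn)⁻¹ * h * sRee hn ∈ H1 K m := by
  obtain ⟨hd, hG⟩ := Subgroup.mem_inf.1 hh
  have hN := sRee_mem_N hn
  have h2 := (coreG2 K).conj_diagonal_mem (inv_mem hN) hd
  rw [inv_inv] at h2
  exact ⟨Subgroup.mem_inf.2 ⟨(coreG2 K).conj_diagonal_mem hN hd,
    mul_mem (mul_mem (sRee_mem hn) hG) (inv_mem (sRee_mem hn))⟩,
    Subgroup.mem_inf.2 ⟨h2, mul_mem (mul_mem (inv_mem (sRee_mem hn)) hG) (sRee_mem hn)⟩⟩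

omit hn in
theorem B1_inf_neg {x : GL chevG2.Idx K} (hx : x ∈ chevG2.borelSubgroup K)
    (hV : x ∈ chevG2.negUnipotent K) : x = 1 :=
  (Subgroup.eq_bot_iff_forall _).1 (coreG2 K).borel_inf_negUnipotent x (Subgroup.mem_inf.2 ⟨hx, hV⟩)

theorem mem_B1 {g : GL chevG2.Idx K} : g ∈ B1 K m ↔ ∃ u ∈ U1 K m, ∃ h ∈ H1 K m, u * h = g :=
  (gensG2 K hn).twist.mem_B_inf

theorem N1_cases {n : GL chevG2.Idx K} (hn1 : n ∈ chevG2.monomialSubgroup K ⊓ twistedG2 K (3 ^ m)) :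
    n ∈ H1 K m ∨ ∃ h ∈ H1 K m, n = h * sRee hn := by
  set s := sRee hn with hs
  let T : Subgroup (GL chevG2.Idx K) :=
    { carrier := {n | n ∈ H1 K m ∨ n * s⁻¹ ∈ H1 K m}
      one_mem' := Or.inl (one_mem _)
      mul_mem' := by
        rintro a b (ha | ha) (hb | hb)
        · exact Or.inl (mul_mem ha hb)
        · right; rw [mul_assoc]; exact mul_mem ha hb
        · right
          rw [show a * b * s⁻¹ = a * s⁻¹ * (s * b * s⁻¹) by group]
          exact mul_mem ha (sRee_conj_H1 hn hb).1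
        · left
          rw [show a * b = a * s⁻¹ * (s * (b * s⁻¹) * s⁻¹) * (s * s) by group]
          exact mul_mem (mul_mem ha (sRee_conj_H1 hn hb).1) (sRee_sq_mem hn)
      inv_mem' := by
        rintro a (ha | ha)
        · exact Or.inl (inv_mem ha)
        · right
          rw [show a⁻¹ * s⁻¹ = (s⁻¹ * (a * s⁻¹)⁻¹ * s) * (s * s)⁻¹ by group]
          exact mul_mem (sRee_conj_H1 hn (inv_mem ha)).2 (inv_mem (sRee_sq_mem hn)) }
  have hle : (gensG2 K hn).twist.N1 ≤ T := by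
    rw [← (gensG2 K hn).reflections.N1_eq]
    refine sup_le ((Subgroup.closure_le _).2 ?_) fun h hh => Or.inl hh
    rintro _ ⟨i, rfl⟩
    obtain rfl : i = 0 := Subsingleton.elim _ _
    show s ∈ H1 K m ∨ s * s⁻¹ ∈ H1 K m
    exact Or.inr (by rw [mul_inv_cancel]; exact one_mem _)
  rcases hle hn1 with h | h
  · exact Or.inl h
  · exact Or.inr ⟨_, h, (inv_mul_cancel_right _ _).symm⟩

/-- The normal form. -/
theorem bruhat {g : GL chevG2.Idx K} (hg : g ∈ twistedG2 K (3 ^ m)) :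
    g ∈ B1 K m ∨ ∃ u ∈ U1 K m, ∃ h ∈ H1 K m, ∃ v ∈ U1 K m, g = u * h * sRee hn * v := by
  obtain ⟨u, hu, n, hnn, v, hv, hV, rfl⟩ := (gensG2 K hn).twist.nf hg
  rcases N1_cases hn hnn with h | ⟨h, hh, rfl⟩
  · have h1 : n * v * n⁻¹ = 1 :=
      B1_inf_neg (Subgroup.mem_inf.1 (U1_le_B1 (H1_conj_U1' h hv))).1 hV
    rw [conj_eq_one_iff] at h1
    rw [h1, mul_one]
    exact Or.inl ((mem_B1 hn).2 ⟨u, hu, n, h, rfl⟩)
  · exact Or.inr ⟨u, hu, h, hh, v, hv, by simp only [mul_assoc]⟩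

/-- `B1 ∩ s B1 s⁻¹ = H1`. -/
theorem eq_one_of_conj_mem {u h : GL chevG2.Idx K} (hu : u ∈ U1 K m) (hh : h ∈ H1 K m)
    (hc : (sRee hn)⁻¹ * (u * h) * sRee hn ∈ B1 K m) : u = 1 := by
  have h2 := mul_mem hc (inv_mem (H1_le_B1 (sRee_conj_H1 hn hh).2))
  rw [show (sRee hn)⁻¹ * (u * h) * sRee hn * ((sRee hn)⁻¹ * h * sRee hn)⁻¹ =
    (sRee hn)⁻¹ * u * sRee hn by group] at h2
  have h3 := B1_inf_neg (Subgroup.mem_inf.1 h2).1 (sRee_inv_conj_pos hn (Subgroup.mem_inf.1 hu).1)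
  have e : u = sRee hn * ((sRee hn)⁻¹ * u * sRee hn) * (sRee hn)⁻¹ := by group
  rw [e, h3, mul_one, mul_inv_cancel]

/-- An element outside `B1` conjugates no non-trivial element of `U1` into `U1`. -/
theorem eq_one_of_conj {g x : GL chevG2.Idx K} (hg : g ∈ twistedG2 K (3 ^ m)) (hgB : g ∉ B1 K m)
    (hx : x ∈ U1 K m) (hc : g * x * g⁻¹ ∈ U1 K m) : x = 1 := by
  rcases bruhat hn hg with h | ⟨u, hu, h, hh, v, hv, rfl⟩
  · exact absurd h hgB
  set s := sRee hn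
  set y := v * x * v⁻¹ with hy
  have hyU : y ∈ U1 K m := mul_mem (mul_mem hv hx) (inv_mem hv)
  have h1 : u⁻¹ * (u * h * s * v * x * (u * h * s * v)⁻¹) * u ∈ U1 K m :=
    mul_mem (mul_mem (inv_mem hu) hc) hu
  rw [show u⁻¹ * (u * h * s * v * x * (u * h * s * v)⁻¹) * u = h * (s * y * s⁻¹) * h⁻¹ by
    rw [hy]; group] at h1
  have h2 : s * y * s⁻¹ ∈ U1 K m := by
    have := H1_conj_U1' (inv_mem hh) h1
    rwa [show h⁻¹ * (h * (s * y * s⁻¹) * h⁻¹) * h⁻¹⁻¹ = s * y * s⁻¹ by group] at this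
  have h3 := B1_inf_neg (Subgroup.mem_inf.1 (U1_le_B1 h2)).1 (sRee_conj_pos hn (Subgroup.mem_inf.1 hyU).1)
  rw [conj_eq_one_iff, hy, conj_eq_one_iff] at h3
  exact h3

omit hn [CharP K 3] [Fintype K] in
/-- `B1` normalises `U1`. -/
theorem B1_conj_U1 (hB : ∀ g ∈ B1 K m, ∃ u ∈ U1 K m, ∃ h ∈ H1 K m, u * h = g) {g x : GL chevG2.Idx K}
    (hg : g ∈ B1 K m) (hx : x ∈ U1 K m) : g * x * g⁻¹ ∈ U1 K m := by
  obtain ⟨u, hu, h, hh, rfl⟩ := hB g hg
  rw [show u * h * x * (u * h)⁻¹ = u * (h * x * h⁻¹) * u⁻¹ by group]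
  exact mul_mem (mul_mem hu (H1_conj_U1' hh hx)) (inv_mem hu)

theorem B1_conj {g x : GL chevG2.Idx K} (hg : g ∈ B1 K m) (hx : x ∈ U1 K m) :
    g * x * g⁻¹ ∈ U1 K m := B1_conj_U1 (fun _ h => (mem_B1 hn).1 h) hg hx

omit hn in
theorem three_not_dvd_card_sub_one (hn : Fintype.card K = 3 * (3 ^ m * 3 ^ m)) :
    ¬ 3 ∣ Fintype.card K - 1 := by
  have : 0 < 3 ^ m * 3 ^ m := Nat.mul_pos (Nat.pow_pos (by norm_num)) (Nat.pow_pos (by norm_num))
  omega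

/-- `U1` as a subgroup of `G1`. -/
abbrev Uin : Subgroup ↥(twistedG2 K (3 ^ m)) :=
  (U1 K m).subgroupOf (twistedG2 K (3 ^ m))

theorem Uin_isPGroup : IsPGroup 3 ↥(Uin (K := K) (m := m)) := by
  have e : Nat.card ↥(Uin (K := K) (m := m)) = 3 ^ ((2 * m + 1) * 3) := by
    rw [Nat.card_congr (Subgroup.subgroupOfEquivOfLe (inf_le_right : U1 K m ≤ _)).toEquiv,
      card_U1G2 K hn, card_eq K hn, ← pow_mul]
  exact IsPGroup.of_card e

/-- `U1` is a Sylow 3-subgroup of `G1`. -/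
theorem exists_sylow_eq : ∃ P : Sylow 3 ↥(twistedG2 K (3 ^ m)), (P : Subgroup ↥(twistedG2 K (3 ^ m))) = Uin := by
  have : Fact (Nat.Prime 3) := ⟨Nat.prime_three⟩
  obtain ⟨P, hP⟩ := (Uin_isPGroup hn).exists_le_sylow
  refine ⟨P, le_antisymm ?_ hP⟩
  by_contra hne
  have : Group.IsNilpotent ↥(P : Subgroup ↥(twistedG2 K (3 ^ m))) := P.isPGroup'.isNilpotent
  set U' := (Uin (K := K) (m := m)).subgroupOf (P : Subgroup ↥(twistedG2 K (3 ^ m))) with hU'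
  have hlt : U' < ⊤ := lt_top_iff_ne_top.2 fun e => hne (Subgroup.subgroupOf_eq_top.1 e)
  obtain ⟨x, hxN, hxU⟩ := SetLike.exists_of_lt (Group.normalizerCondition_of_isNilpotent U' hlt)
  -- a non-trivial element of `U1`
  set a : GL chevG2.Idx K := uni K m 0 1 0
  have haU : a ∈ U1 K m := uni_mem_U1 K m 0 1 0
  have hane : a ≠ 1 := fun e => one_ne_zero ((uni_eq_one_iff K m).1 e).2.1
  set a' : ↥(twistedG2 K (3 ^ m)) := ⟨a, (Subgroup.mem_inf.1 haU).2⟩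
  have ha' : a' ∈ Uin (K := K) (m := m) := haU
  have hc := (Subgroup.mem_normalizer_iff.1 hxN ⟨a', hP ha'⟩).1 ha'
  set g := ((x : ↥(twistedG2 K (3 ^ m))) : GL chevG2.Idx K) with hg
  have hgB : g ∈ B1 K m := by
    by_contra hgB
    exact hane (eq_one_of_conj hn (x : ↥(twistedG2 K (3 ^ m))).2 hgB haU hc)
  obtain ⟨u, hu, h, hh, e⟩ := (mem_B1 hn).1 hgB
  have hhP : (⟨h, (Subgroup.mem_inf.1 hh).2⟩ : ↥(twistedG2 K (3 ^ m))) ∈ (P : Subgroup _) := by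
    have h1 : (⟨u, (Subgroup.mem_inf.1 hu).2⟩ : ↥(twistedG2 K (3 ^ m))) ∈ (P : Subgroup _) := hP hu
    have h2 := mul_mem (inv_mem h1) x.2
    convert h2 using 1
    exact Subtype.ext (by simp [← hg, ← e])
  obtain ⟨k, hk⟩ := P.isPGroup' ⟨_, hhP⟩
  have hord : orderOf h ∣ 3 ^ k := by
    have := congrArg (fun y : ↥(P : Subgroup ↥(twistedG2 K (3 ^ m))) => ((y : ↥(twistedG2 K (3 ^ m))) : GL chevG2.Idx K)) hk
    exact orderOf_dvd_of_pow_eq_one (by simpa using this)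
  have hord2 : orderOf h ∣ Fintype.card K - 1 := by
    rw [← card_H1 K hn, ← Subgroup.orderOf_mk h hh]
    exact orderOf_dvd_natCard _
  have h1 : h = 1 := orderOf_eq_one_iff.1 (Nat.eq_one_of_dvd_coprimes
    (Nat.Coprime.pow_left k ((Nat.Prime.coprime_iff_not_dvd Nat.prime_three).2
      (three_not_dvd_card_sub_one hn))) hord hord2)
  rw [h1, mul_one] at e
  exact hxU (show g ∈ U1 K m from e ▸ hu)

end CfsgLib.SmallRee
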