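import Cfsg.Agent.Lib.SmallRee.Involution
import Mathlib.GroupTheory.Sylow

/-!
The diagonal involution of a small Ree group is conjugate to the involution `ψ(W)` of the SL₂ inside
its centraliser, and to its product with it.
-/

set_option autoImplicit false

namespace CfsgLib.SmallRee

open Cfsg.Lie CfsgLib.ChevStr CfsgLib.Twisted Matrix
open scoped MatrixGroups

variable (K : Type*) [Field K] (m : ℕ) [CharP K 3]

/-- Letters from pairs. -/
def letters (l : List (ℕ × ℤ)) : List CfsgLib.Chev.Letter := l.map fun p => ⟨p.1, p.2, 0, 0⟩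

/-- The word of `ψ(W)`. -/
def wLetters : List CfsgLib.Chev.Letter := letters [(8, 1), (10, 1), (3, -1), (1, -1), (8, 1), (10, 1)]

/-- First conjugating word. -/
def gLetters : List CfsgLib.Chev.Letter :=
  letters [(8, 1), (9, 1), (10, 1), (11, 1), (4, -1), (5, -1), (3, -1), (2, 1), (0, -1)]

/-- Second conjugating word. -/
def gLetters' : List CfsgLib.Chev.Letter :=
  letters [(7, 1), (6, 1), (8, 1), (11, -1), (2, -1), (0, -1)]

theorem gLetters_check :
    checkMod CfsgLib.Chev.G2.cert.T 3 (gLetters ++ negOneTorus) (wLetters ++ gLetters) = true ∧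
    checkMod CfsgLib.Chev.G2.cert.T 3 (gLetters' ++ negOneTorus) (negOneTorus ++ (wLetters ++ gLetters')) = true :=
  ⟨by decide +kernel, by decide +kernel⟩

omit [CharP K 3] in
theorem invol_eq_word : invol K m =
    (coreG2 K).wordGL (negOneTorus.map fun L => (L.r, (L.c : K))) := by
  have e := fun i : Fin chevG2.rank => (coreG2 K).hGL_simple i (-1 : Kˣ)
  have hT : invol K m = (coreG2 K).hGL (chevG2.simple 0) (-1) * (coreG2 K).hGL (chevG2.simple 1) (-1) := by
    rw [show (-1 : K) = ((-1 : Kˣ) : K) by simp, e ⟨0, by decide⟩, e ⟨1, by decide⟩]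
    show (coreG2 K).R.torus _ = _
    rw [RootData.torusSingle, RootData.torusSingle, ← map_mul]
    congr 1
    funext i
    obtain ⟨i, hi⟩ := i
    have hi2 : i < 2 := hi
    have ho : ((-1 : Kˣ)) ^ 3 ^ m = -1 := Odd.neg_one_pow (Odd.pow (by decide))
    simp only [tauVec, MonoidHom.coe_mk, OneHom.coe_mk, ho, Pi.mul_apply]
    interval_cases i
    · simp
    · simp [Odd.neg_one_pow (show Odd 3 by decide)]
  have hs : chevG2.simple 0 = 7 ∧ chevG2.simple 1 = 6 ∧ chevG2.neg 7 = 4 ∧ chevG2.neg 6 = 5 := by decide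
  rw [hT, ChevCore.hGL, ChevCore.hGL, ← ChevCore.wordGL_append]
  simp [negOneTorus, ChevalleyDatum.hWord, ChevalleyDatum.nWord, hs.1, hs.2.1, hs.2.2.1, hs.2.2.2, inv_neg]

/-- `ψ(W)` as a product of three root-pair elements. -/
noncomputable def involW : GL chevG2.Idx K :=
  (coreG2 K).wordGL (reeWordU (3 ^ m) 0 1 0) * (coreG2 K).wordGL (reeWordV (3 ^ m) 0 1 0) *
    (coreG2 K).wordGL (reeWordU (3 ^ m) 0 1 0)

/-- The two conjugations. -/
theorem exists_conj_invol :
    (∃ g ∈ G1 K m, g * invol K m * g⁻¹ = involW K m) ∧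
      ∃ g ∈ G1 K m, g * invol K m * g⁻¹ = invol K m * involW K m := by
  have hW : ∀ t u v : K, (coreG2 K).wordGL (reeWordU (3 ^ m) t u v) ∈ G1 K m :=
    fun t u v => (coreG2 K).wordGL_mem_gen ⟨t, u, v, Or.inl rfl⟩
  have hV : ∀ t u v : K, (coreG2 K).wordGL (reeWordV (3 ^ m) t u v) ∈ G1 K m :=
    fun t u v => (coreG2 K).wordGL_mem_gen ⟨t, u, v, Or.inr rfl⟩
  have hpos : 0 < 3 ^ m := Nat.pow_pos (by norm_num)
  have h3 : (3 : K) = 0 := CharP.cast_eq_zero K 3
  have c2 : (1 : K) + 1 = -1 := by linear_combination h3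
  have z0 : ∀ e : ℕ, (0 : K) ^ (e + 1) = 0 := fun e => zero_pow e.succ_ne_zero
  have z1 : (0 : K) ^ 3 ^ m = 0 := zero_pow hpos.ne'
  have o : (-1 : K) ^ 3 ^ m = -1 := three_pow_odd K m
  let f : List CfsgLib.Chev.Letter → List (ℕ × K) := fun l => l.map fun L => (L.r, (L.c : K))
  have key : ∀ (W₁ W₂ : List CfsgLib.Chev.Letter), checkMod CfsgLib.Chev.G2.cert.T 3 W₁ W₂ = true →
      (coreG2 K).wordGL (f W₁) = (coreG2 K).wordGL (f W₂) := fun W₁ W₂ h => Units.ext (by
    rw [ChevCore.coe_wordGL, ChevCore.coe_wordGL]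
    exact wordMat_eq_of_checkMod (D := chevG2) (F := K) (p := 3) CfsgLib.Chev.G2.cert.hv h)
  have eW : (coreG2 K).wordGL (f wLetters) = involW K m := by
    rw [involW, reeWordV_eq]
    simp [f, wLetters, letters, reeWordU, ChevCore.wordGL_cons, ChevCore.wordGL_nil, (coreG2 K).xGL_zero, z0, z1,
      g2a, g2b, g2ab, g2aab, g2aaab, g2aaabb, g2ma, g2mb, g2mab, g2maab, g2maaab, g2maaabb, mul_assoc]
  have eT : (coreG2 K).wordGL (f negOneTorus) = invol K m := (invol_eq_word K m).symm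
  have hap : ∀ W₁ W₂, (coreG2 K).wordGL (f (W₁ ++ W₂)) = (coreG2 K).wordGL (f W₁) * (coreG2 K).wordGL (f W₂) := by
    intro W₁ W₂
    simp [f, ChevCore.wordGL_append]
  constructor
  · refine ⟨(coreG2 K).wordGL (reeWordU (3 ^ m) 0 1 1) * (coreG2 K).wordGL (reeWordV (3 ^ m) 1 0 1),
      mul_mem (hW _ _ _) (hV _ _ _), ?_⟩
    have eg : (coreG2 K).wordGL (f gLetters) =
        (coreG2 K).wordGL (reeWordU (3 ^ m) 0 1 1) * (coreG2 K).wordGL (reeWordV (3 ^ m) 1 0 1) := by
      rw [reeWordV_eq]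
      simp [f, gLetters, letters, reeWordU, ChevCore.wordGL_cons, ChevCore.wordGL_nil, (coreG2 K).xGL_zero, z0, z1, c2,
        g2a, g2b, g2ab, g2aab, g2aaab, g2aaabb, g2ma, g2mb, g2mab, g2maab, g2maaab, g2maaabb, mul_assoc]
    have h := key _ _ gLetters_check.1
    rw [hap, hap, eT, eW] at h
    rw [← eg, mul_inv_eq_iff_eq_mul, h]
  · refine ⟨(coreG2 K).wordGL (reeWordU (3 ^ m) 1 0 (-1)) * (coreG2 K).wordGL (reeWordV (3 ^ m) 0 0 1),
      mul_mem (hW _ _ _) (hV _ _ _), ?_⟩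
    have eg : (coreG2 K).wordGL (f gLetters') =
        (coreG2 K).wordGL (reeWordU (3 ^ m) 1 0 (-1)) * (coreG2 K).wordGL (reeWordV (3 ^ m) 0 0 1) := by
      rw [reeWordV_eq]
      simp [f, gLetters', letters, reeWordU, ChevCore.wordGL_cons, ChevCore.wordGL_nil, (coreG2 K).xGL_zero, z0, z1, o,
        g2a, g2b, g2ab, g2aab, g2aaab, g2aaabb, g2ma, g2mb, g2mab, g2maab, g2maaab, g2maaabb, mul_assoc]
    have h := key _ _ gLetters_check.2
    rw [hap, hap, hap, eT, eW] at h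
    rw [← eg, mul_inv_eq_iff_eq_mul, h, mul_assoc]

end CfsgLib.SmallRee
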