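import Cfsg.Agent.Lib.SmallRee.ToriFusion
import Cfsg.Agent.Lib.Coprime.HyperplaneGeneration

/-!
The centralisers of the elements of the two small tori of a small Ree group, the normaliser of a Sylow
`2`-subgroup and the normaliser of a four-group.
-/

set_option autoImplicit false

namespace CfsgLib.SmallRee

open Subgroup

section generic

variable {G : Type*} [Group G]

theorem commute_conj_iff (k : G) {x y : G} : Commute (k * x * k⁻¹) (k * y * k⁻¹) ↔ Commute x y := by
  refine ⟨fun h => ?_, commute_conj k⟩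
  have := commute_conj k⁻¹ h
  simpa [mul_assoc] using this

theorem card_map_conj (k : G) (K : Subgroup G) :
    Nat.card (K.map (MulAut.conj k).toMonoidHom) = Nat.card K :=
  card_map_of_injective (MulAut.conj k).injective

theorem mem_map_conj {k x : G} {K : Subgroup G} :
    x ∈ K.map (MulAut.conj k).toMonoidHom ↔ k⁻¹ * x * k ∈ K := by
  constructor
  · rintro ⟨y, hy, rfl⟩
    show k⁻¹ * (k * y * k⁻¹) * k ∈ K
    simpa [mul_assoc] using hy
  · exact fun h => ⟨_, h, show k * (k⁻¹ * x * k) * k⁻¹ = x by group⟩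

theorem centralizer_conj_map (k x : G) :
    (centralizer ({x} : Set G)).map (MulAut.conj k).toMonoidHom = centralizer {k * x * k⁻¹} := by
  ext y
  rw [mem_map_conj, mem_centralizer_singleton_iff, mem_centralizer_singleton_iff]
  constructor <;> intro h
  · calc y * (k * x * k⁻¹) = k * (k⁻¹ * y * k * x) * k⁻¹ := by group
      _ = k * (x * (k⁻¹ * y * k)) * k⁻¹ := by rw [h]
      _ = _ := by group
  · calc k⁻¹ * y * k * x = k⁻¹ * (y * (k * x * k⁻¹)) * k := by group
      _ = k⁻¹ * (k * x * k⁻¹ * y) * k := by rw [h]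
      _ = _ := by group

end generic

/-- A pair of commuting involutions `u`, `v` with the odd part `O` of its centraliser. -/
structure Quad {G : Type*} [Group G] (a : ℕ) (u v : G) (O : Subgroup G) : Prop where
  u_sq : u * u = 1
  u_ne : u ≠ 1
  v_sq : v * v = 1
  v_ne : v ≠ 1
  v_ne_u : v ≠ u
  comm : Commute u v
  cyclic : IsCyclic O
  card_O : Nat.card O = a
  card_cent : Nat.card ↥(centralizer ({u} : Set G) ⊓ centralizer {v}) = 8 * a
  cent : ∀ z ∈ O, Commute u z ∧ Commute v z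
  odd_mem : ∀ g : G, Commute u g → Commute v g → Odd (orderOf g) → g ∈ O
  outside : ∀ w : G, Commute u w → Commute v w → w * w = 1 → w ≠ 1 → w ≠ u → w ≠ v → w ≠ u * v →
    ∀ z ∈ O, Commute w z → z = 1
  cent_le : ∀ z ∈ O, z ≠ 1 → ∀ g : G, Commute u g → Commute z g → Commute v g
  no_swap : ∀ g : G, Commute u g → g * v * g⁻¹ ≠ u * v

/-- The four-set of a pair. -/
abbrev triple {G : Type*} [Group G] (u v : G) : Set G := {u, v, u * v}

/-- The centraliser of `u`, `v` and `O`. -/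
abbrev Wgrp {G : Type*} [Group G] (u v : G) (O : Subgroup G) : Subgroup G :=
  centralizer ({u, v} : Set G) ⊓ centralizer (O : Set G)

namespace ToriData

variable {G : Type*} [Group G] [Finite G] {q a r : ℕ} (D : ToriData G q a r)
include D

/-- Every pair of distinct commuting involutions extends to a `Quad`. -/
theorem exists_quad {u v : G} (hu : u * u = 1) (hu1 : u ≠ 1) (hv : v * v = 1) (hv1 : v ≠ 1)
    (hne : v ≠ u) (hc : Commute u v) : ∃ O : Subgroup G, Quad a u v O := by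
  obtain ⟨g, rfl⟩ := D.isConj_invol hu hu1
  set v₀ := g⁻¹ * v * g with hv₀
  have hvg : g * v₀ * g⁻¹ = v := by rw [hv₀]; group
  have h1 : v₀ * v₀ = 1 := by rw [hv₀, show g⁻¹ * v * g * (g⁻¹ * v * g) = g⁻¹ * (v * v) * g by group, hv]; group
  have h2 : v₀ ≠ 1 := fun e => hv1 (by rw [← hvg, e]; group)
  have h3 : v₀ ≠ D.t := fun e => hne (by rw [← hvg, e])
  have h4 : Commute D.t v₀ := (commute_conj_iff g).1 (by rw [hvg]; exact hc)
  obtain ⟨O, hcyc, hcard, hC, hcent, hodd, hout, hle⟩ := D.cent_pair v₀ h1 h2 h3 h4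
  have hpre : ∀ x : G, g * (g⁻¹ * x * g) * g⁻¹ = x := fun x => by group
  refine ⟨O.map (MulAut.conj g).toMonoidHom, ⟨hu, hu1, hv, hv1, hne, hc,
    isCyclic_of_surjective _ (O.equivMapOfInjective _ (MulAut.conj g).injective).surjective,
    by rw [card_map_conj, hcard], ?_, ?_, ?_, ?_, ?_, ?_⟩⟩
  · rw [← hvg, ← centralizer_conj_map, ← centralizer_conj_map,
      ← Subgroup.map_inf _ _ _ (MulAut.conj g).injective, card_map_conj, hC]
  · intro z hz
    rw [mem_map_conj] at hz
    rw [← hpre z, ← hvg, commute_conj_iff, commute_conj_iff]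
    exact hcent _ hz
  · intro x hx hx' ho
    rw [mem_map_conj]
    rw [← hpre x, commute_conj_iff] at hx
    rw [← hpre x, ← hvg, commute_conj_iff] at hx'
    exact hodd _ hx hx' (by rwa [← hpre x, orderOf_conj] at ho)
  · intro w hw hw' hw2 hw1 hwu hwv hwuv z hz hwz
    rw [mem_map_conj] at hz
    rw [← hpre w, commute_conj_iff] at hw
    rw [← hpre w, ← hvg, commute_conj_iff] at hw'
    rw [← hpre w, ← hpre z, commute_conj_iff] at hwz
    have := hout _ hw hw' (by rw [show g⁻¹ * w * g * (g⁻¹ * w * g) = g⁻¹ * (w * w) * g by group, hw2]; group)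
      (fun e => hw1 (by rw [← hpre w, e]; group))
      (fun e => hwu (by rw [← hpre w, e]))
      (fun e => hwv (by rw [← hpre w, e, hvg]))
      (fun e => hwuv (by rw [← hpre w, e, ← hvg]; group)) _ hz hwz
    rw [← hpre z, this]; group
  · intro z hz hz1 x hx hzx
    rw [mem_map_conj] at hz
    rw [← hpre x, commute_conj_iff] at hx
    rw [← hpre x, ← hpre z, commute_conj_iff] at hzx
    rw [← hpre x, ← hvg, commute_conj_iff]
    exact hle _ hz (fun e => hz1 (by rw [← hpre z, e]; group)) _ hx hzx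
  · intro x hx e
    rw [← hpre x, commute_conj_iff] at hx
    refine D.no_swap v₀ (g⁻¹ * x * g) h1 h2 h3 h4 hx ?_
    calc g⁻¹ * x * g * v₀ * (g⁻¹ * x * g)⁻¹ = g⁻¹ * (x * v * x⁻¹) * g := by rw [hv₀]; group
      _ = g⁻¹ * (g * D.t * g⁻¹ * v) * g := by rw [e]
      _ = _ := by rw [hv₀]; group

end ToriData

namespace Quad

variable {G : Type*} [Group G] [Finite G] {q a r : ℕ} {u v : G} {O : Subgroup G} (Q : Quad a u v O)
include Q

theorem uv_sq : u * v * (u * v) = 1 := by
  calc u * v * (u * v) = u * (v * u) * v := by group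
    _ = u * (u * v) * v := by rw [Q.comm.eq]
    _ = (u * u) * (v * v) := by group
    _ = 1 := by rw [Q.u_sq, Q.v_sq, one_mul]

theorem uv_ne : u * v ≠ 1 := fun e => Q.v_ne_u (by
  calc v = u * (u * v) := by rw [← mul_assoc, Q.u_sq, one_mul]
    _ = u := by rw [e, mul_one])

theorem uv_ne_u : u * v ≠ u := fun e => Q.v_ne (mul_eq_left.1 e)

theorem uv_ne_v : u * v ≠ v := fun e => Q.u_ne (mul_eq_right.1 e)

theorem huuv : u * (u * v) = v := by rw [← mul_assoc, Q.u_sq, one_mul]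

theorem hvuv : v * (u * v) = u := by rw [← mul_assoc, Q.comm.eq.symm, mul_assoc, Q.v_sq, mul_one]

theorem shift (D : ToriData G q a r) : Quad a v (u * v) O := by
  have hc : Commute v (u * v) := Commute.mul_right Q.comm.symm (Commute.refl v)
  obtain ⟨O', Q'⟩ := D.exists_quad Q.v_sq Q.v_ne Q.uv_sq Q.uv_ne Q.uv_ne_v hc
  suffices h : O = O' by rw [h]; exact Q'
  refine eq_of_le_of_card_ge (fun z hz => Q'.odd_mem z (Q.cent z hz).2 ?_ ?_) (by rw [Q.card_O, Q'.card_O])
  · exact ((Q.cent z hz).1.mul_left (Q.cent z hz).2)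
  · refine Odd.of_dvd_nat D.ha ?_
    rw [← Q.card_O, ← Subgroup.orderOf_mk z hz]
    exact orderOf_dvd_natCard _

theorem odd_of_mem (D : ToriData G q a r) {z : G} (hz : z ∈ O) : Odd (orderOf z) := by
  refine Odd.of_dvd_nat D.ha ?_
  rw [← Q.card_O, ← Subgroup.orderOf_mk z hz]
  exact orderOf_dvd_natCard _

theorem pow_a {z : G} (hz : z ∈ O) : z ^ a = 1 := by
  have := pow_card_eq_one' (x := (⟨z, hz⟩ : O))
  rw [Q.card_O] at this
  exact congrArg Subtype.val this

theorem commute_O {y z : G} (hy : y ∈ O) (hz : z ∈ O) : Commute y z := by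
  haveI := Q.cyclic
  letI := IsCyclic.commGroup (α := O)
  exact congrArg Subtype.val (mul_comm (⟨y, hy⟩ : O) ⟨z, hz⟩)

theorem four_mem {x : G} (hx : x = 1 ∨ x = u ∨ x = v ∨ x = u * v) :
    x ∈ Wgrp u v O ∧ x * x = 1 := by
  have hvu := Q.comm.symm
  have key : ∀ y, Commute u y → Commute v y → (∀ z ∈ O, Commute z y) → y ∈ Wgrp u v O := by
    intro y h1 h2 h3
    refine mem_inf.2 ⟨mem_centralizer_iff.2 fun w hw => ?_, mem_centralizer_iff.2 fun z hz => (h3 z hz).eq⟩
    rcases hw with rfl | rfl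
    exacts [h1.eq, h2.eq]
  rcases hx with rfl | rfl | rfl | rfl
  · exact ⟨one_mem _, one_mul 1⟩
  · exact ⟨key _ (Commute.refl _) hvu (fun z hz => (Q.cent z hz).1.symm), Q.u_sq⟩
  · exact ⟨key _ Q.comm (Commute.refl _) (fun z hz => (Q.cent z hz).2.symm), Q.v_sq⟩
  · exact ⟨key _ ((Commute.refl _).mul_right Q.comm) (hvu.mul_right (Commute.refl _))
      (fun z hz => (Q.cent z hz).1.symm.mul_right (Q.cent z hz).2.symm), Q.uv_sq⟩

theorem O_le_W : O ≤ Wgrp u v O := fun y hy => mem_inf.2 ⟨mem_centralizer_iff.2 fun w hw => by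
    rcases hw with rfl | rfl
    exacts [(Q.cent y hy).1.eq, (Q.cent y hy).2.eq],
  mem_centralizer_iff.2 fun z hz => (Q.commute_O hz hy).eq⟩

theorem mem_cent {x : G} : x ∈ centralizer ({u} : Set G) ⊓ centralizer {v} ↔ Commute u x ∧ Commute v x := by
  rw [mem_inf, mem_centralizer_singleton_iff, mem_centralizer_singleton_iff]
  exact ⟨fun h => ⟨h.1.symm, h.2.symm⟩, fun h => ⟨h.1.eq.symm, h.2.eq.symm⟩⟩

theorem exists_outside (D : ToriData G q a r) :
    ∃ w : G, Commute u w ∧ Commute v w ∧ w * w = 1 ∧ w ≠ 1 ∧ w ≠ u ∧ w ≠ v ∧ w ≠ u * v := by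
  obtain ⟨S, hu, hv⟩ := D.exists_sylow_pair Q.u_sq Q.v_sq Q.comm
  by_contra hno
  push Not at hno
  have hsub : (S : Set G) ⊆ {1, u, v, u * v} := by
    intro w hw
    by_contra hw'
    simp only [Set.mem_insert_iff, Set.mem_singleton_iff, not_or] at hw'
    exact hw'.2.2.2 (hno w (D.sylow_comm S u hu w hw) (D.sylow_comm S v hv w hw) ((D.sylow_two S).2 w hw)
      hw'.1 hw'.2.1 hw'.2.2.1)
  have h := Set.ncard_le_ncard hsub (Set.toFinite _)
  rw [← Nat.card_coe_set_eq, show Nat.card (S : Set G) = 8 from (D.sylow_two S).1] at h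
  have h4 : ({1, u, v, u * v} : Set G).ncard ≤ 4 := by
    refine (Set.ncard_insert_le _ _).trans (Nat.succ_le_succ ?_)
    refine (Set.ncard_insert_le _ _).trans (Nat.succ_le_succ ?_)
    refine (Set.ncard_insert_le _ _).trans (Nat.succ_le_succ ?_)
    rw [Set.ncard_singleton]
  omega

/-- `W = V × O`. -/
theorem W_structure (D : ToriData G q a r) : Nat.card (Wgrp u v O) = 4 * a ∧
    (∀ g ∈ Wgrp u v O, ∃ x, (x = 1 ∨ x = u ∨ x = v ∨ x = u * v) ∧ ∃ z ∈ O, g = x * z) := by
  classical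
  set W := Wgrp u v O
  let X : Finset G := {1, u, v, u * v}
  have hX : ∀ {x}, x ∈ X ↔ x = 1 ∨ x = u ∨ x = v ∨ x = u * v := by simp [X]
  have hX4 : X.card = 4 := by
    show ({1, u, v, u * v} : Finset G).card = 4
    rw [Finset.card_insert_of_notMem (by simp [Q.u_ne.symm, Q.v_ne.symm, Q.uv_ne.symm]),
      Finset.card_insert_of_notMem (by simp [Q.v_ne_u.symm, Q.uv_ne_u.symm]),
      Finset.card_insert_of_notMem (by simp [Q.uv_ne_v.symm]), Finset.card_singleton]
  let f : X × O → W := fun p => ⟨(p.1 : G) * p.2,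
    mul_mem (Q.four_mem (hX.1 p.1.2)).1 (Q.O_le_W p.2.2)⟩
  have hf : Function.Injective f := by
    rintro ⟨⟨x, hx⟩, ⟨z, hz⟩⟩ ⟨⟨x', hx'⟩, ⟨z', hz'⟩⟩ e
    have e' : x * z = x' * z' := congrArg Subtype.val e
    have hxq := (Q.four_mem (hX.1 hx)).1
    have hcomm : ∀ y (_ : y ∈ X) w, w ∈ O → Commute y w := fun y hy w hw =>
      (mem_centralizer_iff.1 (mem_inf.1 (Q.four_mem (hX.1 hy)).1).2 w hw).symm
    have h2 : z * z = z' * z' := by
      have h : x * z * (x * z) = x' * z' * (x' * z') := by rw [e']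
      rw [(hcomm x hx z hz).symm.mul_mul_mul_comm, (hcomm x' hx' z' hz').symm.mul_mul_mul_comm,
        (Q.four_mem (hX.1 hx)).2, (Q.four_mem (hX.1 hx')).2, one_mul, one_mul] at h
      exact h
    have hzz : z = z' := by
      obtain ⟨j, hj⟩ := D.ha
      have hp : ∀ y ∈ O, y = (y * y) ^ (j + 1) := fun y hy => by
        rw [← pow_two, ← pow_mul, show 2 * (j + 1) = a + 1 by omega, pow_succ, Q.pow_a hy, one_mul]
      rw [hp z hz, hp z' hz', h2]
    subst hzz
    have := mul_right_cancel e'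
    subst this
    rfl
  have hcard : Nat.card (X × O) = 4 * a := by
    rw [Nat.card_prod, Q.card_O, Nat.card_eq_fintype_card, Fintype.card_coe, hX4]
  have hle : W ≤ centralizer ({u} : Set G) ⊓ centralizer {v} := by
    intro x hx
    have h := mem_centralizer_iff.1 (mem_inf.1 hx).1
    exact (Q.mem_cent).2 ⟨h u (Or.inl rfl), h v (Or.inr rfl)⟩
  have hupper : Nat.card W ≤ 4 * a := by
    obtain ⟨k, hk⟩ := card_dvd_of_le hle
    rw [Q.card_cent] at hk
    rcases k with _ | _ | k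
    · have := D.a_pos; omega
    · exfalso
      have heq := eq_of_le_of_card_ge hle (by rw [Q.card_cent]; omega)
      obtain ⟨w, hwu, hwv, hw2, hw1, hwu', hwv', hwuv⟩ := Q.exists_outside D
      have hwW : w ∈ W := heq ▸ (Q.mem_cent).2 ⟨hwu, hwv⟩
      -- `O` is not trivial
      have hO : ∃ z ∈ O, z ≠ 1 := by
        by_contra h
        push Not at h
        have := (card_eq_one.2 ((Subgroup.eq_bot_iff_forall _).2 h))
        rw [Q.card_O] at this
        have := D.h4a; have := D.hq; omega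
      obtain ⟨z, hz, hz1⟩ := hO
      exact hz1 (Q.outside w hwu hwv hw2 hw1 hwu' hwv' hwuv z hz
        (Commute.symm (mem_centralizer_iff.1 (mem_inf.1 hwW).2 z hz)))
    · nlinarith [Nat.zero_le (Nat.card W * k)]
  have hbij : Function.Bijective f := (Nat.bijective_iff_injective_and_card f).2
    ⟨hf, le_antisymm (Nat.card_le_card_of_injective f hf) (by rw [hcard]; exact hupper)⟩
  refine ⟨by rw [← Nat.card_eq_of_bijective f hbij, hcard], fun g hg => ?_⟩
  obtain ⟨⟨⟨x, hx⟩, ⟨z, hz⟩⟩, e⟩ := hbij.2 ⟨g, hg⟩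
  exact ⟨x, hX.1 hx, z, hz, (congrArg Subtype.val e).symm⟩

theorem W_comm (D : ToriData G q a r) : ∀ x ∈ Wgrp u v O, ∀ y ∈ Wgrp u v O, Commute x y := by
  intro x hx y hy
  obtain ⟨y₁, hy₁, y₂, hy₂, rfl⟩ := (Q.W_structure D).2 y hy
  refine Commute.mul_right ?_ (Commute.symm (mem_centralizer_iff.1 (mem_inf.1 hx).2 y₂ hy₂))
  have h := mem_centralizer_iff.1 (mem_inf.1 hx).1
  have h1 : Commute x u := (h u (Or.inl rfl)).symm
  have h2 : Commute x v := (h v (Or.inr rfl)).symm
  rcases hy₁ with rfl | rfl | rfl | rfl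
  exacts [Commute.one_right x, h1, h2, h1.mul_right h2]

/-- An element of the centraliser of the pair commuting with a non-trivial element of `O` is in `W`. -/
theorem mem_W_of_commute (D : ToriData G q a r) {z g : G} (hz : z ∈ O) (hz1 : z ≠ 1)
    (hu : Commute u g) (hv : Commute v g) (hg : Commute z g) : g ∈ Wgrp u v O := by
  set M := (centralizer ({u} : Set G) ⊓ centralizer {v}) ⊓ centralizer {z}
  have hWM : Wgrp u v O ≤ M := by
    intro x hx
    have h := mem_centralizer_iff.1 (mem_inf.1 hx).1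
    refine mem_inf.2 ⟨(Q.mem_cent).2 ⟨h u (Or.inl rfl), h v (Or.inr rfl)⟩,
      mem_centralizer_singleton_iff.2 (mem_centralizer_iff.1 (mem_inf.1 hx).2 z hz).symm⟩
  have hne : M ≠ centralizer ({u} : Set G) ⊓ centralizer {v} := by
    intro e
    obtain ⟨w, hwu, hwv, hw2, hw1, hwu', hwv', hwuv⟩ := Q.exists_outside D
    have hwM : w ∈ M := e ▸ (Q.mem_cent).2 ⟨hwu, hwv⟩
    exact hz1 (Q.outside w hwu hwv hw2 hw1 hwu' hwv' hwuv z hz (mem_centralizer_singleton_iff.1 (mem_inf.1 hwM).2))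
  obtain ⟨k, hk⟩ := card_dvd_of_le (inf_le_left : M ≤ _)
  rw [Q.card_cent] at hk
  have hM : Nat.card M ≤ 4 * a := by
    rcases k with _ | _ | k
    · have := D.a_pos; omega
    · exact absurd (eq_of_le_of_card_ge inf_le_left (by rw [Q.card_cent]; omega)) hne
    · nlinarith [Nat.zero_le (Nat.card M * k)]
  have := eq_of_le_of_card_ge hWM (by rw [(Q.W_structure D).1]; exact hM)
  rw [this]
  exact mem_inf.2 ⟨(Q.mem_cent).2 ⟨hu, hv⟩, mem_centralizer_singleton_iff.2 hg.eq.symm⟩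

omit Q in
theorem six_of_mem (T : Sylow 2 G) (h8 : Nat.card T = 8) {x : G} (hx : x ∈ T) (hx1 : x ≠ 1) :
    ({y : G | y ∈ T ∧ y ≠ 1 ∧ y ≠ x}).ncard = 6 := by
  have h : {y : G | y ∈ T ∧ y ≠ 1 ∧ y ≠ x} = {y : G | y ∈ T ∧ y ≠ 1} \ {x} := by
    ext y
    simp only [Set.mem_sdiff, Set.mem_setOf_eq, Set.mem_singleton_iff]
    tauto
  rw [h, Set.ncard_sdiff_singleton_of_mem (show x ∈ {y : G | y ∈ T ∧ y ≠ 1} from ⟨hx, hx1⟩)]
  exact congrArg (· - 1) (ToriData.sylow_invols T h8)

/-- The normaliser of a Sylow `2`-subgroup meets the centraliser of two of its involutions in it. -/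
theorem normalizer_inf_le (D : ToriData G q a r) (T : Sylow 2 G) (huT : u ∈ T) (hvT : v ∈ T) {g : G}
    (hgN : g ∈ normalizer (T : Set G)) (hgu : Commute u g) (hgv : Commute v g) : g ∈ T := by
  haveI := Fact.mk Nat.prime_two
  have hsq := (D.sylow_two T).2
  set N := normalizer (T : Set G)
  have h8a : (g ^ 8) ^ a = 1 := by
    have := pow_card_eq_one' (x := (⟨g, Q.mem_cent.2 ⟨hgu, hgv⟩⟩ :
      ↥(centralizer ({u} : Set G) ⊓ centralizer {v})))
    rw [Q.card_cent] at this
    rw [← pow_mul]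
    exact congrArg Subtype.val this
  have hmem := Q.odd_mem (g ^ 8) (hgu.pow_right 8) (hgv.pow_right 8)
    (Odd.of_dvd_nat D.ha (orderOf_dvd_of_pow_eq_one h8a))
  obtain ⟨w, hw⟩ : ∃ w : G, (w ∈ T ∧ w ≠ 1 ∧ w ≠ u) ∧ w ≠ v ∧ w ≠ u * v := by
    by_contra h
    push Not at h
    have hsub : {x : G | x ∈ T ∧ x ≠ 1 ∧ x ≠ u} ⊆ {v, u * v} := fun x hx => by
      by_cases e : x = v
      · exact Or.inl e
      · exact Or.inr (h x hx e)
    have := Set.ncard_le_ncard hsub (Set.toFinite _)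
    have h6 : ({x : G | x ∈ T ∧ x ≠ 1 ∧ x ≠ u}).ncard = 6 := six_of_mem T (D.sylow_two T).1 huT Q.u_ne
    have h2 : ({v, u * v} : Set G).ncard ≤ 2 := by
      refine (Set.ncard_insert_le _ _).trans ?_
      rw [Set.ncard_singleton]
    omega
  obtain ⟨⟨hwT, hw1, hwu⟩, hwv, hwuv⟩ := hw
  set z := g ^ 8
  -- `z` normalises `T`, hence commutes with `w`
  have hzN : z ∈ N := pow_mem hgN 8
  have hz : z * w * z⁻¹ * w⁻¹ ∈ (T : Subgroup G) := mul_mem ((mem_normalizer_iff.1 hzN w).1 hwT) (inv_mem hwT)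
  have hzO : z * w * z⁻¹ * w⁻¹ ∈ O := by
    refine ?_
    have hconj : w * z⁻¹ * w⁻¹ ∈ O := by
      refine Q.odd_mem _ ?_ ?_ ?_
      · have := commute_conj w (Q.cent _ (inv_mem hmem)).1
        rwa [show w * u * w⁻¹ = u by rw [← (D.sylow_comm T _ huT w hwT).eq, mul_inv_cancel_right]] at this
      · have := commute_conj w (Q.cent _ (inv_mem hmem)).2
        rwa [show w * v * w⁻¹ = v by rw [← (D.sylow_comm T _ hvT w hwT).eq, mul_inv_cancel_right]] at this
      · rw [orderOf_conj]; exact Q.odd_of_mem D (inv_mem hmem)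
    rw [show z * w * z⁻¹ * w⁻¹ = z * (w * z⁻¹ * w⁻¹) by group]
    exact mul_mem hmem hconj
  have hzw : z * w * z⁻¹ * w⁻¹ = 1 := by
    have h2 := hsq _ hz
    have h1 := Q.pow_a hzO
    obtain ⟨j, hj⟩ := D.ha
    rw [hj, pow_succ, pow_mul, pow_two, h2, one_pow, one_mul] at h1
    exact h1
  have hcomm : Commute w z := (mul_inv_eq_iff_eq_mul.1 (mul_inv_eq_one.1 hzw)).symm
  have hz1 : g ^ 8 = 1 := Q.outside w (D.sylow_comm T _ huT w hwT) (D.sylow_comm T v hvT w hwT) (hsq w hwT)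
    hw1 hwu hwv hwuv z hmem hcomm
  obtain ⟨k, -, hk⟩ := (Nat.dvd_prime_pow Nat.prime_two).1
    (show orderOf g ∣ 2 ^ 3 from orderOf_dvd_of_pow_eq_one hz1)
  have h1 : IsPGroup 2 (zpowers g ⊔ T : Subgroup G) :=
    (IsPGroup.of_card ((Nat.card_zpowers g).trans hk)).to_sup_of_normal_right' T.2 (zpowers_le.2 hgN)
  show g ∈ (T : Subgroup G)
  rw [← T.3 h1 le_sup_right]
  exact (le_sup_left : zpowers g ≤ _) (mem_zpowers g)

end Quad

namespace ToriData

variable {G : Type*} [Group G] [Finite G] {q a r : ℕ} (D : ToriData G q a r)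
include D

/-- A Sylow `2`-subgroup is self-centralising. -/
theorem centralizer_sylow (S : Sylow 2 G) : centralizer ((S : Subgroup G) : Set G) = (S : Subgroup G) := by
  haveI := Fact.mk Nat.prime_two
  refine le_antisymm (fun g hg => ?_) (fun x hx => mem_centralizer_iff.2 fun y hy => (D.sylow_comm S y hy x hx).eq)
  have h8 := (D.sylow_two S).1
  have hsq := (D.sylow_two S).2
  obtain ⟨u, hu, hu1⟩ : ∃ u ∈ S, u ≠ 1 := by
    by_contra h
    push Not at h
    have := card_eq_one.2 ((Subgroup.eq_bot_iff_forall (S : Subgroup G)).2 h)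
    rw [show Nat.card (S : Subgroup G) = 8 from h8] at this
    omega
  obtain ⟨v, hv, hv1, hvu⟩ : ∃ v ∈ S, v ≠ 1 ∧ v ≠ u := by
    by_contra h
    push Not at h
    have hsub : (S : Set G) ⊆ {1, u} := fun x hx => by
      rcases eq_or_ne x 1 with e | e
      · exact Or.inl e
      · exact Or.inr (h x hx e)
    have := Set.ncard_le_ncard hsub (Set.toFinite _)
    rw [← Nat.card_coe_set_eq, show Nat.card (S : Set G) = 8 from h8] at this
    have h2 : ({1, u} : Set G).ncard ≤ 2 := by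
      refine (Set.ncard_insert_le _ _).trans ?_
      rw [Set.ncard_singleton]
    omega
  obtain ⟨O, Q⟩ := D.exists_quad (hsq u hu) hu1 (hsq v hv) hv1 hvu (D.sylow_comm S u hu v hv)
  have hgc : ∀ x ∈ S, Commute x g := fun x hx => mem_centralizer_iff.1 hg x hx
  obtain ⟨w, hw, hw'⟩ : ∃ w ∈ S, ¬ (w = 1 ∨ w = u ∨ w = v ∨ w = u * v) := by
    by_contra h
    push Not at h
    have hsub : (S : Set G) ⊆ {1, u, v, u * v} := fun x hx => by
      simpa only [Set.mem_insert_iff, Set.mem_singleton_iff] using h x hx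
    have := Set.ncard_le_ncard hsub (Set.toFinite _)
    rw [← Nat.card_coe_set_eq, show Nat.card (S : Set G) = 8 from h8] at this
    have h4 : ({1, u, v, u * v} : Set G).ncard ≤ 4 := by
      refine (Set.ncard_insert_le _ _).trans (Nat.succ_le_succ ?_)
      refine (Set.ncard_insert_le _ _).trans (Nat.succ_le_succ ?_)
      refine (Set.ncard_insert_le _ _).trans (Nat.succ_le_succ ?_)
      rw [Set.ncard_singleton]
    omega
  simp only [not_or] at hw'
  -- the eighth power has odd order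
  have h8a : (g ^ 8) ^ a = 1 := by
    have := pow_card_eq_one' (x := (⟨g, Q.mem_cent.2 ⟨hgc u hu, hgc v hv⟩⟩ :
      ↥(centralizer ({u} : Set G) ⊓ centralizer {v})))
    rw [Q.card_cent] at this
    rw [← pow_mul]
    exact congrArg Subtype.val this
  have hmem := Q.odd_mem (g ^ 8) ((hgc u hu).pow_right 8) ((hgc v hv).pow_right 8)
    (Odd.of_dvd_nat D.ha (orderOf_dvd_of_pow_eq_one h8a))
  have hg8 : g ^ 8 = 1 := Q.outside w (D.sylow_comm S u hu w hw) (D.sylow_comm S v hv w hw) (hsq w hw)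
    hw'.1 hw'.2.1 hw'.2.2.1 hw'.2.2.2 _ hmem ((hgc w hw).pow_right 8)
  obtain ⟨k, -, hk⟩ := (Nat.dvd_prime_pow Nat.prime_two).1
    (show orderOf g ∣ 2 ^ 3 from orderOf_dvd_of_pow_eq_one hg8)
  have h1 : IsPGroup 2 (zpowers g ⊔ S : Subgroup G) :=
    (IsPGroup.of_card ((Nat.card_zpowers g).trans hk)).to_sup_of_normal_right' S.2
      (zpowers_le.2 (centralizer_le_normalizer _ hg))
  rw [← S.3 h1 le_sup_right]
  exact (le_sup_left : zpowers g ≤ _) (mem_zpowers g)

theorem card_orbit_normalizer (S : Sylow 2 G) {x : G} (hx : x ∈ S) (hx1 : x ≠ 1) :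
    Nat.card {y : G // ∃ n ∈ normalizer (S : Set G), n * x * n⁻¹ = y} = 7 := by
  haveI := Fact.mk Nat.prime_two
  have hc := D.sylow_comm S
  rw [← sylow_invols S (D.sylow_two S).1]
  refine Nat.card_congr (Equiv.subtypeEquivRight fun y => ?_)
  constructor
  · rintro ⟨n, hn, rfl⟩
    exact ⟨(mem_normalizer_iff.1 hn x).1 hx, conj_ne_one n hx1⟩
  · rintro ⟨hy, hy1⟩
    obtain ⟨g, hg⟩ := D.isConj_invol ((D.sylow_two S).2 y hy) hy1
    obtain ⟨k, hk⟩ := D.isConj_invol ((D.sylow_two S).2 x hx) hx1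
    have hgk : g * k⁻¹ * x * (g * k⁻¹)⁻¹ = y := by rw [← hk, ← hg]; group
    obtain ⟨n, hn, -, hne⟩ := exists_normalizer_conj_pair S hc (one_mem (S : Subgroup G)) hx
      (Commute.one_left (g * k⁻¹)) (by rw [hgk]; exact hy)
    exact ⟨n, hn, hne.trans hgk⟩

/-- `|N(S)| = 168`. -/
theorem card_normalizer_sylow (S : Sylow 2 G) : Nat.card (normalizer (S : Set G)) = 168 := by
  haveI := Fact.mk Nat.prime_two
  obtain ⟨T, hT⟩ := D.exists_sylow_t
  obtain ⟨g, rfl⟩ := MulAction.exists_smul_eq G T S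
  have hNc : Nat.card (normalizer ((g • T : Sylow 2 G) : Set G)) = Nat.card (normalizer (T : Set G)) := by
    have h1 := T.card_eq_index_normalizer
    have h2 := (g • T).card_eq_index_normalizer
    have h3 := card_mul_index (normalizer (T : Set G))
    have h4 := card_mul_index (normalizer ((g • T : Sylow 2 G) : Set G))
    rw [← h2, h1] at h4
    exact Nat.eq_of_mul_eq_mul_right (Nat.pos_of_ne_zero index_ne_zero_of_finite) (h4.trans h3.symm)
  rw [hNc]
  have hsq := (D.sylow_two T).2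
  set N := normalizer (T : Set G)
  set N₁ := N ⊓ centralizer {D.t}
  obtain ⟨v, hv, hv1, hvt⟩ : ∃ v ∈ T, v ≠ 1 ∧ v ≠ D.t := by
    have h := D.six_eq hT
    obtain ⟨⟨v, hv⟩⟩ := (Nat.card_pos_iff.1 (by rw [h]; norm_num : 0 < Nat.card {x : G // x ∈ T ∧ x ≠ 1 ∧ x ≠ D.t})).1
    exact ⟨v, hv⟩
  have h7 : N₁.relIndex N = 7 := by
    rw [show N₁ = centralizer {D.t} ⊓ N from inf_comm _ _, inf_relIndex_right, ← card_conj_set]
    exact D.card_orbit_normalizer T hT D.t_ne
  have h3 : (N₁ ⊓ centralizer {v}).relIndex N₁ = 3 := by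
    rw [inf_comm, inf_relIndex_right, ← card_conj_set]
    exact (D.orbit_three hT hv hv1 hvt).1
  obtain ⟨O, Q⟩ := D.exists_quad D.t_sq D.t_ne (hsq v hv) hv1 hvt (D.sylow_comm T _ hT v hv)
  have hST : N₁ ⊓ centralizer {v} = (T : Subgroup G) := by
    refine le_antisymm (fun g hg => ?_) (fun x hx => ?_)
    · obtain ⟨⟨hgN, hgt⟩, hgv⟩ := hg
      exact Q.normalizer_inf_le D T hT hv hgN (mem_centralizer_singleton_iff.1 hgt).symm
        (mem_centralizer_singleton_iff.1 hgv).symm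
    · exact ⟨⟨le_normalizer hx, mem_centralizer_singleton_iff.2 (D.sylow_comm T x hx _ hT).eq⟩,
        mem_centralizer_singleton_iff.2 (D.sylow_comm T x hx v hv).eq⟩
  rw [hST] at h3
  have e1 := relIndex_mul_relIndex _ _ N (le_of_eq hST.symm |>.trans inf_le_left : (T : Subgroup G) ≤ N₁) inf_le_left
  rw [h3, h7] at e1
  have e2 := card_mul_index ((T : Subgroup G).subgroupOf N)
  rw [show ((T : Subgroup G).subgroupOf N).index = (T : Subgroup G).relIndex N from rfl, ← e1,
    Nat.card_congr (subgroupOfEquivOfLe (show (T : Subgroup G) ≤ N from le_normalizer)).toEquiv,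
    show Nat.card (T : Subgroup G) = 8 from (D.sylow_two T).1] at e2
  omega

end ToriData

end CfsgLib.SmallRee
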