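import Cfsg.Agent.Lib.SmallRee.ToriNorm

/-!
The elements of a small Ree group by order, and their numbers outside the large tori.
-/

set_option autoImplicit false

namespace CfsgLib.SmallRee

open Subgroup

section generic

variable {G : Type*} [Group G] [Finite G]

/-- Counting the elements with a property through a trivial intersection set. -/
theorem card_of_ti (N : Subgroup G) (A : Set G) (P : G → Prop) (hP : ∀ k x : G, P x → P (k * x * k⁻¹))
    (hA : ∀ k ∈ N, ∀ x ∈ A, P x → k * x * k⁻¹ ∈ A)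
    (hTI : ∀ x ∈ A, P x → ∀ k : G, k * x * k⁻¹ ∈ A → k ∈ N)
    (hcov : ∀ x, P x → ∃ k : G, k * x * k⁻¹ ∈ A) :
    Nat.card {x : G // P x} = N.index * Nat.card {x : G // x ∈ A ∧ P x} := by
  rw [index_eq_card, ← Nat.card_prod]
  refine (Nat.card_eq_of_bijective (fun p : (G ⧸ N) × {x : G // x ∈ A ∧ P x} =>
    (⟨p.1.out * p.2.1 * p.1.out⁻¹, hP _ _ p.2.2.2⟩ : {x : G // P x})) ⟨?_, ?_⟩).symm
  · rintro ⟨b, x, hx, hx1⟩ ⟨c, y, hy, hy1⟩ h
    have h' : b.out * x * b.out⁻¹ = c.out * y * c.out⁻¹ := congrArg Subtype.val h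
    have e : c.out⁻¹ * b.out * x * (c.out⁻¹ * b.out)⁻¹ = y := by
      rw [show c.out⁻¹ * b.out * x * (c.out⁻¹ * b.out)⁻¹ = c.out⁻¹ * (b.out * x * b.out⁻¹) * c.out by group, h']
      group
    have hk := hTI x hx hx1 _ (by rw [e]; exact hy)
    have hbc : c = b := by
      rw [← Quotient.out_eq b, ← Quotient.out_eq c]
      exact QuotientGroup.eq.2 hk
    subst hbc
    have : x = y := by simpa using e
    subst this
    rfl
  · rintro ⟨x, hx⟩
    obtain ⟨k, hk⟩ := hcov x hx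
    obtain ⟨n, hn⟩ := QuotientGroup.mk_out_eq_mul N k⁻¹
    have hout : ((k⁻¹ : G) : G ⧸ N).out⁻¹ * x * ((k⁻¹ : G) : G ⧸ N).out =
        (n : G)⁻¹ * (k * x * k⁻¹) * n := by rw [hn]; group
    have hmem := hA (n : G)⁻¹ (inv_mem n.2) _ hk (hP k x hx)
    have hPn := hP (n : G)⁻¹ _ (hP k x hx)
    rw [inv_inv] at hmem hPn
    refine ⟨⟨((k⁻¹ : G) : G ⧸ N), ⟨(n : G)⁻¹ * (k * x * k⁻¹) * n, hmem, hPn⟩⟩, Subtype.ext ?_⟩
    show ((k⁻¹ : G) : G ⧸ N).out * ((n : G)⁻¹ * (k * x * k⁻¹) * n) * (((k⁻¹ : G) : G ⧸ N).out)⁻¹ = x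
    rw [← hout]; group

theorem index_eq_of_card {N : Subgroup G} {n k : ℕ} (h : Nat.card N = n) (he : Nat.card G = n * k) :
    N.index = k := by
  refine Nat.eq_of_mul_eq_mul_left (Nat.card_pos (α := N)) ?_
  rw [card_mul_index, he, h]

/-- An element of `p`-power order is conjugate into a subgroup of index prime to `p`. -/
theorem conj_into {p : ℕ} [Fact p.Prime] (K : Subgroup G) (hK : ¬ p ∣ K.index) {y : G} {k : ℕ}
    (hy : orderOf y = p ^ k) : ∃ g : G, g * y * g⁻¹ ∈ K := by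
  obtain ⟨P, hP⟩ := (IsPGroup.of_card ((Nat.card_zpowers y).trans hy)).exists_le_sylow
  obtain ⟨P₀⟩ := (inferInstance : Nonempty (Sylow p K))
  set R := (P₀ : Subgroup K).map K.subtype
  have hR : Nat.card R = p ^ (Nat.card G).factorization p := by
    rw [card_map_of_injective K.subtype_injective, P₀.card_eq_multiplicity]
    congr 1
    rw [← card_mul_index K, Nat.factorization_mul Nat.card_pos.ne' index_ne_zero_of_finite, Finsupp.add_apply,
      Nat.factorization_eq_zero_of_not_dvd hK, add_zero]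
  obtain ⟨g, hg⟩ := MulAction.exists_smul_eq G P (Sylow.ofCard R hR)
  have hmem : g * y * g⁻¹ ∈ ((g • P : Sylow p G) : Subgroup G) := by
    rw [Sylow.coe_subgroup_smul]
    exact smul_mem_pointwise_smul y (MulAut.conj g) _ (hP (mem_zpowers y))
  rw [hg] at hmem
  exact ⟨g, map_subtype_le _ hmem⟩

end generic

namespace ToriData

variable {G : Type*} [Group G] [Finite G] {q a r : ℕ} (D : ToriData G q a r)
include D

theorem two_not_dvd_index {K : Subgroup G} {p k : ℕ} (hp : p.Prime) (hk : Nat.card K * k = Nat.card G)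
    (h : ¬ p ∣ k) : ¬ p ∣ K.index := by
  have : K.index = k := Nat.eq_of_mul_eq_mul_left (Nat.card_pos (α := K)) ((card_mul_index K).trans hk.symm)
  rwa [this]

theorem index_U : D.U.index = (q - 1) * (q ^ 3 + 1) :=
  index_eq_of_card D.card_U (by rw [D.card_eq, mul_assoc])

theorem index_NU : (normalizer (D.U : Set G)).index = q ^ 3 + 1 :=
  index_eq_of_card D.card_NU D.card_eq

theorem index_NH : (normalizer (D.H : Set G)).index * 2 = q ^ 3 * (q ^ 3 + 1) := by
  have h := card_mul_index (normalizer (D.H : Set G))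
  rw [D.card_NH, D.card_eq] at h
  refine Nat.eq_of_mul_eq_mul_left (show 0 < q - 1 by have := D.hq; omega) ?_
  rw [show (q - 1) * ((normalizer (D.H : Set G)).index * 2) = 2 * (q - 1) * (normalizer (D.H : Set G)).index by ring, h]
  ring

theorem three_not_dvd_index_U : ¬ 3 ∣ D.U.index := by
  rw [D.index_U]
  intro h
  rcases Nat.prime_three.dvd_mul.1 h with h | h
  · exact D.three_not_dvd_q_sub h
  · have := (Nat.dvd_add_right (dvd_pow D.three_dvd_q (by norm_num : 3 ≠ 0))).1 h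
    omega

theorem conj_into_U {y : G} {k : ℕ} (hy : orderOf y = 3 ^ k) : ∃ g : G, g * y * g⁻¹ ∈ D.U :=
  haveI := Fact.mk Nat.prime_three
  conj_into D.U D.three_not_dvd_index_U hy

theorem mem_U_of_mem_NU {y : G} (hy : y ∈ normalizer (D.U : Set G)) {k : ℕ} (hk : orderOf y = 3 ^ k) :
    y ∈ D.U := by
  haveI := Fact.mk Nat.prime_three
  obtain ⟨P, hP⟩ := D.U_sylow
  rw [← hP] at hy ⊢
  have h1 : IsPGroup 3 (zpowers y ⊔ P : Subgroup G) :=
    (IsPGroup.of_card ((Nat.card_zpowers y).trans hk)).to_sup_of_normal_right' P.2 (zpowers_le.2 hy)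
  rw [← P.3 h1 le_sup_right]
  exact (le_sup_left : zpowers y ≤ _) (mem_zpowers y)

theorem H_two {h : G} (hh : h ∈ D.H) (h2 : h * h = 1) : h = 1 ∨ h = D.t := by
  rcases eq_or_ne h 1 with e | e
  · exact Or.inl e
  haveI := D.H_cyclic
  have ha : orderOf (⟨h, hh⟩ : D.H) = 2 := by rw [Subgroup.orderOf_mk]; exact orderOf_eq_two h2 e
  have hb : orderOf (⟨D.t, D.t_mem_H⟩ : D.H) = 2 := by rw [Subgroup.orderOf_mk]; exact orderOf_eq_two D.t_sq D.t_ne
  classical
  haveI : Fintype D.H := Fintype.ofFinite _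
  by_contra hne
  rw [not_or] at hne
  have hle := IsCyclic.card_pow_eq_one_le (α := D.H) (n := 2) Nat.two_pos
  have hsub : ({1, ⟨h, hh⟩, ⟨D.t, D.t_mem_H⟩} : Finset D.H) ⊆ Finset.univ.filter fun x => x ^ 2 = 1 := by
    intro x hx
    simp only [Finset.mem_insert, Finset.mem_singleton] at hx
    rw [Finset.mem_filter]
    refine ⟨Finset.mem_univ _, ?_⟩
    rcases hx with rfl | rfl | rfl
    · exact one_pow 2
    · rw [← ha]; exact pow_orderOf_eq_one _
    · rw [← hb]; exact pow_orderOf_eq_one _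
  have h3 : ({1, ⟨h, hh⟩, ⟨D.t, D.t_mem_H⟩} : Finset D.H).card = 3 :=
    Finset.card_eq_three.2 ⟨_, _, _, fun e' => e (congrArg Subtype.val e').symm,
      fun e' => D.t_ne (congrArg Subtype.val e').symm, fun e' => hne.2 (congrArg Subtype.val e'), rfl⟩
  have := (Finset.card_le_card hsub).trans hle
  omega

theorem H_comm {x y : G} (hx : x ∈ D.H) (hy : y ∈ D.H) : Commute x y := by
  haveI := D.H_cyclic
  exact congrArg Subtype.val (IsCyclic.commGroup.mul_comm (⟨x, hx⟩ : D.H) ⟨y, hy⟩)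

/-- Elements of `U h` are conjugate to `h` when `h` is no involution. -/
theorem conj_to_H {u h : G} (hu : u ∈ D.U) (hh : h ∈ D.H) (h2 : h * h ≠ 1) :
    ∃ k : G, k * (u * h) * k⁻¹ = h := by
  let φ : D.U → D.U := fun x => ⟨(x : G) * (h * (x : G)⁻¹ * h⁻¹),
    mul_mem x.2 ((mem_normalizer_iff.1 (D.H_le_NU hh) _).1 (inv_mem x.2))⟩
  have hφ : Function.Injective φ := by
    intro x y e
    have e' : (x : G) * (h * (x : G)⁻¹ * h⁻¹) = (y : G) * (h * (y : G)⁻¹ * h⁻¹) := congrArg Subtype.val e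
    have hc : Commute h ((y : G)⁻¹ * x) := by
      show h * ((y : G)⁻¹ * x) = (y : G)⁻¹ * x * h
      calc h * ((y : G)⁻¹ * x) = (y : G)⁻¹ * ((y : G) * (h * (y : G)⁻¹ * h⁻¹)) * h * x := by group
        _ = (y : G)⁻¹ * ((x : G) * (h * (x : G)⁻¹ * h⁻¹)) * h * x := by rw [e']
        _ = _ := by group
    exact (inv_mul_eq_one.1 (D.U_cent_H h hh h2 _ (mul_mem (inv_mem y.2) x.2) hc)).symm |> Subtype.ext
  obtain ⟨x, hx⟩ := Finite.surjective_of_injective hφ ⟨u, hu⟩
  have hx' : (x : G) * (h * (x : G)⁻¹ * h⁻¹) = u := congrArg Subtype.val hx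
  exact ⟨(x : G)⁻¹, by rw [← hx']; group⟩

/-- A `3`-element commuting with an involution has order at most three. -/
theorem cube_of_commute_invol {u y : G} (hu : u * u = 1) (hu1 : u ≠ 1) (hc : Commute u y) {k : ℕ}
    (hk : orderOf y = 3 ^ k) : y ^ 3 = 1 := by
  haveI := Fact.mk Nat.prime_three
  obtain ⟨g, rfl⟩ := D.isConj_invol hu hu1
  set C := centralizer ({D.t} : Set G)
  have hy : g⁻¹ * y * g ∈ C := mem_centralizer_singleton_iff.2 (by
    have := commute_conj g⁻¹ hc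
    rw [inv_inv, show g⁻¹ * (g * D.t * g⁻¹) * g = D.t by group] at this
    exact this.eq.symm)
  let K : Subgroup C := (D.U ⊓ C).subgroupOf C
  have hKc : Nat.card K = q := by
    rw [Nat.card_congr (subgroupOfEquivOfLe (inf_le_right : D.U ⊓ C ≤ C)).toEquiv]
    exact D.card_U_cent
  have hKi : ¬ 3 ∣ K.index := by
    have hk' : K.index = q ^ 2 - 1 := index_eq_of_card hKc D.card_cent
    rw [hk']
    intro h
    have := dvd_pow D.three_dvd_q (show 2 ≠ 0 by norm_num)
    have := D.hq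
    have : 1 ≤ q ^ 2 := Nat.one_le_pow _ _ (by omega)
    omega
  obtain ⟨c, hc'⟩ := conj_into (p := 3) K hKi (y := (⟨_, hy⟩ : C)) (k := k) (by
    rw [Subgroup.orderOf_mk, ← hk]
    calc orderOf (g⁻¹ * y * g) = orderOf (g⁻¹ * y * g⁻¹⁻¹) := by rw [inv_inv]
      _ = orderOf y := orderOf_conj _ _)
  obtain ⟨hU, hC⟩ := mem_inf.1 (mem_subgroupOf.1 hc')
  have h3 := D.U_cent_cube _ hU (mem_centralizer_singleton_iff.1 hC).symm
  push_cast at h3
  rw [conj_pow, conj_eq_one_iff] at h3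
  calc y ^ 3 = g * (g⁻¹ * y * g) ^ 3 * g⁻¹ := by rw [← conj_pow]; group
    _ = 1 := by rw [h3]; group

/-- The possible shapes of an element of `N(U)`. -/
theorem NU_cases {g : G} (hg : g ∈ normalizer (D.U : Set G)) :
    (∃ h ∈ D.H, h * h ≠ 1 ∧ ∃ k : G, k * g * k⁻¹ = h) ∨ g ∈ D.U ∨
      ((∃ u ∈ D.U, g = u * D.t) ∧ (orderOf g = 2 ∨ orderOf g = 6)) := by
  obtain ⟨u, hu, h, hh, rfl⟩ := D.NU_dec g hg
  by_cases h2 : h * h = 1
  swap
  · exact Or.inl ⟨h, hh, h2, D.conj_to_H hu hh h2⟩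
  rcases D.H_two hh h2 with e | e
  · rw [e, mul_one]; exact Or.inr (Or.inl hu)
  refine Or.inr (Or.inr ⟨⟨u, hu, by rw [e]⟩, ?_⟩)
  rw [e]
  set x := u * D.t
  have htU : D.t * u * D.t ∈ D.U := by
    have h := (mem_normalizer_iff.1 (D.H_le_NU D.t_mem_H) u).1 hu
    rwa [inv_eq_of_mul_eq_one_right D.t_sq] at h
  have hx2 : x ^ 2 ∈ D.U := by
    rw [show x ^ 2 = u * (D.t * u * D.t) by rw [pow_two]; simp only [x]; group]
    exact mul_mem hu htU
  have h18 : orderOf x ∣ 18 := orderOf_dvd_of_pow_eq_one (by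
    rw [show 18 = 2 * 9 from rfl, pow_mul]; exact D.U_pow _ hx2)
  have hxU : x ∉ D.U := fun h => by
    have htU : D.t ∈ D.U := by simpa [x] using mul_mem (inv_mem hu) h
    have h9 := D.U_pow _ htU
    rw [show 9 = 2 * 4 + 1 from rfl, pow_succ, pow_mul, pow_two, D.t_sq, one_pow, one_mul] at h9
    exact D.t_ne h9
  have heven : 2 ∣ orderOf x := by
    by_contra hodd
    obtain ⟨j, hj⟩ := exists_pow_eq_self_of_coprime (n := 2) (x := x) ((Nat.prime_two.coprime_iff_not_dvd).2 hodd)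
    exact hxU (hj ▸ pow_mem hx2 j)
  have h18' : orderOf x ≠ 18 := by
    intro ho
    have h9 : x ^ 9 * x ^ 9 = 1 := by
      rw [← pow_add, show 9 + 9 = orderOf x from ho.symm, pow_orderOf_eq_one]
    have h91 : x ^ 9 ≠ 1 := fun e' => by
      have := orderOf_dvd_of_pow_eq_one e'
      rw [ho] at this
      omega
    have h := D.cube_of_commute_invol h9 h91 ((Commute.refl x).pow_pow 9 2) (k := 2) (by
      rw [orderOf_pow, ho]; rfl)
    rw [← pow_mul] at h
    have := orderOf_dvd_of_pow_eq_one h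
    rw [ho] at this
    omega
  have hmem : orderOf x ∈ Nat.divisors 18 := Nat.mem_divisors.2 ⟨h18, by norm_num⟩
  rw [show Nat.divisors 18 = {1, 2, 3, 6, 9, 18} from by decide +kernel] at hmem
  simp only [Finset.mem_insert, Finset.mem_singleton] at hmem
  omega

theorem orderOf_eq_three_div {g : G} (h3 : 3 ∣ orderOf g) : orderOf g = 3 ∨ orderOf g = 6 ∨ orderOf g = 9 := by
  obtain ⟨j, hj⟩ := h3
  have hy : orderOf (g ^ j) = 3 ^ 1 := by
    rw [pow_one, orderOf_pow, hj, Nat.gcd_eq_right (dvd_mul_left j 3), Nat.mul_div_cancel]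
    exact Nat.pos_of_ne_zero fun e => (orderOf_pos g).ne' (by rw [hj, e, mul_zero])
  obtain ⟨k, hk⟩ := D.conj_into_U hy
  have hk1 : k * g ^ j * k⁻¹ ≠ 1 := fun e => by
    have h := orderOf_conj k (g ^ j)
    rw [e, orderOf_one, hy] at h
    norm_num at h
  have hN : k * g * k⁻¹ ∈ normalizer (D.U : Set G) := by
    refine D.U_ti _ hk hk1 _ ?_
    have hc : Commute (k * g * k⁻¹) (k * g ^ j * k⁻¹) := commute_conj k ((Commute.refl g).pow_right j)
    rw [hc.eq, mul_inv_cancel_right]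
    exact hk
  rw [← orderOf_conj k g]
  have h3' : 3 ∣ orderOf (k * g * k⁻¹) := by rw [orderOf_conj, hj]; exact dvd_mul_right 3 j
  rcases D.NU_cases hN with ⟨h, hh, -, l, hl⟩ | hU | ⟨-, h | h⟩
  · exfalso
    rw [← orderOf_conj l, hl] at h3'
    refine D.three_not_dvd_q_sub (h3'.trans ?_)
    rw [← D.card_H, ← Subgroup.orderOf_mk h hh]
    exact orderOf_dvd_natCard _
  · have hd : orderOf (k * g * k⁻¹) ∣ 3 ^ 2 := orderOf_dvd_of_pow_eq_one (D.U_pow _ hU)
    obtain ⟨i, hi, e⟩ := (Nat.dvd_prime_pow Nat.prime_three).1 hd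
    interval_cases i
    · rw [e] at h3'; norm_num at h3'
    · exact Or.inl (e.trans (pow_one 3))
    · exact Or.inr (Or.inr e)
  · rw [h] at h3'; omega
  · exact Or.inr (Or.inl h)

theorem two_part_exclusive {n : ℕ} (h : 2 < n) (hn : n ∣ q - 1) (hn' : n ∣ 2 * a) : False := by
  have h1 : n ∣ 2 := by
    have := Nat.dvd_gcd hn hn'
    rw [mul_comm 2 a, Nat.Coprime.gcd_mul_left_cancel_right 2 D.coprime_a_q_sub] at this
    exact this.trans (Nat.gcd_dvd_right _ _)
  have := Nat.le_of_dvd Nat.two_pos h1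
  omega

variable {u v : G} {O : Subgroup G} (Q : Quad a u v O)
include Q

theorem W_pow {g : G} (hg : g ∈ Wgrp u v O) : g ^ (2 * a) = 1 := by
  obtain ⟨x, hx, z, hz, rfl⟩ := (Q.W_structure D).2 g hg
  rw [(Q.W_comm D x (Q.four_mem hx).1 z (Q.O_le_W hz)).mul_pow, pow_mul, pow_two, (Q.four_mem hx).2, one_pow, one_mul,
    mul_comm, pow_mul, Q.pow_a hz, one_pow]

/-- Every element by its order. -/
theorem order_cases {g : G} (hg : g ≠ 1) :
    orderOf g = 2 ∨ 3 ∣ orderOf g ∨ (2 < orderOf g ∧ orderOf g ∣ q - 1 ∧ ∃ k : G, k * g * k⁻¹ ∈ D.H) ∨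
      (2 < orderOf g ∧ orderOf g ∣ 2 * a ∧ ∃ k : G, k * g * k⁻¹ ∈ Wgrp u v O) ∨
      (∀ p : ℕ, p.Prime → p ∣ orderOf g → p ∣ q ^ 2 - q + 1) := by
  by_cases h2 : orderOf g = 2
  · exact Or.inl h2
  by_cases h3 : 3 ∣ orderOf g
  · exact Or.inr (Or.inl h3)
  right; right
  by_cases hX : ∀ p : ℕ, p.Prime → p ∣ orderOf g → p ∣ q ^ 2 - q + 1
  · exact Or.inr (Or.inr hX)
  -- an odd prime outside `c`
  obtain ⟨p, hp, hpd, hp2, hpc⟩ : ∃ p : ℕ, p.Prime ∧ p ∣ orderOf g ∧ p ≠ 2 ∧ ¬ p ∣ q ^ 2 - q + 1 := by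
    by_contra hno
    push Not at hno hX
    obtain ⟨p, hp, hpd, hpc⟩ := hX
    have hp2 : p = 2 := by_contra fun h => hpc (hno p hp hpd h)
    subst hp2
    -- an odd prime divisor
    obtain ⟨l, hl, hld, hl2⟩ : ∃ l : ℕ, l.Prime ∧ l ∣ orderOf g ∧ l ≠ 2 := by
      by_contra hall
      push Not at hall
      have hk := Nat.eq_prime_pow_of_unique_prime_dvd (orderOf_pos g).ne' (fun {d} hd hdd => hall d hd hdd)
      have hsq := D.sq_of_two_pow hk
      exact h2 (orderOf_eq_two hsq hg)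
    -- the involution power centralises an element of order `l`, which divides `q ^ 2 - 1`
    obtain ⟨i, hi⟩ := hpd
    have hi0 : 0 < i := Nat.pos_of_ne_zero fun e => (orderOf_pos g).ne' (by rw [hi, e, mul_zero])
    set w := g ^ i
    have hw : orderOf w = 2 := by
      rw [orderOf_pow, hi, Nat.gcd_eq_right (dvd_mul_left i 2), Nat.mul_div_cancel _ hi0]
    have hd : orderOf g ∣ q * (q ^ 2 - 1) := by
      have hw2 : w * w = 1 := by rw [← pow_two, ← hw]; exact pow_orderOf_eq_one w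
      have hw1 : w ≠ 1 := fun e => by rw [e, orderOf_one] at hw; omega
      rw [← D.card_centralizer_invol hw2 hw1,
        ← Subgroup.orderOf_mk g (mem_centralizer_singleton_iff.2 ((Commute.refl g).pow_right i).eq)]
      exact orderOf_dvd_natCard _
    rcases hl.dvd_mul.1 (hld.trans hd) with h | h
    · exact hl.one_lt.ne' (Nat.eq_one_of_dvd_coprimes D.coprime_q_c h (hno l hl hld hl2))
    · exact hl.one_lt.ne' (Nat.eq_one_of_dvd_coprimes (D.coprime_c dvd_rfl) h (hno l hl hld hl2))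
  have hn2 : 2 < orderOf g := by
    have := Nat.le_of_dvd (orderOf_pos g) hpd
    have := hp.two_le
    omega
  have hp3 : p ≠ 3 := fun e => h3 (e ▸ hpd)
  have hpG : p ∣ q ^ 3 * (q - 1) * (4 * a) * (q ^ 2 - q + 1) := by
    rw [← D.card_eq']
    exact hpd.trans (orderOf_dvd_natCard g)
  have hpq : ¬ p ∣ q := fun h => by
    obtain ⟨k, rfl⟩ := D.h3
    exact hp3 ((Nat.prime_dvd_prime_iff_eq hp Nat.prime_three).1 (hp.dvd_of_dvd_pow h))
  have hp4 : ¬ p ∣ 4 := fun h => hp2 ((Nat.prime_dvd_prime_iff_eq hp Nat.prime_two).1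
    (hp.dvd_of_dvd_pow (show p ∣ 2 ^ 2 from h)))
  obtain ⟨i, hi⟩ := hpd
  have hi0 : 0 < i := Nat.pos_of_ne_zero fun e => (orderOf_pos g).ne' (by rw [hi, e, mul_zero])
  set y := g ^ i with hy
  have hyo : orderOf y = p ^ 1 := by
    rw [pow_one, orderOf_pow, hi, Nat.gcd_eq_right (dvd_mul_left i p), Nat.mul_div_cancel _ hi0]
  haveI := Fact.mk hp
  rcases hp.dvd_mul.1 hpG with h | h
  swap
  · exact absurd h hpc
  rcases hp.dvd_mul.1 h with h | h
  · -- split torus
    have hpq1 : p ∣ q - 1 := (hp.dvd_mul.1 h).resolve_left fun e => hpq (hp.dvd_of_dvd_pow e)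
    have hidx : ¬ p ∣ D.H.index := by
      have hk : Nat.card D.H * (q ^ 3 * (q ^ 3 + 1)) = Nat.card G := by rw [D.card_H, D.card_eq]; ring
      refine D.two_not_dvd_index hp hk fun e => ?_
      rcases hp.dvd_mul.1 e with e | e
      · exact hpq (hp.dvd_of_dvd_pow e)
      · rw [D.cube_add_one] at e
        rcases hp.dvd_mul.1 e with e | e
        · exact D.not_dvd_both hp ((hp.dvd_mul.1 e).resolve_left hp4) hpq1
        · exact hpc e
    obtain ⟨k, hk⟩ := conj_into (p := p) D.H hidx hyo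
    left
    have hk2 : k * y * k⁻¹ * (k * y * k⁻¹) ≠ 1 := fun e => by
      have h' := orderOf_dvd_of_pow_eq_one ((pow_two _).trans e)
      rw [orderOf_conj, hyo, pow_one] at h'
      exact hp2 ((Nat.prime_dvd_prime_iff_eq hp Nat.prime_two).1 h')
    have hgH : k * g * k⁻¹ ∈ D.H := by
      rw [← D.centralizer_torus hk hk2, mem_centralizer_singleton_iff]
      exact (commute_conj k ((Commute.refl g).pow_right i)).eq
    refine ⟨hn2, ?_, k, hgH⟩
    rw [← orderOf_conj k, ← D.card_H, ← Subgroup.orderOf_mk _ hgH]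
    exact orderOf_dvd_natCard _
  · have hpa : p ∣ a := (hp.dvd_mul.1 h).resolve_left hp4
    have hidx : ¬ p ∣ O.index := by
      have hk : Nat.card O * (q ^ 3 * (q - 1) * 4 * (q ^ 2 - q + 1)) = Nat.card G := by
        rw [Q.card_O, D.card_eq']; ring
      refine D.two_not_dvd_index hp hk fun e => ?_
      rcases hp.dvd_mul.1 e with e | e
      · rcases hp.dvd_mul.1 e with e | e
        · rcases hp.dvd_mul.1 e with e | e
          · exact hpq (hp.dvd_of_dvd_pow e)
          · exact D.not_dvd_both hp hpa e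
        · exact hp4 e
      · exact hpc e
    obtain ⟨k, hk⟩ := conj_into (p := p) O hidx hyo
    right; left
    have hk1 : k * y * k⁻¹ ≠ 1 := fun e => by
      have h' := orderOf_conj k y
      rw [e, orderOf_one, hyo, pow_one] at h'
      exact hp.one_lt.ne h'
    have hgW : k * g * k⁻¹ ∈ Wgrp u v O := by
      rw [← Q.centralizer_eq D hk hk1, mem_centralizer_singleton_iff]
      exact (commute_conj k ((Commute.refl g).pow_right i)).eq
    refine ⟨hn2, ?_, k, hgW⟩
    rw [← orderOf_conj k]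
    exact orderOf_dvd_of_pow_eq_one (D.W_pow Q hgW)

end ToriData

end CfsgLib.SmallRee
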