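import Cfsg.Agent.Lib.SmallRee.ToriClass

/-!
The numbers of elements of each order of a small Ree group outside the two large tori.
-/

set_option autoImplicit false

namespace CfsgLib.SmallRee

open Subgroup

namespace ToriData

variable {G : Type*} [Group G] [Finite G] {q a r : ℕ} (D : ToriData G q a r)
include D

theorem card_order_two : Nat.card {g : G // orderOf g = 2} = q ^ 2 * (q ^ 2 - q + 1) := by
  have h : Nat.card {g : G // orderOf g = 2} = Nat.card {y : G // ∃ n ∈ (⊤ : Subgroup G), n * D.t * n⁻¹ = y} := by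
    refine Nat.card_congr (Equiv.subtypeEquivRight fun g => ⟨fun hg => ?_, ?_⟩)
    · obtain ⟨k, hk⟩ := D.isConj_invol (u := g) (by rw [← pow_two, ← hg]; exact pow_orderOf_eq_one g)
        (fun e => by rw [e, orderOf_one] at hg; omega)
      exact ⟨k, mem_top k, hk⟩
    · rintro ⟨k, -, rfl⟩
      rw [orderOf_conj]; exact orderOf_eq_two D.t_sq D.t_ne
  rw [h, card_conj_set, relIndex_top_right]
  refine index_eq_of_card D.card_cent ?_
  rw [D.card_eq, D.cube_add_one, D.q_sq_sub]; ring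

theorem three_conj {x : G} (h : orderOf x = 3 ∨ orderOf x = 9) : ∃ k : G, k * x * k⁻¹ ∈ (D.U : Set G) := by
  rcases h with h | h
  · exact D.conj_into_U (k := 1) (by rw [h]; rfl)
  · exact D.conj_into_U (k := 2) (by rw [h]; rfl)

theorem card_order_U {i : ℕ} (hi : i = 3 ∨ i = 9) :
    Nat.card {g : G // orderOf g = i} = (q ^ 3 + 1) * Nat.card {x : G // x ∈ D.U ∧ orderOf x = i} := by
  rw [← D.index_NU]
  refine card_of_ti (normalizer (D.U : Set G)) (D.U : Set G) (fun g => orderOf g = i)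
    (fun k x h => by rw [orderOf_conj]; exact h) (fun k hk x hx _ => (mem_normalizer_iff.1 hk x).1 hx)
    (fun x hx h k hk => D.U_ti x hx (fun e => by rw [e, orderOf_one] at h; omega) k hk) (fun x h => ?_)
  exact D.three_conj (by rcases hi with rfl | rfl; exacts [Or.inl h, Or.inr h])

theorem card_order_three : Nat.card {g : G // orderOf g = 3} = (q ^ 2 - 1) * (q ^ 3 + 1) := by
  rw [D.card_order_U (Or.inl rfl), D.card_U_three, mul_comm]

theorem card_order_nine : Nat.card {g : G // orderOf g = 9} = (q ^ 3 + 1) * (q ^ 3 - q ^ 2) := by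
  rw [D.card_order_U (Or.inr rfl)]
  congr 1
  have h : {x : G | x ∈ D.U ∧ orderOf x = 9} = (D.U : Set G) \ insert 1 {x : G | x ∈ D.U ∧ orderOf x = 3} := by
    ext x
    constructor
    · rintro ⟨hx, h9⟩
      refine ⟨hx, ?_⟩
      rintro (e | ⟨-, e⟩)
      · rw [e, orderOf_one] at h9; omega
      · omega
    · rintro ⟨hx, hn⟩
      simp only [Set.mem_insert_iff, Set.mem_setOf_eq, not_or, not_and] at hn
      refine ⟨hx, ?_⟩
      have hd : orderOf x ∣ 3 ^ 2 := orderOf_dvd_of_pow_eq_one (D.U_pow _ hx)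
      obtain ⟨i, hi, e⟩ := (Nat.dvd_prime_pow Nat.prime_three).1 hd
      interval_cases i
      · exact absurd (orderOf_eq_one_iff.1 e) hn.1
      · exact absurd (e.trans (pow_one 3)) (hn.2 hx)
      · exact e
  rw [show Nat.card {x : G // x ∈ D.U ∧ orderOf x = 9} = ({x : G | x ∈ D.U ∧ orderOf x = 9}).ncard from rfl, h,
    Set.ncard_sdiff (by
      rintro x (rfl | h)
      · exact one_mem D.U
      · exact h.1) (Set.toFinite _),
    Set.ncard_insert_of_notMem (by simp) (Set.toFinite _),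
    show ({x : G | x ∈ D.U ∧ orderOf x = 3}).ncard = q ^ 2 - 1 from D.card_U_three,
    show (D.U : Set G).ncard = q ^ 3 from (Nat.card_coe_set_eq _).symm.trans D.card_U]
  have : 1 ≤ q ^ 2 := Nat.one_le_pow _ _ (by have := D.hq; omega)
  omega

theorem card_order_six : Nat.card {g : G // orderOf g = 6} = (q ^ 3 + 1) * (q ^ 3 - q ^ 2) := by
  have hti := card_of_ti (normalizer (D.U : Set G)) (normalizer (D.U : Set G) : Set G)
    (fun g => orderOf g = 6) (fun k x h => by rw [orderOf_conj]; exact h)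
    (fun k hk x hx _ => mul_mem (mul_mem hk hx) (inv_mem hk)) ?_ ?_
  · rw [hti, D.index_NU]
    congr 1
    let ψ : G → G := fun u => u * D.t
    have htU : D.t ∉ D.U := fun htU => by
      have h9 := D.U_pow _ htU
      rw [show 9 = 2 * 4 + 1 from rfl, pow_succ, pow_mul, pow_two, D.t_sq, one_pow, one_mul] at h9
      exact D.t_ne h9
    have h : {x : G | x ∈ (normalizer (D.U : Set G) : Set G) ∧ orderOf x = 6} =
        ψ '' (D.U : Set G) \ {y : G | ∃ n ∈ D.U, n * D.t * n⁻¹ = y} := by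
      ext x
      constructor
      · rintro ⟨hx, h6⟩
        rcases D.NU_cases hx with ⟨h, hh, -, l, hl⟩ | hU | ⟨⟨u, hu, rfl⟩, -⟩
        · exfalso
          have hd : 6 ∣ q - 1 := by
            rw [← h6, ← orderOf_conj l, hl, ← D.card_H, ← Subgroup.orderOf_mk h hh]
            exact orderOf_dvd_natCard _
          exact D.three_not_dvd_q_sub ((show 3 ∣ 6 by norm_num).trans hd)
        · exfalso
          have := orderOf_dvd_of_pow_eq_one (D.U_pow _ hU)
          rw [h6] at this
          omega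
        · refine ⟨⟨u, hu, rfl⟩, ?_⟩
          rintro ⟨n, -, e⟩
          rw [← e, orderOf_conj, orderOf_eq_two D.t_sq D.t_ne] at h6
          omega
      · rintro ⟨⟨u, hu, rfl⟩, hn⟩
        have hN : u * D.t ∈ normalizer (D.U : Set G) := mul_mem (le_normalizer hu) (D.H_le_NU D.t_mem_H)
        refine ⟨hN, ?_⟩
        rcases D.NU_cases hN with ⟨h, hh, h2, l, hl⟩ | hU | ⟨-, e | e⟩
        · exfalso
          -- the square lies in `U`
          have hx2 : (u * D.t) ^ 2 ∈ D.U := by
            have h' := (mem_normalizer_iff.1 (D.H_le_NU D.t_mem_H) u).1 hu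
            rw [inv_eq_of_mul_eq_one_right D.t_sq] at h'
            rw [show (u * D.t) ^ 2 = u * (D.t * u * D.t) by rw [pow_two]; group]
            exact mul_mem hu h'
          have h18 : orderOf h ∣ 2 * 9 := by
            rw [← hl, orderOf_conj]
            exact orderOf_dvd_of_pow_eq_one (by rw [pow_mul]; exact D.U_pow _ hx2)
          have hq : orderOf h ∣ q - 1 := by
            rw [← D.card_H, ← Subgroup.orderOf_mk h hh]; exact orderOf_dvd_natCard _
          have hc : Nat.Coprime (orderOf h) 9 := Nat.Coprime.coprime_dvd_left hq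
            ((Nat.prime_three.coprime_iff_not_dvd.2 D.three_not_dvd_q_sub).symm.pow_right 2)
          exact h2 (by rw [← pow_two]; exact orderOf_dvd_iff_pow_eq_one.1 (hc.dvd_of_dvd_mul_right h18))
        · exact absurd (by simpa [ψ] using mul_mem (inv_mem hu) hU) htU
        · refine absurd ⟨u ^ 5, pow_mem hu 5, ?_⟩ hn
          have hinv : u * D.t * (u * D.t) = 1 := by rw [← pow_two, ← e]; exact pow_orderOf_eq_one _
          have htut : D.t * u * D.t = u⁻¹ := eq_inv_of_mul_eq_one_right (by rw [← hinv]; group)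
          have hpow : ∀ j : ℕ, D.t * u ^ j * D.t = (u⁻¹) ^ j := by
            intro j
            rw [← htut]
            have := conj_pow (a := D.t) (b := u) (i := j)
            rw [inv_eq_of_mul_eq_one_right D.t_sq] at this
            exact this.symm
          show u ^ 5 * D.t * (u ^ 5)⁻¹ = u * D.t
          have h5 : D.t * (u ^ 5)⁻¹ = u ^ 5 * D.t := by
            rw [← inv_pow, ← hpow, ← mul_assoc, ← mul_assoc, D.t_sq, one_mul]
          rw [mul_assoc, h5, ← mul_assoc, ← pow_add, show (5 + 5 : ℕ) = 9 + 1 from rfl, pow_succ,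
            D.U_pow u hu, one_mul]
        · exact e
    rw [show Nat.card {x : G // x ∈ (normalizer (D.U : Set G) : Set G) ∧ orderOf x = 6} =
      ({x : G | x ∈ (normalizer (D.U : Set G) : Set G) ∧ orderOf x = 6}).ncard from rfl, h,
      Set.ncard_sdiff (by
        rintro y ⟨n, hn, rfl⟩
        refine ⟨n * (D.t * n⁻¹ * D.t⁻¹), mul_mem hn
          ((mem_normalizer_iff.1 (D.H_le_NU D.t_mem_H) _).1 (inv_mem hn)), ?_⟩
        show n * (D.t * n⁻¹ * D.t⁻¹) * D.t = n * D.t * n⁻¹
        group) (Set.toFinite _),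
      Set.ncard_image_of_injective _ (mul_left_injective D.t),
      show (D.U : Set G).ncard = q ^ 3 from (Nat.card_coe_set_eq _).symm.trans D.card_U,
      show ({y : G | ∃ n ∈ D.U, n * D.t * n⁻¹ = y}).ncard = q ^ 2 from ?_]
    have hc := card_conj_set D.U D.t
    refine hc.trans ?_
    have hm := card_mul_index ((centralizer ({D.t} : Set G) ⊓ D.U).subgroupOf D.U)
    rw [Nat.card_congr (subgroupOfEquivOfLe (inf_le_right : centralizer ({D.t} : Set G) ⊓ D.U ≤ D.U)).toEquiv,
      show ((centralizer ({D.t} : Set G) ⊓ D.U).subgroupOf D.U).index =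
        (centralizer ({D.t} : Set G) ⊓ D.U).relIndex D.U from rfl,
      inf_relIndex_right, inf_comm, D.card_U_cent, D.card_U] at hm
    exact Nat.eq_of_mul_eq_mul_left (show 0 < q by have := D.hq; omega) (hm.trans (by ring))
  · intro x hx h6 k hk
    have hy : orderOf (x ^ 2) = 3 ^ 1 := by rw [orderOf_pow, h6]; rfl
    have hxU := D.mem_U_of_mem_NU (pow_mem hx 2) hy
    refine D.U_ti (x ^ 2) hxU (fun e => by rw [e, orderOf_one] at hy; norm_num at hy) k ?_
    refine D.mem_U_of_mem_NU (k := 1) ?_ (by rw [orderOf_conj, hy])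
    rw [← conj_pow]; exact pow_mem hk 2
  · intro x h6
    have hy : orderOf (x ^ 2) = 3 ^ 1 := by rw [orderOf_pow, h6]; rfl
    obtain ⟨k, hk⟩ := D.conj_into_U hy
    have hk1 : k * x ^ 2 * k⁻¹ ≠ 1 := fun e => by
      have h := orderOf_conj k (x ^ 2)
      rw [e, orderOf_one, hy] at h
      norm_num at h
    refine ⟨k, D.U_ti _ hk hk1 _ ?_⟩
    rw [(commute_conj k ((Commute.refl x).pow_right 2)).eq, mul_inv_cancel_right]
    exact hk

/-- Counting elements with orders dividing `q - 1`. -/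
theorem card_H_type (P : ℕ → Prop) (hP : ∀ n, P n → 2 < n ∧ n ∣ q - 1)
    {u v : G} {O : Subgroup G} (Q : Quad a u v O) :
    2 * Nat.card {g : G // P (orderOf g)} = q ^ 3 * (q ^ 3 + 1) * Nat.card {x : G // x ∈ D.H ∧ P (orderOf x)} := by
  rw [← D.index_NH, mul_comm _ 2, mul_assoc]
  congr 1
  refine card_of_ti (normalizer (D.H : Set G)) (D.H : Set G) (fun g => P (orderOf g))
    (fun k x h => by rw [orderOf_conj]; exact h) (fun k hk x hx _ => (mem_normalizer_iff.1 hk x).1 hx)
    (fun x hx h k hk => ?_) (fun x h => ?_)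
  · refine D.H_ti x hx (fun e => ?_) k hk
    have := Nat.le_of_dvd Nat.two_pos (orderOf_dvd_of_pow_eq_one ((pow_two x).trans e))
    have := (hP _ h).1
    omega
  · obtain ⟨h2, hd⟩ := hP _ h
    rcases D.order_cases Q (g := x) (fun e => by rw [e, orderOf_one] at h2; omega) with
      e | e | ⟨-, -, hk⟩ | ⟨-, e, -⟩ | e
    · omega
    · exact absurd (e.trans hd) D.three_not_dvd_q_sub
    · exact hk
    · exact (D.two_part_exclusive h2 hd e).elim
    · exfalso
      obtain ⟨p, hp, hpd⟩ := Nat.exists_prime_and_dvd (show orderOf x ≠ 1 by omega)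
      exact hp.one_lt.ne' (Nat.eq_one_of_dvd_coprimes D.coprime_q_sub_c (hpd.trans hd) (e p hp hpd))

theorem card_H_order {i : ℕ} (hi : i ∣ q - 1) : Nat.card {x : G // x ∈ D.H ∧ orderOf x = i} = Nat.totient i := by
  classical
  haveI := D.H_cyclic
  haveI := Fintype.ofFinite D.H
  rw [← IsCyclic.card_orderOf_eq_totient (α := D.H) (by rwa [← Nat.card_eq_fintype_card, D.card_H]),
    ← Fintype.card_subtype, ← Nat.card_eq_fintype_card]
  exact Nat.card_congr ⟨fun x => ⟨⟨x.1, x.2.1⟩, by rw [Subgroup.orderOf_mk]; exact x.2.2⟩,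
    fun x => ⟨x.1.1, x.1.2, by rw [Subgroup.orderOf_coe]; exact x.2⟩, fun _ => rfl, fun _ => rfl⟩

theorem card_H_big : Nat.card {x : G // x ∈ D.H ∧ 2 < orderOf x ∧ orderOf x ∣ q - 1} = q - 3 := by
  have h : {x : G | x ∈ D.H ∧ 2 < orderOf x ∧ orderOf x ∣ q - 1} = (D.H : Set G) \ {1, D.t} := by
    ext x
    constructor
    · rintro ⟨hx, h2, -⟩
      refine ⟨hx, ?_⟩
      rintro (rfl | rfl)
      · rw [orderOf_one] at h2; omega
      · rw [orderOf_eq_two D.t_sq D.t_ne] at h2; omega
    · rintro ⟨hx, hn⟩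
      refine ⟨hx, ?_, ?_⟩
      · by_contra hle
        have hpos := orderOf_pos x
        rcases (show orderOf x = 1 ∨ orderOf x = 2 by omega) with e | e
        · exact hn (Or.inl (orderOf_eq_one_iff.1 e))
        · exact hn ((D.H_two hx (by rw [← pow_two, ← e]; exact pow_orderOf_eq_one x)).imp id id)
      · rw [← D.card_H, ← Subgroup.orderOf_mk x hx]; exact orderOf_dvd_natCard _
  rw [show Nat.card {x : G // x ∈ D.H ∧ 2 < orderOf x ∧ orderOf x ∣ q - 1} =
      ({x : G | x ∈ D.H ∧ 2 < orderOf x ∧ orderOf x ∣ q - 1}).ncard from rfl, h,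
    Set.ncard_sdiff (by rintro x (rfl | rfl); exacts [one_mem D.H, D.t_mem_H]) (Set.toFinite _),
    Set.ncard_pair (fun e => D.t_ne e.symm), show (D.H : Set G).ncard = q - 1 from (Nat.card_coe_set_eq _).symm.trans D.card_H]
  omega

variable {u v : G} {O : Subgroup G} (Q : Quad a u v O)
include Q

theorem index_NV : (normalizer (triple u v)).index * 6 = q ^ 3 * (q - 1) * (q ^ 2 - q + 1) := by
  have h := card_mul_index (normalizer (triple u v))
  rw [Q.card_normalizer D, D.card_eq'] at h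
  refine Nat.eq_of_mul_eq_mul_left (show 0 < 4 * a by have := D.a_pos; omega) ?_
  rw [show 4 * a * ((normalizer (triple u v)).index * 6) = 24 * a * (normalizer (triple u v)).index by ring, h]
  ring

theorem normalizer_W {k x : G} (hk : k ∈ normalizer (triple u v)) (hx : x ∈ Wgrp u v O) :
    k * x * k⁻¹ ∈ Wgrp u v O := by
  obtain ⟨y, hy, z, hz, rfl⟩ := (Q.W_structure D).2 x hx
  rw [show k * (y * z) * k⁻¹ = (k * y * k⁻¹) * (k * z * k⁻¹) by group]
  refine mul_mem ?_ (Q.O_le_W ((mem_normalizer_iff.1 (Q.normalizer_le D hk) z).1 hz))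
  rcases hy with rfl | hy
  · rw [mul_one, mul_inv_cancel]; exact one_mem _
  · exact (Q.four_mem (Or.inr ((mem_set_normalizer_iff.1 hk y).1 hy))).1

/-- Counting elements with orders dividing `(q + 1) / 2`. -/
theorem card_W_type (P : ℕ → Prop) (hP : ∀ n, P n → 2 < n ∧ n ∣ 2 * a) :
    6 * Nat.card {g : G // P (orderOf g)} =
      q ^ 3 * (q - 1) * (q ^ 2 - q + 1) * Nat.card {x : G // x ∈ Wgrp u v O ∧ P (orderOf x)} := by
  rw [← D.index_NV Q, mul_comm _ 6, mul_assoc]
  congr 1
  refine card_of_ti (normalizer (triple u v)) (Wgrp u v O : Set G) (fun g => P (orderOf g))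
    (fun k x h => by rw [orderOf_conj]; exact h) (fun k hk x hx _ => D.normalizer_W Q hk hx)
    (fun x hx h k hk => ?_) (fun x h => ?_)
  · obtain ⟨y, hy, z, hz, rfl⟩ := (Q.W_structure D).2 x hx
    have hyz : Commute y z := Q.W_comm D y (Q.four_mem hy).1 z (Q.O_le_W hz)
    have hz2 : z * z ≠ 1 := fun e => by
      have h2 : (y * z) * (y * z) = 1 := by rw [hyz.symm.mul_mul_mul_comm, (Q.four_mem hy).2, e, one_mul]
      have := Nat.le_of_dvd Nat.two_pos (orderOf_dvd_of_pow_eq_one ((pow_two _).trans h2))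
      have := (hP _ h).1
      omega
    refine Q.mem_normalizer_of_conj D (mul_mem hz hz) hz2 ?_
    have hsq : z * z = (y * z) * (y * z) := by
      rw [hyz.symm.mul_mul_mul_comm, (Q.four_mem hy).2, one_mul]
    rw [hsq]
    obtain ⟨y', hy', z', hz', e⟩ := (Q.W_structure D).2 _ hk
    rw [show k * (y * z * (y * z)) * k⁻¹ = (k * (y * z) * k⁻¹) * (k * (y * z) * k⁻¹) by group, e,
      (Q.W_comm D z' (Q.O_le_W hz') y' (Q.four_mem hy').1).mul_mul_mul_comm, (Q.four_mem hy').2, one_mul]
    exact mul_mem hz' hz'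
  · obtain ⟨h2, hd⟩ := hP _ h
    rcases D.order_cases Q (g := x) (fun e => by rw [e, orderOf_one] at h2; omega) with
      e | e | ⟨-, e, -⟩ | ⟨-, -, hk⟩ | e
    · omega
    · exfalso
      have h3 : 3 ∣ 2 * a := e.trans hd
      exact D.three_not_dvd_a ((Nat.prime_three.dvd_mul.1 h3).resolve_left (by norm_num))
    · exact (D.two_part_exclusive h2 e hd).elim
    · exact hk
    · exfalso
      obtain ⟨p, hp, hpd⟩ := Nat.exists_prime_and_dvd (show orderOf x ≠ 1 by omega)
      have h2a : 2 * a ∣ q ^ 2 - 1 := by rw [D.q_sq_sub]; exact ⟨2 * (q - 1), by ring⟩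
      exact hp.one_lt.ne' (Nat.eq_one_of_dvd_coprimes (D.coprime_c h2a) (hpd.trans hd) (e p hp hpd))

theorem orderOf_mul_W {y z : G} (hy : y = u ∨ y = v ∨ y = u * v) (hz : z ∈ O) :
    orderOf (y * z) = 2 * orderOf z := by
  obtain ⟨h2, h1⟩ := Q.triple_spec (x := y) hy
  rw [Commute.orderOf_mul_eq_mul_orderOf_of_coprime (Q.W_comm D y (Q.four_mem (Or.inr hy)).1 z (Q.O_le_W hz))
    (by rw [orderOf_eq_two h2 h1]; exact Nat.coprime_two_left.2 (Q.odd_of_mem D hz)), orderOf_eq_two h2 h1]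

theorem card_O_order {i : ℕ} (hi : i ∣ a) : Nat.card {x : G // x ∈ O ∧ orderOf x = i} = Nat.totient i := by
  classical
  haveI := Q.cyclic
  haveI := Fintype.ofFinite O
  rw [← IsCyclic.card_orderOf_eq_totient (α := O) (by rwa [← Nat.card_eq_fintype_card, Q.card_O]),
    ← Fintype.card_subtype, ← Nat.card_eq_fintype_card]
  exact Nat.card_congr ⟨fun x => ⟨⟨x.1, x.2.1⟩, by rw [Subgroup.orderOf_mk]; exact x.2.2⟩,
    fun x => ⟨x.1.1, x.1.2, by rw [Subgroup.orderOf_coe]; exact x.2⟩, fun _ => rfl, fun _ => rfl⟩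

theorem card_W_order {i : ℕ} (hi : i ∣ a) :
    Nat.card {x : G // x ∈ Wgrp u v O ∧ orderOf x = i} = Nat.totient i ∧
      Nat.card {x : G // x ∈ Wgrp u v O ∧ orderOf x = 2 * i} = 3 * Nat.totient i := by
  have hiodd : Odd i := Odd.of_dvd_nat D.ha hi
  constructor
  · rw [← D.card_O_order Q hi]
    refine Nat.card_congr (Equiv.subtypeEquivRight fun x => ⟨?_, fun h => ⟨Q.O_le_W h.1, h.2⟩⟩)
    rintro ⟨hx, ho⟩
    obtain ⟨y, hy, z, hz, rfl⟩ := (Q.W_structure D).2 x hx
    rcases hy with rfl | hy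
    · rw [one_mul] at ho ⊢; exact ⟨hz, ho⟩
    · rw [D.orderOf_mul_W Q hy hz] at ho
      rw [← ho] at hiodd
      exact absurd hiodd (Nat.not_odd_iff_even.2 (even_two_mul _))
  · have h3 : (triple u v).ncard = 3 := Set.ncard_eq_three.2
      ⟨u, v, u * v, Q.v_ne_u.symm, Q.uv_ne_u.symm, Q.uv_ne_v.symm, rfl⟩
    rw [← h3, ← Nat.card_coe_set_eq, ← D.card_O_order Q hi, ← Nat.card_prod]
    symm
    refine Nat.card_eq_of_bijective (fun p => (⟨(p.1 : G) * (p.2 : G),
      mul_mem (Q.four_mem (Or.inr p.1.2)).1 (Q.O_le_W p.2.2.1),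
      by rw [D.orderOf_mul_W Q p.1.2 p.2.2.1, p.2.2.2]⟩ : {x : G // x ∈ Wgrp u v O ∧ orderOf x = 2 * i})) ⟨?_, ?_⟩
    · rintro ⟨⟨y, hy⟩, ⟨z, hz, hzo⟩⟩ ⟨⟨y', hy'⟩, ⟨z', hz', hzo'⟩⟩ e
      have e' : y * z = y' * z' := congrArg Subtype.val e
      have hmem : y'⁻¹ * y ∈ O := by
        rw [show y'⁻¹ * y = z' * z⁻¹ by rw [eq_mul_inv_iff_mul_eq, mul_assoc, e', inv_mul_cancel_left]]
        exact mul_mem hz' (inv_mem hz)
      have hsq : y'⁻¹ * y * (y'⁻¹ * y) = 1 := by
        rw [inv_eq_of_mul_eq_one_right (Q.four_mem (Or.inr hy')).2,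
          (Q.W_comm D y (Q.four_mem (Or.inr hy)).1 y' (Q.four_mem (Or.inr hy')).1).mul_mul_mul_comm,
          (Q.four_mem (Or.inr hy')).2, (Q.four_mem (Or.inr hy)).2, one_mul]
      have h1 : y'⁻¹ * y = 1 := by
        by_contra hne
        have h := Q.odd_of_mem D hmem
        rw [orderOf_eq_two hsq hne] at h
        exact absurd h (by decide)
      obtain rfl : y' = y := inv_mul_eq_one.1 h1
      obtain rfl : z = z' := mul_left_cancel e'
      rfl
    · rintro ⟨x, hx, ho⟩
      obtain ⟨y, hy, z, hz, rfl⟩ := (Q.W_structure D).2 x hx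
      rcases hy with rfl | hy
      · exfalso
        rw [one_mul] at ho
        have h := Q.odd_of_mem D hz
        rw [ho] at h
        exact absurd h (Nat.not_odd_iff_even.2 (even_two_mul _))
      · refine ⟨(⟨y, hy⟩, ⟨z, hz, ?_⟩), rfl⟩
        rw [D.orderOf_mul_W Q hy hz] at ho
        omega

theorem card_W_big :
    Nat.card {x : G // x ∈ Wgrp u v O ∧ 2 < orderOf x ∧ orderOf x ∣ 2 * a} = 4 * a - 4 := by
  have hsub : ({1, u, v, u * v} : Set G) ⊆ (Wgrp u v O : Set G) := fun x hx =>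
    (Q.four_mem (by simpa only [Set.mem_insert_iff, Set.mem_singleton_iff] using hx)).1
  have h : {x : G | x ∈ Wgrp u v O ∧ 2 < orderOf x ∧ orderOf x ∣ 2 * a} = (Wgrp u v O : Set G) \ {1, u, v, u * v} := by
    ext x
    constructor
    · rintro ⟨hx, h2, -⟩
      refine ⟨hx, fun hm => ?_⟩
      have hsq := (Q.four_mem (x := x) (by simpa only [Set.mem_insert_iff, Set.mem_singleton_iff] using hm)).2
      have := Nat.le_of_dvd Nat.two_pos (orderOf_dvd_of_pow_eq_one ((pow_two x).trans hsq))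
      omega
    · rintro ⟨hx, hn⟩
      refine ⟨hx, ?_, orderOf_dvd_of_pow_eq_one (D.W_pow Q hx)⟩
      obtain ⟨y, hy, z, hz, rfl⟩ := (Q.W_structure D).2 x hx
      by_contra hle
      have hpos := orderOf_pos (y * z)
      have hsq : (y * z) ^ 2 = 1 := by
        rcases (show orderOf (y * z) = 1 ∨ orderOf (y * z) = 2 by omega) with e | e
        · rw [orderOf_eq_one_iff.1 e, one_pow]
        · rw [← e]; exact pow_orderOf_eq_one _
      rw [(Q.W_comm D y (Q.four_mem hy).1 z (Q.O_le_W hz)).mul_pow, pow_two y, (Q.four_mem hy).2, one_mul, pow_two] at hsq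
      have hz1 : z = 1 := by
        by_contra hne
        have h := Q.odd_of_mem D hz
        rw [orderOf_eq_two hsq hne] at h
        exact absurd h (by decide)
      rw [hz1, mul_one] at hn
      exact hn (by simpa only [Set.mem_insert_iff, Set.mem_singleton_iff] using hy)
  rw [show Nat.card {x : G // x ∈ Wgrp u v O ∧ 2 < orderOf x ∧ orderOf x ∣ 2 * a} =
      ({x : G | x ∈ Wgrp u v O ∧ 2 < orderOf x ∧ orderOf x ∣ 2 * a}).ncard from rfl, h,
    Set.ncard_sdiff hsub (Set.toFinite _),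
    show (Wgrp u v O : Set G).ncard = 4 * a from (Nat.card_coe_set_eq _).symm.trans (Q.W_structure D).1,
    Set.ncard_insert_of_notMem (by simp [Q.u_ne.symm, Q.v_ne.symm, Q.uv_ne.symm]) (Set.toFinite _),
    Set.ncard_eq_three.2 ⟨u, v, u * v, Q.v_ne_u.symm, Q.uv_ne_u.symm, Q.uv_ne_v.symm, rfl⟩]

/-- The number of elements all whose prime divisors of the order divide `q ^ 2 - q + 1`. -/
theorem card_X : 3 * Nat.card {g : G // g ≠ 1 ∧ ∀ p : ℕ, p.Prime → p ∣ orderOf g → p ∣ q ^ 2 - q + 1} =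
    q ^ 3 * (q + 1) * (q - 1) * (q ^ 2 - 2 * q) := by
  classical
  haveI := Fintype.ofFinite G
  let PH : ℕ → Prop := fun n => 2 < n ∧ n ∣ q - 1
  let PW : ℕ → Prop := fun n => 2 < n ∧ n ∣ 2 * a
  let PX : G → Prop := fun g => g ≠ 1 ∧ ∀ p : ℕ, p.Prime → p ∣ orderOf g → p ∣ q ^ 2 - q + 1
  let ind : (Prop) → ℕ := fun P => if P then 1 else 0
  have hex : ∀ g : G, ind (g = 1) + ind (orderOf g = 2) + ind (orderOf g = 3) + ind (orderOf g = 6) +
      ind (orderOf g = 9) + ind (PH (orderOf g)) + ind (PW (orderOf g)) + ind (PX g) = 1 := by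
    intro g
    by_cases h1 : g = 1
    · subst h1
      simp [ind, PH, PW, PX]
    have hn1 : orderOf g ≠ 1 := fun e => h1 (orderOf_eq_one_iff.1 e)
    have hH3 : PH (orderOf g) → ¬ 3 ∣ orderOf g := fun h e => D.three_not_dvd_q_sub (e.trans h.2)
    have hW3 : PW (orderOf g) → ¬ 3 ∣ orderOf g := fun h e =>
      D.three_not_dvd_a ((Nat.prime_three.dvd_mul.1 (e.trans h.2)).resolve_left (by norm_num))
    have hHW : PH (orderOf g) → ¬ PW (orderOf g) := fun h h' => D.two_part_exclusive h.1 h.2 h'.2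
    have hXn : PX g → ¬ 2 ∣ orderOf g ∧ ¬ 3 ∣ orderOf g := fun h =>
      ⟨fun e => D.two_not_dvd_c (h.2 2 Nat.prime_two e), fun e => D.three_not_dvd_c (h.2 3 Nat.prime_three e)⟩
    have hXH : PX g → ¬ PH (orderOf g) := fun h h' => by
      obtain ⟨p, hp, hpd⟩ := Nat.exists_prime_and_dvd hn1
      exact hp.one_lt.ne' (Nat.eq_one_of_dvd_coprimes D.coprime_q_sub_c (hpd.trans h'.2) (h.2 p hp hpd))
    have hXW : PX g → ¬ PW (orderOf g) := fun h h' => by
      obtain ⟨p, hp, hpd⟩ := Nat.exists_prime_and_dvd hn1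
      have h2a : 2 * a ∣ q ^ 2 - 1 := by rw [D.q_sq_sub]; exact ⟨2 * (q - 1), by ring⟩
      exact hp.one_lt.ne' (Nat.eq_one_of_dvd_coprimes (D.coprime_c h2a) (hpd.trans h'.2) (h.2 p hp hpd))
    rcases D.order_cases Q h1 with e | e | ⟨e2, ed, -⟩ | ⟨e2, ed, -⟩ | e
    · have a1 : ¬ PH (orderOf g) := fun h => by have := h.1; omega
      have a2 : ¬ PW (orderOf g) := fun h => by have := h.1; omega
      have a3 : ¬ PX g := fun h => (hXn h).1 (by rw [e])
      simp [ind, h1, e, a1, a2, a3] at *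
      simp [a1, a2, a3]
    · have a1 : ¬ PH (orderOf g) := fun h => hH3 h e
      have a2 : ¬ PW (orderOf g) := fun h => hW3 h e
      have a3 : ¬ PX g := fun h => (hXn h).2 e
      rcases D.orderOf_eq_three_div e with o | o | o <;>
        (rw [o] at a1 a2 ⊢; simp [ind, h1, a1, a2, a3])
    · have a1 : PH (orderOf g) := ⟨e2, ed⟩
      have a2 := hHW a1
      have a3 : ¬ PX g := fun h => hXH h a1
      have := hH3 a1
      simp only [ind, if_neg h1, if_pos a1, if_neg a2, if_neg a3, if_neg (show orderOf g ≠ 2 by omega),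
        if_neg (show orderOf g ≠ 3 by omega), if_neg (show orderOf g ≠ 6 by omega),
        if_neg (show orderOf g ≠ 9 by omega)]
    · have a1 : PW (orderOf g) := ⟨e2, ed⟩
      have a2 : ¬ PH (orderOf g) := fun h => hHW h a1
      have a3 : ¬ PX g := fun h => hXW h a1
      have := hW3 a1
      simp only [ind, if_neg h1, if_pos a1, if_neg a2, if_neg a3, if_neg (show orderOf g ≠ 2 by omega),
        if_neg (show orderOf g ≠ 3 by omega), if_neg (show orderOf g ≠ 6 by omega),
        if_neg (show orderOf g ≠ 9 by omega)]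
    · have a1 : PX g := ⟨h1, e⟩
      obtain ⟨b2, b3⟩ := hXn a1
      simp only [ind, if_neg h1, if_pos a1, if_neg (hXH a1), if_neg (hXW a1), if_neg (show orderOf g ≠ 2 by omega),
        if_neg (show orderOf g ≠ 3 by omega), if_neg (show orderOf g ≠ 6 by omega),
        if_neg (show orderOf g ≠ 9 by omega)]
  have hcnt : ∀ P : G → Prop, ∑ g, ind (P g) = Nat.card {g : G // P g} := fun P => by
    rw [Nat.card_eq_fintype_card, Fintype.card_subtype, Finset.card_filter]
  have htot := Finset.sum_congr rfl (fun g (_ : g ∈ (Finset.univ : Finset G)) => hex g)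
  simp only [Finset.sum_add_distrib, Finset.sum_const, smul_eq_mul, mul_one, Finset.card_univ] at htot
  rw [hcnt (fun g => g = 1), hcnt (fun g => orderOf g = 2), hcnt (fun g => orderOf g = 3),
    hcnt (fun g => orderOf g = 6), hcnt (fun g => orderOf g = 9), hcnt (fun g => PH (orderOf g)),
    hcnt (fun g => PW (orderOf g)), hcnt PX, Nat.card_unique, D.card_order_two, D.card_order_three,
    D.card_order_six, D.card_order_nine, ← Nat.card_eq_fintype_card, D.card_eq] at htot
  have hH := D.card_H_type PH (fun n h => h) Q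
  have hW := D.card_W_type Q PW (fun n h => h)
  rw [show Nat.card {x : G // x ∈ D.H ∧ PH (orderOf x)} = q - 3 from D.card_H_big] at hH
  rw [show Nat.card {x : G // x ∈ Wgrp u v O ∧ PW (orderOf x)} = 4 * a - 4 from D.card_W_big Q] at hW
  -- arithmetic
  have hq := D.hq
  have ha := D.a_pos
  have h1 : 1 ≤ q ^ 2 := Nat.one_le_pow _ _ (by omega)
  have h2 : q ^ 2 ≤ q ^ 3 := Nat.pow_le_pow_right (by omega) (by norm_num)
  have h3 : q ≤ q ^ 2 := Nat.le_self_pow (by norm_num) q
  have h4 : 2 * q ≤ q ^ 2 := by rw [pow_two]; exact Nat.mul_le_mul_right q (by omega)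
  have h4a : (q : ℤ) + 1 = 4 * (a : ℤ) := by exact_mod_cast D.h4a
  show 3 * Nat.card {g : G // PX g} = _
  zify [h1, h2, h3, h4, show 1 ≤ q by omega, show 3 ≤ q by omega, show 4 ≤ 4 * a by omega] at htot hH hW ⊢
  rw [← h4a] at hW
  refine mul_left_cancel₀ (two_ne_zero (α := ℤ)) ?_
  linear_combination 6 * htot - 3 * hH - hW

end ToriData

end CfsgLib.SmallRee
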