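import Mathlib

/-!
The abstract data of a small Ree group used to derive its tori, and first numerical facts.
-/

set_option autoImplicit false

namespace CfsgLib.SmallRee

open Subgroup

/-- The facts about a small Ree group over the field with `q` elements, `q + 1 = 4 * a`, `r * r = 3 * q`,
from which its local structure is derived. -/
structure ToriData (G : Type*) [Group G] (q a r : ℕ) where
  hq : 27 ≤ q
  h4a : q + 1 = 4 * a
  ha : Odd a
  hr : r * r = 3 * q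
  h3 : ∃ k, q = 3 ^ k
  card_eq : Nat.card G = q ^ 3 * (q - 1) * (q ^ 3 + 1)
  perfect : commutator G = ⊤
  sylow_two : ∀ S : Sylow 2 G, Nat.card S = 8 ∧ ∀ x ∈ S, x * x = 1
  t : G
  t_sq : t * t = 1
  t_ne : t ≠ 1
  card_cent : Nat.card (centralizer ({t} : Set G)) = q * (q ^ 2 - 1)
  conj_or : ∀ u v : G, u * u = 1 → u ≠ 1 → u ≠ t → Commute t u → v * v = 1 → v ≠ 1 → v ≠ t →
    Commute t v → ∃ g : G, Commute t g ∧ (g * u * g⁻¹ = v ∨ g * u * g⁻¹ = t * v)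
  no_swap : ∀ v g : G, v * v = 1 → v ≠ 1 → v ≠ t → Commute t v → Commute t g → g * v * g⁻¹ ≠ t * v
  cent_pair : ∀ v : G, v * v = 1 → v ≠ 1 → v ≠ t → Commute t v →
    ∃ O : Subgroup G, IsCyclic O ∧ Nat.card O = a ∧
      Nat.card ↥(centralizer ({t} : Set G) ⊓ centralizer {v}) = 8 * a ∧
      (∀ z ∈ O, Commute t z ∧ Commute v z) ∧
      (∀ g : G, Commute t g → Commute v g → Odd (orderOf g) → g ∈ O) ∧
      (∀ w : G, Commute t w → Commute v w → w * w = 1 → w ≠ 1 → w ≠ t → w ≠ v → w ≠ t * v →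
        ∀ z ∈ O, Commute w z → z = 1) ∧
      (∀ z ∈ O, z ≠ 1 → ∀ g : G, Commute t g → Commute z g → Commute v g)
  H : Subgroup G
  H_cyclic : IsCyclic H
  card_H : Nat.card H = q - 1
  t_mem_H : t ∈ H
  H_ti : ∀ h ∈ H, h * h ≠ 1 → ∀ g : G, g * h * g⁻¹ ∈ H → g ∈ normalizer (H : Set G)
  card_NH : Nat.card (normalizer (H : Set G)) = 2 * (q - 1)
  U : Subgroup G
  U_sylow : ∃ P : Sylow 3 G, (P : Subgroup G) = U
  card_U : Nat.card U = q ^ 3
  U_pow : ∀ x ∈ U, x ^ 9 = 1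
  U_ti : ∀ x ∈ U, x ≠ 1 → ∀ g : G, g * x * g⁻¹ ∈ U → g ∈ normalizer (U : Set G)
  H_le_NU : H ≤ normalizer (U : Set G)
  NU_dec : ∀ g ∈ normalizer (U : Set G), ∃ u ∈ U, ∃ h ∈ H, u * h = g
  card_NU : Nat.card (normalizer (U : Set G)) = q ^ 3 * (q - 1)
  U_cent_H : ∀ h ∈ H, h * h ≠ 1 → ∀ u ∈ U, Commute h u → u = 1
  card_U_cent : Nat.card ↥(U ⊓ centralizer ({t} : Set G)) = q
  U_cent_cube : ∀ u ∈ U, Commute t u → u ^ 3 = 1
  card_U_three : Nat.card {x : G // x ∈ U ∧ orderOf x = 3} = q ^ 2 - 1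
  cyclic_sylow : ∀ p : ℕ, p.Prime → 3 < p → ∀ P : Sylow p G, IsCyclic P
  lin : ∀ x : G, (orderOf x).Prime → orderOf x ∣ q ^ 2 - q + 1 →
    (∀ g h : G, Commute x g → Commute x h → Commute g h) ∧
      Nat.card {y : G // Commute x y ∧ IsConj x y} ≤ 6

namespace ToriData

variable {G : Type*} [Group G] {q a r : ℕ} (D : ToriData G q a r)
include D

theorem q_odd : Odd q := by
  obtain ⟨k, rfl⟩ := D.h3
  exact Odd.pow (by decide)

theorem a_pos : 0 < a := by have := D.hq; have := D.h4a; omega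

theorem exists_k : ∃ k, q = 3 ^ k ∧ 3 ≤ k := by
  obtain ⟨k, rfl⟩ := D.h3
  refine ⟨k, rfl, ?_⟩
  by_contra h
  have := D.hq
  have : 3 ^ k ≤ 3 ^ 2 := Nat.pow_le_pow_right (by norm_num) (by omega)
  omega

theorem c_eq : (q ^ 2 - q + 1) + q = q ^ 2 + 1 := by
  have : q ≤ q ^ 2 := Nat.le_self_pow (by norm_num) q
  omega

theorem cube_add_one : q ^ 3 + 1 = 4 * a * (q ^ 2 - q + 1) := by
  rw [← D.h4a]
  have h := D.c_eq
  nlinarith [h]

theorem q_sq_sub : q ^ 2 - 1 = 4 * a * (q - 1) := by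
  rw [← D.h4a, ← Nat.sq_sub_sq q 1, one_pow]

theorem card_eq' : Nat.card G = q ^ 3 * (q - 1) * (4 * a) * (q ^ 2 - q + 1) := by
  rw [D.card_eq, D.cube_add_one]; ring

theorem finite : Finite G := by
  refine Nat.finite_of_card_ne_zero ?_
  rw [D.card_eq]
  have := D.hq
  exact Nat.mul_ne_zero (Nat.mul_ne_zero (pow_ne_zero _ (by omega)) (by omega)) (by omega)

theorem coprime_three {n : ℕ} (h : ¬ 3 ∣ n) : Nat.Coprime q n := by
  obtain ⟨k, rfl⟩ := D.h3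
  exact Nat.Coprime.pow_left k ((Nat.prime_three.coprime_iff_not_dvd).2 h)

theorem three_dvd_q : 3 ∣ q := by
  obtain ⟨k, rfl, hk⟩ := D.exists_k
  exact dvd_pow_self 3 (by omega)

theorem three_not_dvd_a : ¬ 3 ∣ a := by
  have := D.three_dvd_q; have := D.h4a; omega

theorem three_not_dvd_q_sub : ¬ 3 ∣ q - 1 := by
  have := D.three_dvd_q; have := D.hq; omega

theorem three_not_dvd_c : ¬ 3 ∣ q ^ 2 - q + 1 := by
  have h := D.c_eq
  have h3 := D.three_dvd_q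
  have : 3 ∣ q ^ 2 := dvd_pow h3 (by norm_num)
  omega

theorem two_not_dvd_c : ¬ 2 ∣ q ^ 2 - q + 1 := by
  have h := D.c_eq
  have h2 : q % 2 = 1 := Nat.odd_iff.1 D.q_odd
  have : q ^ 2 % 2 = 1 := by rw [Nat.pow_mod, h2]
  omega

theorem eq_two_of_dvd {p : ℕ} (hp : p.Prime) (h1 : p ∣ q - 1) (h2 : p ∣ q + 1) : p = 2 := by
  have h : p ∣ 2 := by
    have := Nat.dvd_sub h2 h1
    have hq := D.hq
    rwa [show q + 1 - (q - 1) = 2 by omega] at this
  exact (Nat.prime_dvd_prime_iff_eq hp Nat.prime_two).1 h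

theorem not_dvd_both {p : ℕ} (hp : p.Prime) (h1 : p ∣ a) (h2 : p ∣ q - 1) : False := by
  have := D.eq_two_of_dvd hp h2 (by rw [D.h4a]; exact dvd_mul_of_dvd_right h1 4)
  subst this
  exact absurd h1 (Nat.two_dvd_ne_zero.2 (Nat.odd_iff.1 D.ha))

theorem coprime_a_q_sub : Nat.Coprime a (q - 1) :=
  Nat.coprime_of_dvd fun _ hp h1 h2 => D.not_dvd_both hp h1 h2

theorem coprime_q_a : Nat.Coprime q a := D.coprime_three D.three_not_dvd_a

theorem coprime_q_q_sub : Nat.Coprime q (q - 1) := D.coprime_three D.three_not_dvd_q_sub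

theorem coprime_q_c : Nat.Coprime q (q ^ 2 - q + 1) := D.coprime_three D.three_not_dvd_c

theorem coprime_c {n : ℕ} (h : n ∣ q ^ 2 - 1) : Nat.Coprime n (q ^ 2 - q + 1) := by
  refine Nat.coprime_of_dvd fun p hp hn hc => ?_
  have hc' := hc
  have h1 : (p : ℤ) ∣ (q : ℤ) ^ 2 - 1 := by
    have := Int.natCast_dvd_natCast.2 (hn.trans h)
    rwa [Nat.cast_sub (Nat.one_le_pow _ _ (by have := D.hq; omega)), Nat.cast_pow, Nat.cast_one] at this
  have h2 : (p : ℤ) ∣ (q : ℤ) ^ 2 - q + 1 := by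
    have := Int.natCast_dvd_natCast.2 hc
    rwa [Nat.cast_add, Nat.cast_sub (Nat.le_self_pow (by norm_num) q), Nat.cast_pow, Nat.cast_one] at this
  -- `(q + 2)(q^2 - q + 1) - (q + 1)(q^2 - 1) = 3`
  have h3 : (p : ℤ) ∣ 3 := by
    have := dvd_sub (h2.mul_left ((q : ℤ) + 2)) (h1.mul_left ((q : ℤ) + 1))
    rwa [show ((q : ℤ) + 2) * ((q : ℤ) ^ 2 - q + 1) - ((q : ℤ) + 1) * ((q : ℤ) ^ 2 - 1) = 3 by ring] at this
  have h4 : p ∣ 3 := Int.natCast_dvd_natCast.1 h3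
  obtain rfl := (Nat.prime_dvd_prime_iff_eq hp Nat.prime_three).1 h4
  exact D.three_not_dvd_c hc'

theorem coprime_a_c : Nat.Coprime a (q ^ 2 - q + 1) :=
  D.coprime_c (by rw [D.q_sq_sub]; exact dvd_mul_of_dvd_left (dvd_mul_left a 4) _)

theorem coprime_q_sub_c : Nat.Coprime (q - 1) (q ^ 2 - q + 1) :=
  D.coprime_c (by rw [D.q_sq_sub]; exact dvd_mul_left _ _)

theorem seven_le_of_dvd_c {p : ℕ} (hp : p.Prime) (h : p ∣ q ^ 2 - q + 1) : 7 ≤ p := by
  by_contra hlt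
  have h2 := D.two_not_dvd_c
  have h3 := D.three_not_dvd_c
  have h5 : ¬ 5 ∣ q ^ 2 - q + 1 := by
    have he := D.c_eq
    have hq5 : q % 5 < 5 := Nat.mod_lt _ (by norm_num)
    have : (q ^ 2 + 1) % 5 = ((q % 5) ^ 2 + 1) % 5 := by simp [Nat.add_mod, Nat.pow_mod]
    generalize hb : q % 5 = b at hq5 this
    interval_cases b <;> norm_num at this <;> omega
  interval_cases p <;> first | exact absurd h (by assumption) | exact absurd hp (by decide)

end ToriData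

end CfsgLib.SmallRee
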