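import Cfsg.Agent.Lib.SmallRee.ToriData

/-!
Involutions, Sylow `2`-subgroups and four-groups in a group with the data of a small Ree group.
-/

set_option autoImplicit false

namespace CfsgLib.SmallRee

open Subgroup

section generic

variable {G : Type*} [Group G]

theorem commute_conj (k : G) {x y : G} (h : Commute x y) : Commute (k * x * k⁻¹) (k * y * k⁻¹) := by
  show k * x * k⁻¹ * (k * y * k⁻¹) = k * y * k⁻¹ * (k * x * k⁻¹)
  calc _ = k * (x * y) * k⁻¹ := by group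
    _ = k * (y * x) * k⁻¹ := by rw [h.eq]
    _ = _ := by group

theorem conj_sq (k : G) {x : G} (h : x * x = 1) : k * x * k⁻¹ * (k * x * k⁻¹) = 1 := by
  calc _ = k * (x * x) * k⁻¹ := by group
    _ = 1 := by rw [h, mul_one, mul_inv_cancel]

theorem conj_ne_one (k : G) {x : G} (h : x ≠ 1) : k * x * k⁻¹ ≠ 1 := fun e => h (conj_eq_one_iff.1 e)

theorem orderOf_conj (k x : G) : orderOf (k * x * k⁻¹) = orderOf x :=
  orderOf_injective (MulAut.conj k).toMonoidHom (MulAut.conj k).injective x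

theorem orderOf_eq_two {x : G} (h : x * x = 1) (h1 : x ≠ 1) : orderOf x = 2 :=
  orderOf_eq_prime (hp := ⟨Nat.prime_two⟩) (by rw [pow_two]; exact h) h1

/-- The set of `N`-conjugates of `x` has the size of the relative index of the stabiliser. -/
theorem card_conj_set (N : Subgroup G) (x : G) :
    Nat.card {y : G // ∃ n ∈ N, n * x * n⁻¹ = y} = (centralizer ({x} : Set G)).relIndex N := by
  rw [relIndex, index_eq_card]
  symm
  refine Nat.card_eq_of_bijective (fun c => Quotient.liftOn' c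
    (fun n : N => (⟨(n : G) * x * (n : G)⁻¹, n, n.2, rfl⟩ : {y : G // ∃ n ∈ N, n * x * n⁻¹ = y})) ?_)
    ⟨?_, ?_⟩
  · intro n n' h
    rw [QuotientGroup.leftRel_apply, mem_subgroupOf, mem_centralizer_singleton_iff] at h
    apply Subtype.ext
    show (n : G) * x * (n : G)⁻¹ = (n' : G) * x * (n' : G)⁻¹
    push_cast at h
    calc (n : G) * x * (n : G)⁻¹
        = (n : G) * (x * ((n : G)⁻¹ * n')) * (n' : G)⁻¹ := by group
      _ = (n : G) * (((n : G)⁻¹ * n') * x) * (n' : G)⁻¹ := by rw [h]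
      _ = _ := by group
  · intro c c'
    obtain ⟨n, rfl⟩ := QuotientGroup.mk_surjective c
    obtain ⟨n', rfl⟩ := QuotientGroup.mk_surjective c'
    intro h
    have h' : (n : G) * x * (n : G)⁻¹ = (n' : G) * x * (n' : G)⁻¹ := congrArg Subtype.val h
    rw [QuotientGroup.eq, mem_subgroupOf, mem_centralizer_singleton_iff]
    push_cast
    calc (n : G)⁻¹ * n' * x = (n : G)⁻¹ * ((n' : G) * x * (n' : G)⁻¹) * n' := by group
      _ = (n : G)⁻¹ * ((n : G) * x * (n : G)⁻¹) * n' := by rw [h']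
      _ = _ := by group
  · rintro ⟨_, n, hn, rfl⟩
    exact ⟨QuotientGroup.mk (⟨n, hn⟩ : N), rfl⟩

/-- Elements of an abelian Sylow subgroup conjugate under `C(t)` are conjugate under `C(t) ∩ N(S)`. -/
theorem exists_normalizer_conj_pair [Finite G] {p : ℕ} [Fact p.Prime] (S : Sylow p G)
    (hS : ∀ x ∈ S, ∀ y ∈ S, Commute x y) {t u g : G} (ht : t ∈ S) (hu : u ∈ S) (hg : Commute t g)
    (hv : g * u * g⁻¹ ∈ S) :
    ∃ n ∈ normalizer (S : Set G), Commute t n ∧ n * u * n⁻¹ = g * u * g⁻¹ := by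
  set v := g * u * g⁻¹ with hvdef
  set C := centralizer ({t, v} : Set G)
  have h1 : (S : Subgroup G) ≤ C := fun x hx => mem_centralizer_iff.2 fun y hy => by
    rcases hy with rfl | rfl
    · exact (hS _ ht x hx).eq
    · exact (hS _ hv x hx).eq
  have h2 : ↑(g • S) ≤ C := by
    rintro - ⟨z, hz, rfl⟩
    refine mem_centralizer_iff.2 fun y hy => ?_
    show y * (g * z * g⁻¹) = g * z * g⁻¹ * y
    rcases hy with rfl | rfl
    · have := commute_conj g (hS _ ht z hz)
      rwa [show g * y * g⁻¹ = y by rw [hg.symm.eq, mul_inv_cancel_right]] at this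
    · exact (commute_conj g (hS _ hu z hz)).eq
  obtain ⟨h, hh⟩ := MulAction.exists_smul_eq C ((g • S).subtype h2) (S.subtype h1)
  simp_rw [Sylow.smul_subtype, Subgroup.smul_def, smul_smul] at hh
  have hc := mem_centralizer_iff.1 h.2
  refine ⟨(h : G) * g, Sylow.smul_eq_iff_mem_normalizer.mp (Sylow.subtype_injective hh), ?_, ?_⟩
  · exact Commute.mul_right (hc t (Or.inl rfl)) hg
  · rw [show (h : G) * g * u * ((h : G) * g)⁻¹ = (h : G) * v * (h : G)⁻¹ by rw [hvdef]; group,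
      ← hc v (Or.inr rfl), mul_inv_cancel_right]

end generic

namespace ToriData

variable {G : Type*} [Group G] [Finite G] {q a r : ℕ} (D : ToriData G q a r)
include D

theorem sq_of_two_pow {x : G} {k : ℕ} (hk : orderOf x = 2 ^ k) : x * x = 1 := by
  haveI := Fact.mk Nat.prime_two
  obtain ⟨S, hS⟩ := (IsPGroup.of_card ((Nat.card_zpowers x).trans hk)).exists_le_sylow
  exact (D.sylow_two S).2 x (hS (mem_zpowers x))

theorem sylow_comm (S : Sylow 2 G) : ∀ x ∈ S, ∀ y ∈ S, Commute x y := by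
  intro x hx y hy
  have h := (D.sylow_two S).2
  show x * y = y * x
  calc x * y = (x * y) * ((y * x) * (y * x)) := by rw [h (y * x) (mul_mem hy hx), mul_one]
    _ = x * (y * y) * x * (y * x) := by group
    _ = y * x := by rw [h y hy, mul_one, h x hx, one_mul]

omit D in
theorem exists_sylow_mem {x : G} (h : x * x = 1) : ∃ S : Sylow 2 G, x ∈ S := by
  haveI := Fact.mk Nat.prime_two
  rcases eq_or_ne x 1 with rfl | h1
  · exact ⟨default, one_mem _⟩
  obtain ⟨S, hS⟩ := (IsPGroup.of_card (n := 1)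
    ((Nat.card_zpowers x).trans (by rw [orderOf_eq_two h h1, pow_one]) : Nat.card (zpowers x) = 2 ^ 1)).exists_le_sylow
  exact ⟨S, hS (mem_zpowers x)⟩

theorem exists_sylow_pair {u v : G} (hu : u * u = 1) (hv : v * v = 1) (h : Commute u v) :
    ∃ S : Sylow 2 G, u ∈ S ∧ v ∈ S := by
  haveI := Fact.mk Nat.prime_two
  let P : Subgroup G :=
    { carrier := {x | x = 1 ∨ x = u ∨ x = v ∨ x = u * v}
      one_mem' := Or.inl rfl
      mul_mem' := by
        have hvu : v * u = u * v := h.eq.symm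
        have huuv : u * (u * v) = v := by rw [← mul_assoc, hu, one_mul]
        have hvuv : v * (u * v) = u := by rw [← mul_assoc, hvu, mul_assoc, hv, mul_one]
        have huvu : u * v * u = v := by rw [mul_assoc, hvu, huuv]
        have huvv : u * v * v = u := by rw [mul_assoc, hv, mul_one]
        have huvuv : u * v * (u * v) = 1 := by rw [← mul_assoc, huvu, hv]
        rintro a b (ha | ha | ha | ha) (hb | hb | hb | hb) <;> subst ha <;> subst hb <;>
          simp [hu, hv, hvu, huuv, hvuv, huvu, huvv, huvuv]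
      inv_mem' := by
        rintro a (ha | ha | ha | ha) <;> subst ha
        · simp
        · exact Or.inr (Or.inl (inv_eq_of_mul_eq_one_right hu))
        · exact Or.inr (Or.inr (Or.inl (inv_eq_of_mul_eq_one_right hv)))
        · refine Or.inr (Or.inr (Or.inr ?_))
          rw [_root_.mul_inv_rev, inv_eq_of_mul_eq_one_right hu, inv_eq_of_mul_eq_one_right hv, h.eq] }
  have hP : IsPGroup 2 P := fun x => ⟨1, Subtype.ext (by
    rcases x.2 with e | e | e | e <;> rw [SubmonoidClass.coe_pow, OneMemClass.coe_one, pow_one, pow_two, e]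
    · exact one_mul 1
    · exact hu
    · exact hv
    · calc u * v * (u * v) = u * (v * u) * v := by group
        _ = u * (u * v) * v := by rw [h.eq]
        _ = (u * u) * (v * v) := by group
        _ = 1 := by rw [hu, hv, one_mul])⟩
  obtain ⟨S, hS⟩ := hP.exists_le_sylow
  exact ⟨S, hS (Or.inr (Or.inl rfl)), hS (Or.inr (Or.inr (Or.inl rfl)))⟩

theorem relIndex_sylow_odd (S : Sylow 2 G) {N : Subgroup G} (h : (S : Subgroup G) ≤ N) :
    Odd ((S : Subgroup G).relIndex N) := by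
  haveI := Fact.mk Nat.prime_two
  rw [Nat.odd_iff, ← Nat.two_dvd_ne_zero]
  exact fun e => S.not_dvd_index (e.trans (relIndex_dvd_index_of_le h))

theorem conj_set_odd (S : Sylow 2 G) {x : G} (hx : x ∈ S) {N : Subgroup G}
    (hN : (S : Subgroup G) ≤ N) : Odd (Nat.card {y : G // ∃ n ∈ N, n * x * n⁻¹ = y}) := by
  rw [card_conj_set, ← inf_relIndex_right]
  refine Odd.of_dvd_nat (D.relIndex_sylow_odd S hN) (relIndex_dvd_of_le_left _ (le_inf ?_ hN))
  exact fun y hy => mem_centralizer_singleton_iff.2 (D.sylow_comm S y hy x hx).eq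

omit D in
theorem sylow_invols (S : Sylow 2 G) (h8 : Nat.card S = 8) :
    Nat.card {x : G // x ∈ S ∧ x ≠ 1} = 7 := by
  rw [show Nat.card {x : G // x ∈ S ∧ x ≠ 1} = ((S : Set G) \ {1}).ncard from rfl,
    Set.ncard_sdiff_singleton_of_mem (one_mem S), ← Nat.card_coe_set_eq]
  exact congrArg (· - 1) h8

/-- The six involutions of `S` other than `t`. -/
theorem six_eq {S : Sylow 2 G} (ht : D.t ∈ S) :
    Nat.card {x : G // x ∈ S ∧ x ≠ 1 ∧ x ≠ D.t} = 6 := by
  have h : {x : G | x ∈ S ∧ x ≠ 1 ∧ x ≠ D.t} = {x : G | x ∈ S ∧ x ≠ 1} \ {D.t} := by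
    ext x
    simp only [Set.mem_sdiff, Set.mem_setOf_eq, Set.mem_singleton_iff]
    tauto
  rw [show Nat.card {x : G // x ∈ S ∧ x ≠ 1 ∧ x ≠ D.t} =
      ({x : G | x ∈ S ∧ x ≠ 1 ∧ x ≠ D.t}).ncard from rfl, h,
    Set.ncard_sdiff_singleton_of_mem (show D.t ∈ {x : G | x ∈ S ∧ x ≠ 1} from ⟨ht, D.t_ne⟩)]
  have := sylow_invols S (D.sylow_two S).1
  exact congrArg (· - 1) this

/-- `C(t) ∩ N(S)` has two orbits of length three on the six involutions. -/
theorem orbit_three {S : Sylow 2 G} (ht : D.t ∈ S) {v : G} (hv : v ∈ S) (hv1 : v ≠ 1) (hvt : v ≠ D.t) :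
    Nat.card {y : G // ∃ n ∈ normalizer (S : Set G) ⊓ centralizer {D.t}, n * v * n⁻¹ = y} = 3 ∧
      ∀ w ∈ S, w ≠ 1 → w ≠ D.t →
        (∃ n ∈ normalizer (S : Set G) ⊓ centralizer {D.t}, n * v * n⁻¹ = w) ∨
        (∃ n ∈ normalizer (S : Set G) ⊓ centralizer {D.t}, n * v * n⁻¹ = D.t * w) := by
  haveI := Fact.mk Nat.prime_two
  have hsq := (D.sylow_two S).2
  have hc := D.sylow_comm S
  set N := normalizer (S : Set G) ⊓ centralizer {D.t}
  have hcov : ∀ w ∈ S, w ≠ 1 → w ≠ D.t → (∃ n ∈ N, n * v * n⁻¹ = w) ∨ (∃ n ∈ N, n * v * n⁻¹ = D.t * w) := by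
    intro w hw hw1 hwt
    obtain ⟨g, hg, hgw⟩ := D.conj_or v w (hsq v hv) hv1 hvt (hc _ ht v hv) (hsq w hw) hw1 hwt (hc _ ht w hw)
    have hmem : g * v * g⁻¹ ∈ S := by
      rcases hgw with e | e <;> rw [e]
      · exact hw
      · exact mul_mem ht hw
    obtain ⟨n, hn, hnt, hne⟩ := exists_normalizer_conj_pair S hc ht hv hg hmem
    have hnN : n ∈ N := ⟨hn, mem_centralizer_singleton_iff.2 hnt.eq.symm⟩
    rcases hgw with e | e
    exacts [Or.inl ⟨n, hnN, hne.trans e⟩, Or.inr ⟨n, hnN, hne.trans e⟩]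
  refine ⟨?_, hcov⟩
  set A : Set G := {y | ∃ n ∈ N, n * v * n⁻¹ = y}
  have hA : ∀ y ∈ A, y ∈ S ∧ y ≠ 1 ∧ y ≠ D.t := by
    rintro y ⟨n, ⟨hn, hnt⟩, rfl⟩
    refine ⟨(mem_normalizer_iff.1 hn v).1 hv, conj_ne_one n hv1, fun e => hvt ?_⟩
    have hnt' := mem_centralizer_singleton_iff.1 hnt
    calc v = n⁻¹ * (n * v * n⁻¹) * n := by group
      _ = n⁻¹ * (D.t * n) := by rw [e, mul_assoc]
      _ = D.t := by rw [← hnt', inv_mul_cancel_left]
  have hunion : {x : G | x ∈ S ∧ x ≠ 1 ∧ x ≠ D.t} = A ∪ (fun y => D.t * y) '' A := by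
    ext x
    constructor
    · rintro ⟨h1, h2, h3⟩
      rcases hcov x h1 h2 h3 with h | h
      · exact Or.inl h
      · exact Or.inr ⟨D.t * x, h, by simp only; rw [← mul_assoc, D.t_sq, one_mul]⟩
    · rintro (h | ⟨y, hy, rfl⟩)
      · exact hA x h
      · obtain ⟨h1, h2, h3⟩ := hA y hy
        refine ⟨mul_mem ht h1, fun e => h3 ?_, fun e => h2 (mul_eq_left.1 e)⟩
        calc y = D.t * (D.t * y) := by rw [← mul_assoc, D.t_sq, one_mul]
          _ = D.t := by rw [show D.t * y = 1 from e, mul_one]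
  have hdisj : Disjoint A ((fun y => D.t * y) '' A) := by
    rw [Set.disjoint_left]
    rintro x hx ⟨y, hy, rfl⟩
    obtain ⟨n, ⟨hn, hnt⟩, hne⟩ := hy
    obtain ⟨m, ⟨hm, hmt⟩, hme⟩ := hx
    have hnt' := mem_centralizer_singleton_iff.1 hnt
    have hmt' := mem_centralizer_singleton_iff.1 hmt
    obtain ⟨hyS, hy1, hyt⟩ := hA y ⟨n, ⟨hn, hnt⟩, hne⟩
    refine D.no_swap y (m * n⁻¹) (hsq y hyS) hy1 hyt (hc _ ht y hyS) ?_ ?_
    · exact Commute.mul_right hmt'.symm (Commute.inv_right hnt'.symm)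
    · rw [← hne, show m * n⁻¹ * (n * v * n⁻¹) * (m * n⁻¹)⁻¹ = m * v * m⁻¹ by group, hne]
      exact hme
  have h6 : ({x : G | x ∈ S ∧ x ≠ 1 ∧ x ≠ D.t}).ncard = 6 := D.six_eq ht
  rw [hunion, Set.ncard_union_eq hdisj (Set.toFinite _) (Set.toFinite _),
    Set.ncard_image_of_injective _ (mul_right_injective D.t)] at h6
  show A.ncard = 3
  omega

theorem exists_sylow_t : ∃ S : Sylow 2 G, D.t ∈ S := exists_sylow_mem D.t_sq

/-- All involutions are conjugate. -/
theorem isConj_invol {u : G} (hu : u * u = 1) (hu1 : u ≠ 1) : ∃ g : G, g * D.t * g⁻¹ = u := by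
  haveI := Fact.mk Nat.prime_two
  obtain ⟨S, ht⟩ := D.exists_sylow_t
  have hc := D.sylow_comm S
  haveI : IsMulCommutative (S : Subgroup G) := ⟨⟨fun x y => Subtype.ext (hc x x.2 y y.2).eq⟩⟩
  set A : Set G := {y | ∃ n ∈ normalizer (S : Set G), n * D.t * n⁻¹ = y}
  suffices hA : ∀ w ∈ S, w ≠ 1 → w ∈ A by
    obtain ⟨Q, hQ⟩ := exists_sylow_mem hu
    obtain ⟨g, rfl⟩ := MulAction.exists_smul_eq G S Q
    obtain ⟨w, hw, hwu⟩ := hQ
    replace hwu : g * w * g⁻¹ = u := hwu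
    obtain ⟨n, -, rfl⟩ := hA w hw (fun e => hu1 (by rw [← hwu, e, mul_one, mul_inv_cancel]))
    exact ⟨g * n, by rw [← hwu]; group⟩
  have hAS : ∀ y ∈ A, y ∈ S ∧ y ≠ 1 := by
    rintro y ⟨n, hn, rfl⟩
    exact ⟨(mem_normalizer_iff.1 hn _).1 ht, conj_ne_one n D.t_ne⟩
  have hodd : Odd A.ncard := D.conj_set_odd S ht le_normalizer
  -- the class of `t` is larger than `{t}`
  have hne : A ≠ {D.t} := by
    intro e
    have hfix : ∀ g : G, g⁻¹ * D.t * g ∈ S → g⁻¹ * D.t * g = D.t := by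
      intro g hg
      obtain ⟨n, hn, hng⟩ := S.conj_eq_normalizer_conj_of_mem D.t g ht hg
      have : n⁻¹ * D.t * n ∈ A := ⟨n⁻¹, inv_mem hn, by group⟩
      rw [e, Set.mem_singleton_iff] at this
      rw [hng, this]
    open scoped IsMulCommutative in
    let τ : G →* (S : Subgroup G) := MonoidHom.transfer (MonoidHom.id (S : Subgroup G))
    have key : ∀ (k : ℕ) (g₀ : G), g₀⁻¹ * D.t ^ k * g₀ ∈ (S : Subgroup G) →
        g₀⁻¹ * D.t ^ k * g₀ = D.t ^ k := by
      intro k g₀ hk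
      rcases Nat.even_or_odd k with ⟨j, rfl⟩ | ⟨j, rfl⟩
      · rw [← two_mul, pow_mul, pow_two, D.t_sq, one_pow, mul_one, inv_mul_cancel]
      · rw [pow_succ, pow_mul, pow_two, D.t_sq, one_pow, one_mul] at hk ⊢
        exact hfix g₀ hk
    have h1 : τ D.t = 1 := by
      have : commutator G ≤ τ.ker := by
        open scoped IsMulCommutative in
        exact Abelianization.commutator_subset_ker τ
      exact MonoidHom.mem_ker.1 (this (D.perfect ▸ mem_top D.t))
    have h2 : τ D.t = (MonoidHom.id (S : Subgroup G)) ⟨D.t ^ (S : Subgroup G).index, MonoidHom.transfer_eq_pow_aux D.t key⟩ := by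
      open scoped IsMulCommutative in
      exact MonoidHom.transfer_eq_pow (MonoidHom.id (S : Subgroup G)) D.t key
    rw [h2] at h1
    have h3 : D.t ^ (S : Subgroup G).index = 1 := congrArg Subtype.val h1
    have hd := orderOf_dvd_of_pow_eq_one h3
    rw [orderOf_eq_two D.t_sq D.t_ne] at hd
    exact S.not_dvd_index hd
  obtain ⟨v, hvA, hvt⟩ : ∃ v ∈ A, v ≠ D.t := by
    by_contra h
    push Not at h
    exact hne (Set.eq_singleton_iff_unique_mem.2 ⟨⟨1, one_mem _, by group⟩, h⟩)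
  obtain ⟨hvS, hv1⟩ := hAS v hvA
  have hstab : ∀ y ∈ A, ∀ n ∈ normalizer (S : Set G), n * y * n⁻¹ ∈ A := by
    rintro y ⟨k, hk, rfl⟩ n hn
    exact ⟨n * k, mul_mem hn hk, by group⟩
  obtain ⟨h3, hcov⟩ := D.orbit_three ht hvS hv1 hvt
  set B : Set G := {y | ∃ n ∈ normalizer (S : Set G) ⊓ centralizer {D.t}, n * v * n⁻¹ = y}
  have hB : B.ncard = 3 := h3
  have hBA : B ⊆ A := by
    rintro y ⟨n, hn, rfl⟩
    exact hstab v hvA n hn.1
  intro w hw hw1
  by_contra hwA
  have hwt : w ≠ D.t := fun e => hwA (e ▸ ⟨1, one_mem _, by group⟩)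
  -- then the class meets `S` in four elements
  have hsub : A ⊆ insert D.t B := by
    intro y hy
    by_contra hyB
    rw [Set.mem_insert_iff, not_or] at hyB
    obtain ⟨hyS, hy1⟩ := hAS y hy
    rcases hcov y hyS hy1 hyB.1 with h | ⟨n, hn, hne'⟩
    · exact hyB.2 h
    rcases hcov w hw hw1 hwt with ⟨k, hk, hke⟩ | ⟨k, hk, hke⟩
    · exact hwA (hke ▸ hBA ⟨k, hk, rfl⟩)
    · -- `w` is in the orbit of `y`
      refine hwA ?_
      have hkn : k * n⁻¹ ∈ normalizer (S : Set G) ⊓ centralizer {D.t} := mul_mem hk (inv_mem hn)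
      have hkt : Commute D.t (k * n⁻¹) := (mem_centralizer_singleton_iff.1 hkn.2).symm
      have e1 : k * n⁻¹ * (D.t * y) * (k * n⁻¹)⁻¹ = D.t * w := by
        rw [← hne', show k * n⁻¹ * (n * v * n⁻¹) * (k * n⁻¹)⁻¹ = k * v * k⁻¹ by group, hke]
      rw [← mul_assoc, ← hkt.eq, mul_assoc D.t _ y, mul_assoc D.t] at e1
      exact mul_left_cancel e1 ▸ hstab y hy _ hkn.1
  have hA4 : A = insert D.t B := hsub.antisymm (Set.insert_subset ⟨1, one_mem _, by group⟩ hBA)
  have htB : D.t ∉ B := by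
    rintro ⟨n, ⟨-, hn⟩, e⟩
    refine hvt ?_
    have hn' : n * D.t = D.t * n := mem_centralizer_singleton_iff.1 hn
    calc v = n⁻¹ * (n * v * n⁻¹) * n := by group
      _ = n⁻¹ * (D.t * n) := by rw [e, mul_assoc]
      _ = D.t := by rw [← hn', inv_mul_cancel_left]
  rw [hA4, Set.ncard_insert_of_notMem htB, hB] at hodd
  exact absurd hodd (by decide)

theorem card_centralizer_invol {u : G} (hu : u * u = 1) (hu1 : u ≠ 1) :
    Nat.card (centralizer ({u} : Set G)) = q * (q ^ 2 - 1) := by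
  obtain ⟨g, rfl⟩ := D.isConj_invol hu hu1
  rw [← D.card_cent]
  refine (Nat.card_congr ((MulAut.conj g).toEquiv.subtypeEquiv fun x => ?_)).symm
  simp only [Subgroup.mem_centralizer_singleton_iff]
  show x * D.t = D.t * x ↔ g * x * g⁻¹ * (g * D.t * g⁻¹) = g * D.t * g⁻¹ * (g * x * g⁻¹)
  rw [show g * x * g⁻¹ * (g * D.t * g⁻¹) = g * (x * D.t) * g⁻¹ by group,
    show g * D.t * g⁻¹ * (g * x * g⁻¹) = g * (D.t * x) * g⁻¹ by group, mul_left_inj, mul_right_inj]

end ToriData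

end CfsgLib.SmallRee
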