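import Cfsg.Agent.Lib.SmallRee.ToriCount

/-!
The two cyclic Hall subgroups of orders `q + 1 ± r` of a small Ree group.
-/

set_option autoImplicit false

namespace CfsgLib.SmallRee

open Subgroup

/-- A cyclic subgroup of order `c` which is the centraliser of each of its non-trivial elements, with
normaliser of order `6 * c`. -/
structure BigTorus {G : Type*} [Group G] (T : Subgroup G) (c : ℕ) : Prop where
  cyclic : IsCyclic T
  card_T : Nat.card T = c
  cent : ∀ y ∈ T, y ≠ 1 → centralizer ({y} : Set G) = T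
  card_N : Nat.card (normalizer (T : Set G)) = 6 * c

theorem ti_of_cent {G : Type*} [Group G] {T : Subgroup G} (hT : ∀ y ∈ T, y ≠ 1 → centralizer ({y} : Set G) = T)
    {y g : G} (hy : y ∈ T) (hy1 : y ≠ 1) (hg : g * y * g⁻¹ ∈ T) : g ∈ normalizer (T : Set G) := by
  rw [mem_normalizer_iff_map_conj_eq]
  show T.map (MulAut.conj g).toMonoidHom = T
  conv_lhs => rw [← hT y hy hy1, centralizer_conj_map, hT _ hg (conj_ne_one g hy1)]

namespace ToriData

variable {G : Type*} [Group G] [Finite G] {q a r : ℕ} (D : ToriData G q a r)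
include D

theorem c_dvd_card : q ^ 2 - q + 1 ∣ Nat.card G := by rw [D.card_eq']; exact dvd_mul_left _ _

theorem card_eq_c : Nat.card G = q ^ 3 * (q + 1) * (q - 1) * (q ^ 2 - q + 1) := by
  rw [D.card_eq', D.h4a]; ring

theorem dvd_c_of_primes {d : ℕ} (hd : d ∣ Nat.card G)
    (h : ∀ p : ℕ, p.Prime → p ∣ d → p ∣ q ^ 2 - q + 1) : d ∣ q ^ 2 - q + 1 := by
  rw [D.card_eq_c] at hd
  refine Nat.Coprime.dvd_of_dvd_mul_left (Nat.coprime_of_dvd fun p hp hpd hpm => ?_) hd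
  have hc := h p hp hpd
  rcases hp.dvd_mul.1 hpm with e | e
  · rcases hp.dvd_mul.1 e with e | e
    · exact hp.one_lt.ne' (Nat.eq_one_of_dvd_coprimes D.coprime_q_c (hp.dvd_of_dvd_pow e) hc)
    · exact hp.one_lt.ne' (Nat.eq_one_of_dvd_coprimes
        (D.coprime_c (by rw [D.q_sq_sub, D.h4a]; exact dvd_mul_right _ _)) e hc)
  · exact hp.one_lt.ne' (Nat.eq_one_of_dvd_coprimes D.coprime_q_sub_c e hc)

theorem not_prime_factor {p : ℕ} (hp : p.Prime) (hpc : p ∣ q ^ 2 - q + 1) :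
    ¬ p ∣ q * (q ^ 2 - 1) := by
  intro h
  rcases hp.dvd_mul.1 h with e | e
  · exact hp.one_lt.ne' (Nat.eq_one_of_dvd_coprimes D.coprime_q_c e hpc)
  · exact hp.one_lt.ne' (Nat.eq_one_of_dvd_coprimes (D.coprime_c dvd_rfl) e hpc)

variable {u v : G} {O : Subgroup G} (Q : Quad a u v O)
include Q

/-- An element commuting with an element of prime order dividing `c` has all prime factors of its order in `c`. -/
theorem primes_of_commute {x y : G} (hx : (orderOf x).Prime) (hxc : orderOf x ∣ q ^ 2 - q + 1)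
    (hy : (orderOf y).Prime) (h : Commute x y) : orderOf y ∣ q ^ 2 - q + 1 := by
  have hy1 : y ≠ 1 := fun e => by rw [e, orderOf_one] at hy; exact Nat.not_prime_one hy
  have hbad : ∀ K : Subgroup G, x ∈ K → Nat.card K ∣ (q * (q ^ 2 - 1)) ^ 3 → False := fun K hK hd => by
    refine D.not_prime_factor hx hxc (hx.dvd_of_dvd_pow (?_ : orderOf x ∣ (q * (q ^ 2 - 1)) ^ 3))
    rw [← Subgroup.orderOf_mk x hK]
    exact (_root_.orderOf_dvd_natCard _).trans hd
  have hxk : ∀ k : G, Commute (k * y * k⁻¹) (k * x * k⁻¹) := fun k => commute_conj k h.symm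
  have hd1 : q ^ 2 - 1 ∣ (q * (q ^ 2 - 1)) ^ 3 :=
    (dvd_mul_left _ q).trans (dvd_pow_self _ (by norm_num : (3 : ℕ) ≠ 0))
  have hox : ∀ (K : Subgroup G) (k : G), k * x * k⁻¹ ∈ K → Nat.card K ∣ (q * (q ^ 2 - 1)) ^ 3 → False := by
    intro K k hK hd
    refine D.not_prime_factor hx hxc (hx.dvd_of_dvd_pow (?_ : orderOf x ∣ (q * (q ^ 2 - 1)) ^ 3))
    rw [← orderOf_conj k, ← Subgroup.orderOf_mk _ hK]
    exact (_root_.orderOf_dvd_natCard _).trans hd
  rcases D.order_cases Q hy1 with e | e | ⟨e2, ed, k, hk⟩ | ⟨e2, ed, k, hk⟩ | e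
  · exfalso
    refine hbad (centralizer {y}) (mem_centralizer_singleton_iff.2 h.eq) ?_
    rw [D.card_centralizer_invol (by rw [← pow_two, ← e]; exact pow_orderOf_eq_one y) hy1]
    exact dvd_pow_self _ (by norm_num)
  · exfalso
    obtain ⟨k, hk⟩ := D.conj_into_U (k := 1) (y := y)
      (by rw [pow_one]; exact ((Nat.prime_dvd_prime_iff_eq Nat.prime_three hy).1 e).symm)
    refine hox (normalizer (D.U : Set G)) k (D.U_ti _ hk (conj_ne_one k hy1) _ ?_) ?_
    · rw [← (hxk k).eq, mul_inv_cancel_right]; exact hk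
    · rw [D.card_NU, mul_pow]
      refine mul_dvd_mul_left _ (Dvd.dvd.trans ?_ (dvd_pow_self _ (by norm_num : (3 : ℕ) ≠ 0)))
      rw [D.q_sq_sub]; exact dvd_mul_left _ _
  · exfalso
    refine hox D.H k ?_ ?_
    · rw [← D.centralizer_torus hk (fun e => ?_), mem_centralizer_singleton_iff]
      · exact (hxk k).eq.symm
      · have := Nat.le_of_dvd Nat.two_pos (orderOf_dvd_of_pow_eq_one ((pow_two _).trans e))
        rw [orderOf_conj] at this
        omega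
    · rw [D.card_H]; exact Dvd.dvd.trans (by rw [D.q_sq_sub]; exact dvd_mul_left _ _) hd1
  · exfalso
    have hpa : orderOf (k * y * k⁻¹) ∣ a := by
      rw [orderOf_conj]
      exact (hy.dvd_mul.1 ed).resolve_left fun h2 => by
        have := Nat.le_of_dvd Nat.two_pos h2
        omega
    obtain ⟨x', hx', z, hz, ez⟩ := (Q.W_structure D).2 _ hk
    have hzk : k * y * k⁻¹ = z := by
      rcases hx' with rfl | hx'
      · rw [ez, one_mul]
      · exfalso
        rw [ez, D.orderOf_mul_W Q hx' hz] at hpa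
        exact absurd ((dvd_mul_right 2 _).trans hpa) (Nat.two_dvd_ne_zero.2 (Nat.odd_iff.1 D.ha))
    refine hox (Wgrp u v O) k ?_ ?_
    · rw [← Q.centralizer_eq D hz (by rw [← hzk]; exact conj_ne_one k hy1), mem_centralizer_singleton_iff, ← hzk]
      exact (hxk k).eq.symm
    · rw [(Q.W_structure D).1]; exact Dvd.dvd.trans (by rw [D.q_sq_sub]; exact dvd_mul_right _ _) hd1
  · exact e _ hy dvd_rfl

theorem dvd_c_of_commute {x g : G} (hx : (orderOf x).Prime) (hxc : orderOf x ∣ q ^ 2 - q + 1)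
    (h : Commute x g) {p : ℕ} (hp : p.Prime) (hpd : p ∣ orderOf g) : p ∣ q ^ 2 - q + 1 := by
  obtain ⟨i, hi⟩ := hpd
  have hi0 : 0 < i := Nat.pos_of_ne_zero fun e => (orderOf_pos g).ne' (by rw [hi, e, mul_zero])
  have ho : orderOf (g ^ i) = p := by
    rw [orderOf_pow, hi, Nat.gcd_eq_right (dvd_mul_left i p), Nat.mul_div_cancel _ hi0]
  rw [← ho]
  exact D.primes_of_commute Q hx hxc (ho ▸ hp) (h.pow_right i)

/-- The centraliser of an element of prime order dividing `c`. -/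
theorem centralizer_big {x : G} (hx : (orderOf x).Prime) (hxc : orderOf x ∣ q ^ 2 - q + 1) :
    IsCyclic (centralizer ({x} : Set G)) ∧ Nat.card (centralizer ({x} : Set G)) ∣ q ^ 2 - q + 1 ∧
    7 ≤ Nat.card (centralizer ({x} : Set G)) ∧
    (∀ y ∈ centralizer ({x} : Set G), y ≠ 1 → centralizer ({y} : Set G) = centralizer ({x} : Set G)) ∧
    (∀ p : ℕ, p.Prime → p ∣ Nat.card (centralizer ({x} : Set G)) → ¬ p ∣ (centralizer ({x} : Set G)).index) ∧
    (centralizer ({x} : Set G)).relIndex (normalizer (centralizer ({x} : Set G) : Set G)) ≤ 6 := by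
  set T := centralizer ({x} : Set G) with hT
  obtain ⟨hcomm, hconj⟩ := D.lin x hx hxc
  have hx1 : x ≠ 1 := fun e => by rw [e, orderOf_one] at hx; exact Nat.not_prime_one hx
  have hmem : ∀ {g}, g ∈ T ↔ Commute x g := fun {g} => mem_centralizer_singleton_iff.trans ⟨Eq.symm, Eq.symm⟩
  have hTc : ∀ g ∈ T, ∀ h ∈ T, Commute g h := fun g hg h hh => hcomm g h (hmem.1 hg) (hmem.1 hh)
  have hxT : x ∈ T := hmem.2 (Commute.refl x)
  have hprimes : ∀ g ∈ T, ∀ p : ℕ, p.Prime → p ∣ orderOf g → p ∣ q ^ 2 - q + 1 :=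
    fun g hg p hp hpd => D.dvd_c_of_commute Q hx hxc (hmem.1 hg) hp hpd
  have hdvd : Nat.card T ∣ q ^ 2 - q + 1 := by
    refine D.dvd_c_of_primes (card_subgroup_dvd_card T) fun p hp hpd => ?_
    haveI := Fact.mk hp
    obtain ⟨⟨y, hy⟩, ho⟩ := exists_prime_orderOf_dvd_card' p hpd
    rw [Subgroup.orderOf_mk] at ho
    exact hprimes y hy p hp ho.symm.dvd
  have hsmall : ∀ y ∈ T, (orderOf y).Prime → centralizer ({y} : Set G) = T := by
    intro y hy hyp
    obtain ⟨hcy, -⟩ := D.lin y hyp (hprimes y hy _ hyp dvd_rfl)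
    have hxy : Commute x y := hmem.1 hy
    refine le_antisymm (fun g hg => hmem.2 ?_) (fun g hg => mem_centralizer_singleton_iff.2 (hTc g hg y hy).eq)
    exact hcy x g hxy.symm (mem_centralizer_singleton_iff.1 hg).symm
  have hcent : ∀ y ∈ T, y ≠ 1 → centralizer ({y} : Set G) = T := by
    intro y hy hy1
    refine le_antisymm (fun g hg => ?_) (fun g hg => mem_centralizer_singleton_iff.2 (hTc g hg y hy).eq)
    obtain ⟨p, hp, i, hi⟩ := Nat.exists_prime_and_dvd (fun e => hy1 (orderOf_eq_one_iff.1 e))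
    have hi0 : 0 < i := Nat.pos_of_ne_zero fun e => (orderOf_pos y).ne' (by rw [hi, e, mul_zero])
    have ho : orderOf (y ^ i) = p := by
      rw [orderOf_pow, hi, Nat.gcd_eq_right (dvd_mul_left i p), Nat.mul_div_cancel _ hi0]
    rw [← hsmall (y ^ i) (pow_mem hy i) (ho ▸ hp), mem_centralizer_singleton_iff]
    exact (Commute.pow_right (mem_centralizer_singleton_iff.1 hg) i).eq
  have hhall : ∀ p : ℕ, p.Prime → p ∣ Nat.card T → ¬ p ∣ T.index := by
    intro p hp hpd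
    haveI := Fact.mk hp
    obtain ⟨⟨y, hy⟩, ho⟩ := exists_prime_orderOf_dvd_card' p hpd
    rw [Subgroup.orderOf_mk] at ho
    obtain ⟨P, hP⟩ := (IsPGroup.of_card (n := 1) ((Nat.card_zpowers y).trans (ho.trans (pow_one p).symm)) :
      IsPGroup p (zpowers y)).exists_le_sylow
    have hp7 := D.seven_le_of_dvd_c hp (hpd.trans hdvd)
    haveI := D.cyclic_sylow p hp (by omega) P
    have hle : (P : Subgroup G) ≤ T := by
      rw [← hsmall y hy (ho ▸ hp)]
      intro g hg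
      rw [mem_centralizer_singleton_iff]
      exact congrArg Subtype.val (IsCyclic.commGroup.mul_comm (⟨g, hg⟩ : (P : Subgroup G)) ⟨y, hP (mem_zpowers y)⟩)
    exact fun h => P.not_dvd_index (h.trans (index_dvd_of_le hle))
  refine ⟨?_, hdvd, ?_, hcent, hhall, ?_⟩
  · haveI : IsMulCommutative T := ⟨⟨fun g h => Subtype.ext (hTc g g.2 h h.2).eq⟩⟩
    haveI : IsZGroup T := by
      refine ⟨fun p hp P => ?_⟩
      haveI := Fact.mk hp
      rcases Nat.lt_or_ge 3 p with h3 | h3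
      · obtain ⟨P', hP'⟩ := (P.2.map T.subtype).exists_le_sylow
        haveI := D.cyclic_sylow p hp h3 P'
        haveI : IsCyclic ((P : Subgroup T).map T.subtype) :=
          isCyclic_of_injective (inclusion hP') (inclusion_injective hP')
        exact isCyclic_of_surjective _ ((P : Subgroup T).equivMapOfInjective T.subtype T.subtype_injective).symm.surjective
      · have h1 : (Nat.card T).factorization p = 0 := Nat.factorization_eq_zero_of_not_dvd fun h => by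
          have := D.seven_le_of_dvd_c hp (h.trans hdvd)
          omega
        have : Nat.card (P : Subgroup T) = 1 := by rw [P.card_eq_multiplicity, h1, pow_zero]
        haveI : Subsingleton (P : Subgroup T) := (Nat.card_eq_one_iff_unique.1 this).1
        infer_instance
    letI : CommGroup T := { (inferInstance : Group T) with mul_comm := fun g h => Subtype.ext (hTc g g.2 h h.2).eq }
    haveI : Group.IsNilpotent T := CommGroup.isNilpotent
    infer_instance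
  · calc 7 ≤ orderOf x := D.seven_le_of_dvd_c hx hxc
      _ ≤ Nat.card T := Nat.le_of_dvd Nat.card_pos (by rw [← Subgroup.orderOf_mk x hxT]; exact orderOf_dvd_natCard _)
  · rw [← card_conj_set]
    refine le_trans (Nat.card_le_card_of_injective (fun y => (⟨y.1, ?_, ?_⟩ : {y : G // Commute x y ∧ IsConj x y}))
      fun _ _ e => Subtype.ext (congrArg (fun z : {y : G // Commute x y ∧ IsConj x y} => z.1) e :)) hconj
    · obtain ⟨n, hn, e⟩ := y.2
      rw [← e]; exact hmem.1 ((mem_normalizer_iff.1 hn x).1 hxT)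
    · obtain ⟨n, -, e⟩ := y.2
      exact isConj_iff.2 ⟨n, e⟩

theorem exists_big {p : ℕ} (hp : p.Prime) (hpc : p ∣ q ^ 2 - q + 1) :
    ∃ (T : Subgroup G) (e : ℕ), IsCyclic T ∧ Nat.card T ∣ q ^ 2 - q + 1 ∧ 7 ≤ Nat.card T ∧ p ∣ Nat.card T ∧
      (∀ y ∈ T, y ≠ 1 → centralizer ({y} : Set G) = T) ∧
      (∀ p : ℕ, p.Prime → p ∣ Nat.card T → ¬ p ∣ T.index) ∧
      0 < e ∧ e ≤ 6 ∧ Nat.card (normalizer (T : Set G)) = e * Nat.card T ∧
      Nat.card {g : G // g ≠ 1 ∧ ∃ k : G, k * g * k⁻¹ ∈ T} * (e * Nat.card T) =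
        Nat.card G * (Nat.card T - 1) := by
  haveI := Fact.mk hp
  obtain ⟨x, hx⟩ := exists_prime_orderOf_dvd_card' p (hpc.trans D.c_dvd_card)
  obtain ⟨h1, h2, h3, h4, h5, h6⟩ := D.centralizer_big Q (x := x) (hx ▸ hp) (hx ▸ hpc)
  set T := centralizer ({x} : Set G) with hT
  have hpT : p ∣ Nat.card T := by
    rw [← hx, ← Subgroup.orderOf_mk x (mem_centralizer_singleton_iff.2 rfl)]
    exact orderOf_dvd_natCard _
  have hN : Nat.card (normalizer (T : Set G)) = T.relIndex (normalizer (T : Set G)) * Nat.card T := by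
    rw [mul_comm, ← Nat.card_congr (subgroupOfEquivOfLe (show T ≤ normalizer (T : Set G) from le_normalizer)).toEquiv]
    exact (card_mul_index _).symm
  refine ⟨T, T.relIndex (normalizer (T : Set G)), h1, h2, h3, hpT, h4, h5, ?_, h6, hN, ?_⟩
  · exact Nat.pos_of_ne_zero (index_ne_zero_of_finite)
  rw [← hN]
  have hcount := card_of_ti (normalizer (T : Set G)) (T : Set G) (fun g => g ≠ 1 ∧ ∃ k : G, k * g * k⁻¹ ∈ T)
    (fun k g h => ⟨conj_ne_one k h.1, by
      obtain ⟨l, hl⟩ := h.2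
      exact ⟨l * k⁻¹, by simpa [mul_assoc] using hl⟩⟩)
    (fun k hk g hg _ => (mem_normalizer_iff.1 hk g).1 hg)
    (fun g hg h k hk => ti_of_cent h4 hg h.1 hk) (fun g h => h.2)
  rw [hcount, mul_comm, ← mul_assoc, card_mul_index]
  congr 1
  rw [show Nat.card {g : G // g ∈ (T : Set G) ∧ g ≠ 1 ∧ ∃ k : G, k * g * k⁻¹ ∈ T} = ((T : Set G) \ {1}).ncard from
      Nat.card_congr (Equiv.subtypeEquivRight fun g =>
        ⟨fun h => ⟨h.1, h.2.1⟩, fun h => ⟨h.1, h.2, 1, by simpa using h.1⟩⟩),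
    Set.ncard_sdiff_singleton_of_mem (one_mem T), ← Nat.card_coe_set_eq]
  rfl

omit Q in
theorem common_prime_conj {T T' : Subgroup G} (hT : ∀ y ∈ T, y ≠ 1 → centralizer ({y} : Set G) = T)
    (hT' : ∀ y ∈ T', y ≠ 1 → centralizer ({y} : Set G) = T') {p : ℕ} (hp : p.Prime) (h : p ∣ Nat.card T')
    (hi : ¬ p ∣ T.index) : Nat.card T' = Nat.card T := by
  haveI := Fact.mk hp
  obtain ⟨⟨y, hy⟩, ho⟩ := exists_prime_orderOf_dvd_card' p h
  rw [Subgroup.orderOf_mk] at ho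
  obtain ⟨k, hk⟩ := conj_into (p := p) T hi (ho.trans (pow_one p).symm)
  have hy1 : y ≠ 1 := fun e => by rw [e, orderOf_one] at ho; exact hp.one_lt.ne ho
  rw [← hT' y hy hy1, ← hT _ hk (conj_ne_one k hy1), ← centralizer_conj_map, card_map_conj]

omit Q in
theorem eq_c {d : ℕ} (hd : d ∣ q ^ 2 - q + 1)
    (h : ∀ p : ℕ, p.Prime → p ∣ q ^ 2 - q + 1 → ¬ p ∣ Nat.card G / d) : d = q ^ 2 - q + 1 := by
  refine Nat.dvd_antisymm hd ?_
  have hdn : d ∣ Nat.card G := hd.trans D.c_dvd_card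
  have h2 : q ^ 2 - q + 1 ∣ d * (Nat.card G / d) := by rw [Nat.mul_div_cancel' hdn]; exact D.c_dvd_card
  exact (Nat.coprime_of_dvd fun p hp hpc hpd => h p hp hpc hpd).dvd_of_dvd_mul_right h2

/-- The two big tori. -/
theorem exists_bigTori : ∃ T₁ T₂ : Subgroup G, BigTorus T₁ (q + 1 - r) ∧ BigTorus T₂ (q + 1 + r) ∧
    r < q + 1 ∧ (q + 1 - r) * (q + 1 + r) = q ^ 2 - q + 1 ∧
    ∀ g : G, g ≠ 1 → (∀ p : ℕ, p.Prime → p ∣ orderOf g → p ∣ q ^ 2 - q + 1) →
      (∃ k : G, k * g * k⁻¹ ∈ T₁) ∨ (∃ k : G, k * g * k⁻¹ ∈ T₂) := by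
  classical
  have hq := D.hq
  set c := q ^ 2 - q + 1 with hc
  have hcq : c + q = q ^ 2 + 1 := D.c_eq
  have hcbig : 26 * q ≤ c := by
    have : 27 * q ≤ q ^ 2 := by rw [pow_two]; exact Nat.mul_le_mul_right q hq
    omega
  set X := Nat.card {g : G // g ≠ 1 ∧ ∀ p : ℕ, p.Prime → p ∣ orderOf g → p ∣ c}
  have hX : 3 * X = q ^ 3 * (q + 1) * (q - 1) * (c - q - 1) := by
    have := D.card_X Q
    rw [show q ^ 2 - 2 * q = c - q - 1 by omega] at this
    exact this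
  set N0 := q ^ 3 * (q + 1) * (q - 1) with hN0
  have hN0pos : 0 < N0 := Nat.mul_pos (Nat.mul_pos (pow_pos (by omega) _) (by omega)) (by omega)
  have hn : Nat.card G = N0 * c := D.card_eq_c
  obtain ⟨p₁, hp₁, hp₁c⟩ := Nat.exists_prime_and_dvd (show c ≠ 1 by omega)
  obtain ⟨T₁, e₁, hcy₁, hd₁, h7₁, -, hce₁, hh₁, he₁, he₁6, hN₁, hS₁⟩ := D.exists_big Q hp₁ hp₁c
  set S : Subgroup G → Set G := fun T => {g | g ≠ 1 ∧ ∃ k : G, k * g * k⁻¹ ∈ T} with hS
  have hSX : ∀ T : Subgroup G, Nat.card T ∣ c → S T ⊆ {g | g ≠ 1 ∧ ∀ p : ℕ, p.Prime → p ∣ orderOf g → p ∣ c} := by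
    rintro T hT g ⟨h1, k, hk⟩
    refine ⟨h1, fun p _ hpd => hpd.trans (Dvd.dvd.trans ?_ hT)⟩
    rw [← orderOf_conj k, ← Subgroup.orderOf_mk _ hk]
    exact orderOf_dvd_natCard _
  -- elements lie in some torus through a prime
  have hcovp : ∀ g : G, g ≠ 1 → ∀ (T : Subgroup G), (∀ y ∈ T, y ≠ 1 → centralizer ({y} : Set G) = T) →
      ∀ p : ℕ, p.Prime → p ∣ orderOf g → ¬ p ∣ T.index → ∃ k : G, k * g * k⁻¹ ∈ T := by
    intro g hg T hT p hp hpd hi
    haveI := Fact.mk hp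
    obtain ⟨i, hi'⟩ := hpd
    have hi0 : 0 < i := Nat.pos_of_ne_zero fun e => (orderOf_pos g).ne' (by rw [hi', e, mul_zero])
    have ho : orderOf (g ^ i) = p := by
      rw [orderOf_pow, hi', Nat.gcd_eq_right (dvd_mul_left i p), Nat.mul_div_cancel _ hi0]
    obtain ⟨k, hk⟩ := conj_into (p := p) T hi (ho.trans (pow_one p).symm)
    refine ⟨k, ?_⟩
    rw [← hT _ hk (conj_ne_one k fun e => by rw [e, orderOf_one] at ho; exact hp.one_lt.ne ho),
      mem_centralizer_singleton_iff]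
    exact (commute_conj k ((Commute.refl g).pow_right i)).eq
  have hdiv : ∀ T : Subgroup G, Nat.card G / Nat.card T = T.index := fun T => by
    rw [← card_mul_index T, Nat.mul_div_cancel_left _ Nat.card_pos]
  have hpidx : ∀ (T : Subgroup G), Nat.card T ∣ c → (∀ p : ℕ, p.Prime → p ∣ c → ¬ p ∣ T.index) → Nat.card T = c :=
    fun T hd h => D.eq_c hd (by rwa [hdiv T])
  -- a second class
  obtain ⟨p₂, hp₂, hp₂c, hp₂1⟩ : ∃ p : ℕ, p.Prime ∧ p ∣ c ∧ p ∣ T₁.index := by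
    by_contra hno
    push Not at hno
    have hc1 := hpidx T₁ hd₁ hno
    have heq : S T₁ = {g | g ≠ 1 ∧ ∀ p : ℕ, p.Prime → p ∣ orderOf g → p ∣ c} := by
      refine (hSX T₁ hd₁).antisymm fun g ⟨h1, h2⟩ => ⟨h1, ?_⟩
      obtain ⟨p, hp, hpd⟩ := Nat.exists_prime_and_dvd (fun e => h1 (orderOf_eq_one_iff.1 e))
      exact hcovp g h1 T₁ hce₁ p hp hpd (hno p hp (h2 p hp hpd))
    have hX1 : X = Nat.card {g : G // g ≠ 1 ∧ ∃ k : G, k * g * k⁻¹ ∈ T₁} := (congrArg Set.ncard heq).symm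
    rw [← hX1, hc1, hn] at hS₁
    have h1 : X * e₁ = N0 * (c - 1) := by
      refine Nat.eq_of_mul_eq_mul_right (show 0 < c by omega) ?_
      rw [mul_assoc, hS₁]; ring
    have h2 : e₁ * (c - q - 1) = 3 * (c - 1) := by
      refine Nat.eq_of_mul_eq_mul_left hN0pos ?_
      calc N0 * (e₁ * (c - q - 1)) = 3 * (X * e₁) := by rw [← mul_assoc 3, hX]; ring
        _ = N0 * (3 * (c - 1)) := by rw [h1]; ring
    interval_cases e₁ <;> omega
  obtain ⟨T₂, e₂, hcy₂, hd₂, h7₂, hpT₂, hce₂, hh₂, he₂, he₂6, hN₂, hS₂⟩ := D.exists_big Q hp₂ hp₂c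
  have hcop : Nat.Coprime (Nat.card T₁) (Nat.card T₂) := by
    refine Nat.coprime_of_dvd fun p hp h1 h2 => ?_
    exact hh₁ p₂ hp₂ (D.common_prime_conj hce₁ hce₂ hp h2 (hh₁ p hp h1) ▸ hpT₂) hp₂1
  have hdisjT : ∀ A B : Subgroup G, Nat.Coprime (Nat.card A) (Nat.card B) → Disjoint (S A) (S B) := by
    intro A B h
    rw [Set.disjoint_left]
    rintro g ⟨h1, k, hk⟩ ⟨-, l, hl⟩
    refine h1 (orderOf_eq_one_iff.1 (Nat.eq_one_of_dvd_coprimes h ?_ ?_))
    · rw [← orderOf_conj k, ← Subgroup.orderOf_mk _ hk]; exact orderOf_dvd_natCard _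
    · rw [← orderOf_conj l, ← Subgroup.orderOf_mk _ hl]; exact orderOf_dvd_natCard _
  -- no third class
  have hno3 : ∀ p : ℕ, p.Prime → p ∣ c → ¬ p ∣ T₁.index ∨ ¬ p ∣ T₂.index := by
    intro p hp hpc
    by_contra hh
    push Not at hh
    obtain ⟨T₃, e₃, -, hd₃, h7₃, hpT₃, hce₃, -, he₃, he₃6, -, hS₃⟩ := D.exists_big Q hp hpc
    have hcop13 : Nat.Coprime (Nat.card T₁) (Nat.card T₃) := Nat.coprime_of_dvd fun l hl h1 h2 =>
      hh₁ p hp (D.common_prime_conj hce₁ hce₃ hl h2 (hh₁ l hl h1) ▸ hpT₃) hh.1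
    have hcop23 : Nat.Coprime (Nat.card T₂) (Nat.card T₃) := Nat.coprime_of_dvd fun l hl h1 h2 =>
      hh₂ p hp (D.common_prime_conj hce₂ hce₃ hl h2 (hh₂ l hl h1) ▸ hpT₃) hh.2
    have hsub : (S T₁ ∪ S T₂ ∪ S T₃) ⊆ {g | g ≠ 1 ∧ ∀ p : ℕ, p.Prime → p ∣ orderOf g → p ∣ c} :=
      Set.union_subset (Set.union_subset (hSX _ hd₁) (hSX _ hd₂)) (hSX _ hd₃)
    have hle := Set.ncard_le_ncard hsub (Set.toFinite _)
    rw [Set.ncard_union_eq (Set.disjoint_union_left.2 ⟨hdisjT _ _ hcop13, hdisjT _ _ hcop23⟩) (Set.toFinite _) (Set.toFinite _),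
      Set.ncard_union_eq (hdisjT _ _ hcop) (Set.toFinite _) (Set.toFinite _)] at hle
    have key : ∀ s e d : ℕ, s * (e * d) = Nat.card G * (d - 1) → 0 < e → e ≤ 6 → 7 ≤ d → Nat.card G ≤ 7 * s := by
      intro s e d h he he6 hd
      obtain ⟨d', rfl⟩ : ∃ d', d = d' + 1 := ⟨d - 1, by omega⟩
      rw [Nat.add_sub_cancel] at h
      refine Nat.le_of_mul_le_mul_right (?_ : Nat.card G * (6 * (d' + 1)) ≤ 7 * s * (6 * (d' + 1))) (by omega)
      calc Nat.card G * (6 * (d' + 1)) ≤ Nat.card G * (7 * d') := Nat.mul_le_mul_left _ (by omega)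
        _ = 7 * (s * (e * (d' + 1))) := by rw [h]; ring
        _ ≤ 7 * (s * (6 * (d' + 1))) :=
            Nat.mul_le_mul_left _ (Nat.mul_le_mul_left _ (Nat.mul_le_mul_right _ he6))
        _ = _ := by ring
    have k1 : Nat.card G ≤ 7 * (S T₁).ncard := key _ _ _ hS₁ he₁ he₁6 h7₁
    have k2 : Nat.card G ≤ 7 * (S T₂).ncard := key _ _ _ hS₂ he₂ he₂6 h7₂
    have k3 : Nat.card G ≤ 7 * (S T₃).ncard := key _ _ _ hS₃ he₃ he₃6 h7₃
    have hlt : N0 * (c - q - 1) ≤ N0 * c := Nat.mul_le_mul_left _ (by omega)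
    have hle' : (S T₁).ncard + (S T₂).ncard + (S T₃).ncard ≤ X := hle
    have hpos : 0 < N0 * c := Nat.mul_pos hN0pos (by omega)
    omega
  have hc12 : Nat.card T₁ * Nat.card T₂ = c := by
    refine D.eq_c (hcop.mul_dvd_of_dvd_of_dvd hd₁ hd₂) fun p hp hpc hpd => ?_
    have hmul : Nat.card T₁ * Nat.card T₂ ∣ Nat.card G := (hcop.mul_dvd_of_dvd_of_dvd hd₁ hd₂).trans D.c_dvd_card
    rcases hno3 p hp hpc with h | h
    · exact h (hpd.trans (by rw [← hdiv]; exact Nat.div_dvd_div_left hmul (dvd_mul_right _ _)))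
    · exact h (hpd.trans (by rw [← hdiv]; exact Nat.div_dvd_div_left hmul (dvd_mul_left _ _)))
  have hcov : ∀ g : G, g ≠ 1 → (∀ p : ℕ, p.Prime → p ∣ orderOf g → p ∣ c) →
      (∃ k : G, k * g * k⁻¹ ∈ T₁) ∨ (∃ k : G, k * g * k⁻¹ ∈ T₂) := by
    intro g h1 h2
    obtain ⟨p, hp, hpd⟩ := Nat.exists_prime_and_dvd (fun e => h1 (orderOf_eq_one_iff.1 e))
    rcases hno3 p hp (h2 p hp hpd) with h | h
    · exact Or.inl (hcovp g h1 T₁ hce₁ p hp hpd h)
    · exact Or.inr (hcovp g h1 T₂ hce₂ p hp hpd h)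
  have hunion : S T₁ ∪ S T₂ = {g | g ≠ 1 ∧ ∀ p : ℕ, p.Prime → p ∣ orderOf g → p ∣ c} :=
    (Set.union_subset (hSX _ hd₁) (hSX _ hd₂)).antisymm fun g ⟨h1, h2⟩ =>
      (hcov g h1 h2).imp (fun h => ⟨h1, h⟩) (fun h => ⟨h1, h⟩)
  have hXsum : X = (S T₁).ncard + (S T₂).ncard := by
    show ({g | g ≠ 1 ∧ ∀ p : ℕ, p.Prime → p ∣ orderOf g → p ∣ c} : Set G).ncard = _
    rw [← hunion, Set.ncard_union_eq (hdisjT _ _ hcop) (Set.toFinite _) (Set.toFinite _)]
  -- arithmetic over the integers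
  set c₁ := Nat.card T₁ with hc₁
  set c₂ := Nat.card T₂ with hc₂
  have hS1' : (S T₁).ncard * (e₁ * c₁) = N0 * c * (c₁ - 1) := hn ▸ hS₁
  have hS2' : (S T₂).ncard * (e₂ * c₂) = N0 * c * (c₂ - 1) := hn ▸ hS₂
  generalize (S T₁).ncard = s₁ at hXsum hS1'
  generalize (S T₂).ncard = s₂ at hXsum hS2'
  zify [show q + 1 ≤ c by omega, show q ≤ c by omega, show 1 ≤ c - q by omega, show 1 ≤ c₁ by omega,
    show 1 ≤ c₂ by omega] at hX hXsum hS1' hS2'
  have hcq' : (c : ℤ) + q = (q : ℤ) ^ 2 + 1 := by exact_mod_cast hcq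
  have hc12' : (c₁ : ℤ) * c₂ = c := by exact_mod_cast hc12
  have e1 : (s₁ : ℤ) * e₁ = N0 * ((c : ℤ) - c₂) := by
    refine mul_right_cancel₀ (show (c₁ : ℤ) ≠ 0 by omega) ?_
    linear_combination hS1' + (N0 : ℤ) * hc12'
  have e2 : (s₂ : ℤ) * e₂ = N0 * ((c : ℤ) - c₁) := by
    refine mul_right_cancel₀ (show (c₂ : ℤ) ≠ 0 by omega) ?_
    linear_combination hS2' + (N0 : ℤ) * hc12'
  have hrel : (e₁ : ℤ) * e₂ * ((c : ℤ) - q - 1) = 3 * (e₂ * ((c : ℤ) - c₂) + e₁ * ((c : ℤ) - c₁)) := by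
    refine mul_left_cancel₀ (show (N0 : ℤ) ≠ 0 by omega) ?_
    linear_combination (-(e₁ : ℤ) * e₂) * hX + 3 * (e₁ : ℤ) * e₂ * hXsum + 3 * (e₂ : ℤ) * e1 + 3 * (e₁ : ℤ) * e2
  have hsum7 : 7 * (c₁ : ℤ) + 7 * c₂ ≤ c + 49 := by
    have := mul_nonneg (show (0 : ℤ) ≤ c₁ - 7 by omega) (show (0 : ℤ) ≤ c₂ - 7 by omega)
    linarith [hc12']
  have hc1le : (c₁ : ℤ) ≤ c := by exact_mod_cast Nat.le_of_dvd (by omega) hd₁
  have hc2le : (c₂ : ℤ) ≤ c := by exact_mod_cast Nat.le_of_dvd (by omega) hd₂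
  have hcbig' : 26 * (q : ℤ) ≤ c := by exact_mod_cast hcbig
  have hq' : (27 : ℤ) ≤ q := by exact_mod_cast hq
  have he12 : e₁ = 6 ∧ e₂ = 6 := by
    by_contra hne
    interval_cases e₁ <;> interval_cases e₂ <;> first | omega | (push_cast at hrel; omega)
  obtain ⟨rfl, rfl⟩ := he12
  push_cast at hrel
  have hsum : (c₁ : ℤ) + c₂ = 2 * (q + 1) := by linarith
  have hr' : (r : ℤ) * r = 3 * q := by exact_mod_cast D.hr
  have hsq : ((c₁ : ℤ) - (q + 1)) ^ 2 = (r : ℤ) ^ 2 := by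
    have : (c₂ : ℤ) = 2 * (q + 1) - c₁ := by linarith
    rw [this] at hc12'
    linear_combination (-1 : ℤ) * hc12' - hcq' - hr'
  have hrq : r < q + 1 := by
    by_contra h
    push Not at h
    have := Nat.mul_le_mul h h
    rw [D.hr] at this
    nlinarith
  have hprod : (q + 1 - r) * (q + 1 + r) = c := by
    rw [← Nat.cast_inj (R := ℤ)]
    push_cast [Nat.cast_sub hrq.le]
    linear_combination (-1 : ℤ) * hr' - hcq'
  rcases sq_eq_sq_iff_eq_or_eq_neg.1 hsq with h | h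
  · have hA : Nat.card T₁ = q + 1 + r := by rw [← hc₁]; omega
    have hB : Nat.card T₂ = q + 1 - r := by rw [← hc₂]; omega
    exact ⟨T₂, T₁, ⟨hcy₂, hB, hce₂, by rw [hN₂]; exact congrArg (6 * ·) hB⟩,
      ⟨hcy₁, hA, hce₁, by rw [hN₁]; exact congrArg (6 * ·) hA⟩, hrq, hprod, fun g a b => (hcov g a b).symm⟩
  · have hA : Nat.card T₁ = q + 1 - r := by rw [← hc₁]; omega
    have hB : Nat.card T₂ = q + 1 + r := by rw [← hc₂]; omega
    exact ⟨T₁, T₂, ⟨hcy₁, hA, hce₁, by rw [hN₁]; exact congrArg (6 * ·) hA⟩,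
      ⟨hcy₂, hB, hce₂, by rw [hN₂]; exact congrArg (6 * ·) hB⟩, hrq, hprod, hcov⟩

end ToriData

end CfsgLib.SmallRee
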