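import Cfsg.Agent.Lib.SmallRee.ToriCent

/-!
The normaliser of a four-group of a small Ree group, the centraliser of an element of the torus of
order `(q + 1) / 4`, and the centraliser of an element of the split torus.
-/

set_option autoImplicit false

namespace CfsgLib.SmallRee

open Subgroup

namespace Quad

variable {G : Type*} [Group G] [Finite G] {q a r : ℕ} {u v : G} {O : Subgroup G} (Q : Quad a u v O)
include Q

theorem huvu : u * v * u = v := by rw [mul_assoc, ← Q.comm.eq, Q.huuv]

theorem triple_spec {x : G} (hx : x ∈ triple u v) : x * x = 1 ∧ x ≠ 1 := by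
  rcases hx with rfl | rfl | rfl
  exacts [⟨Q.u_sq, Q.u_ne⟩, ⟨Q.v_sq, Q.v_ne⟩, ⟨Q.uv_sq, Q.uv_ne⟩]

theorem cent_le_normalizer {g : G} (hu : Commute u g) (hv : Commute v g) :
    g ∈ normalizer (triple u v) := by
  have hfix : ∀ x ∈ triple u v, g * x * g⁻¹ = x := by
    intro x hx
    rcases hx with rfl | rfl | rfl
    · rw [← hu.eq, mul_inv_cancel_right]
    · rw [← hv.eq, mul_inv_cancel_right]
    · rw [← (hu.mul_left hv).eq, mul_inv_cancel_right]
  rw [Subgroup.mem_normalizer_iff_conj_image_eq, Set.image_congr (g := fun x => x) (fun x hx => show MulAut.conj g x = x from hfix x hx)]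
  exact Set.image_id' _

theorem fix_of_fix {g : G} (hg : g ∈ normalizer (triple u v)) (hu : Commute u g) : Commute v g := by
  have h := (mem_set_normalizer_iff.1 hg v).1 (Or.inr (Or.inl rfl))
  rcases h with e | e | e
  · refine absurd ?_ Q.v_ne_u
    calc v = g⁻¹ * (g * v * g⁻¹) * g := by group
      _ = g⁻¹ * (u * g) := by rw [e, mul_assoc]
      _ = u := by rw [hu.eq, inv_mul_cancel_left]
  · exact (mul_inv_eq_iff_eq_mul.1 e).symm
  · exact absurd e (Q.no_swap g hu)

theorem card_normalizer_inf (D : ToriData G q a r) :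
    Nat.card ↥(centralizer ({u} : Set G) ⊓ normalizer (triple u v)) = 8 * a := by
  rw [← Q.card_cent]
  congr 2
  ext g
  rw [mem_inf, mem_inf, mem_centralizer_singleton_iff, mem_centralizer_singleton_iff]
  exact ⟨fun h => ⟨h.1, (Q.fix_of_fix h.2 h.1.symm).symm⟩,
    fun h => ⟨h.1, Q.cent_le_normalizer h.1.symm h.2.symm⟩⟩

/-- The normaliser of a four-group permutes its involutions transitively. -/
theorem orbit_triple (D : ToriData G q a r) :
    {y : G | ∃ n ∈ normalizer (triple u v), n * u * n⁻¹ = y} = triple u v := by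
  classical
  haveI := Fact.mk Nat.prime_two
  haveI := Fintype.ofFinite G
  obtain ⟨S, hu, hv⟩ := D.exists_sylow_pair Q.u_sq Q.v_sq Q.comm
  have h8 := (D.sylow_two S).1
  have hsq := (D.sylow_two S).2
  set N := normalizer (S : Set G)
  set A : Set G := {y | ∃ n ∈ normalizer (triple u v), n * u * n⁻¹ = y}
  have hA : A ⊆ triple u v := by
    rintro y ⟨n, hn, rfl⟩
    exact (mem_set_normalizer_iff.1 hn u).1 (Or.inl rfl)
  refine hA.antisymm ?_
  -- lines through pairs
  let I : Finset G := Finset.univ.filter fun x => x ∈ S ∧ x ≠ 1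
  have hI : I.card = 7 := by
    rw [← sylow_invols_fin S h8]
  let P := I.offDiag
  let f : G × G → Finset G := fun p => {p.1, p.2, p.1 * p.2}
  have hfib : ∀ L ∈ P.image f, 6 ≤ (P.filter fun p => f p = L).card := by
    intro L hL
    obtain ⟨⟨x, y⟩, hp, rfl⟩ := Finset.mem_image.1 hL
    simp only [P, Finset.mem_offDiag, I, Finset.mem_filter, Finset.mem_univ, true_and] at hp
    obtain ⟨⟨hx, hx1⟩, ⟨hy, hy1⟩, hxy⟩ := hp
    have hxx := hsq x hx
    have hyy := hsq y hy
    have hc : x * y = y * x := (D.sylow_comm S x hx y hy).eq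
    have hxxy : x * (x * y) = y := by rw [← mul_assoc, hxx, one_mul]
    have hyxy : y * (x * y) = x := by rw [hc, ← mul_assoc, hyy, one_mul]
    have hxyx : x * y * x = y := by rw [mul_assoc, ← hc, hxxy]
    have hxyy : x * y * y = x := by rw [mul_assoc, hyy, mul_one]
    have h1 : x * y ≠ 1 := fun e => hxy (by rw [← hxxy, e, mul_one])
    have h2 : x * y ≠ x := fun e => hy1 (mul_eq_left.1 e)
    have h3 : x * y ≠ y := fun e => hx1 (mul_eq_right.1 e)
    refine le_trans ?_ (Finset.card_le_card (s := ({x, y, x * y} : Finset G).offDiag) ?_)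
    · rw [Finset.offDiag_card]
      have : ({x, y, x * y} : Finset G).card = 3 := Finset.card_eq_three.2 ⟨x, y, x * y, hxy, h2.symm, h3.symm, rfl⟩
      rw [this]
    · rintro ⟨b, c⟩ hbc
      simp only [Finset.mem_offDiag, Finset.mem_insert, Finset.mem_singleton] at hbc
      obtain ⟨hb, hc', hne⟩ := hbc
      simp only [P, I, f, Finset.mem_filter, Finset.mem_offDiag, Finset.mem_univ, true_and]
      have hmem : ∀ b, b = x ∨ b = y ∨ b = x * y → b ∈ S ∧ b ≠ 1 := by
        rintro b (rfl | rfl | rfl)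
        exacts [⟨hx, hx1⟩, ⟨hy, hy1⟩, ⟨mul_mem hx hy, h1⟩]
      refine ⟨⟨hmem b hb, hmem c hc', hne⟩, ?_⟩
      rcases hb with rfl | rfl | rfl <;> rcases hc' with rfl | rfl | rfl <;>
        first | exact absurd rfl hne | skip
      all_goals (ext z; simp [hxxy, hyxy, hxyx, hxyy, ← hc] <;> tauto)
  have hlines : (P.image f).card ≤ 7 := by
    have h := Finset.mul_card_image_le_card P 6 hfib
    rw [Finset.offDiag_card, hI] at h
    omega
  -- the pigeonhole
  let T₀ : Finset G := {u, v, u * v}
  let NF : Finset G := Finset.univ.filter fun n => n ∈ N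
  have hNF : NF.card = 168 := by
    rw [← D.card_normalizer_sylow S, Nat.card_eq_fintype_card, Fintype.card_subtype]
  let g : G → Finset G := fun n => T₀.image fun x => n * x * n⁻¹
  have hgmaps : ∀ n ∈ NF, g n ∈ P.image f := by
    intro n hn
    have hn' : n ∈ N := (Finset.mem_filter.1 hn).2
    refine Finset.mem_image.2 ⟨(n * u * n⁻¹, n * v * n⁻¹), ?_, ?_⟩
    · simp only [P, I, Finset.mem_offDiag, Finset.mem_filter, Finset.mem_univ, true_and]
      exact ⟨⟨(mem_normalizer_iff.1 hn' u).1 hu, conj_ne_one n Q.u_ne⟩,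
        ⟨(mem_normalizer_iff.1 hn' v).1 hv, conj_ne_one n Q.v_ne⟩,
        fun e => Q.v_ne_u (mul_left_cancel (mul_right_cancel e)).symm⟩
    · simp [f, g, T₀, Finset.image_insert]
  obtain ⟨L, -, hL⟩ := Finset.exists_le_card_fiber_of_mul_le_card_of_maps_to hgmaps
    (Finset.image_nonempty.2 ⟨(u, v), by simp [P, I, hu, hv, Q.u_ne, Q.v_ne, Q.v_ne_u.symm]⟩)
    (n := 24) (by rw [hNF]; omega)
  obtain ⟨n₀, hn₀⟩ := Finset.card_pos.1 (show 0 < (NF.filter fun n => g n = L).card by omega)
  set M := N ⊓ normalizer (triple u v)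
  have hM24 : 24 ≤ Nat.card M := by
    rw [Nat.card_eq_fintype_card, Fintype.card_subtype]
    refine hL.trans (Finset.card_le_card_of_injOn (fun n => n₀⁻¹ * n) ?_ fun _ _ _ _ e => mul_left_cancel e)
    intro n hn
    simp only [Finset.mem_coe, Finset.mem_filter, NF, Finset.mem_univ, true_and] at hn hn₀ ⊢
    refine Subgroup.mem_inf.2 ⟨N.mul_mem (N.inv_mem hn₀.1) hn.1, Subgroup.mem_normalizer_iff_conj_image_eq.2 ?_⟩
    have e : (g n : Set G) = (g n₀ : Set G) := by rw [hn.2, hn₀.2]
    have hg : ∀ k, (g k : Set G) = (fun x => k * x * k⁻¹) '' triple u v := fun k => by simp [g, T₀, triple, Set.image_insert_eq]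
    rw [hg, hg] at e
    have := congrArg (fun s => (fun x => n₀⁻¹ * x * n₀) '' s) e
    simp only [Set.image_image] at this
    rw [Set.image_congr (g := fun x => n₀⁻¹ * n * x * (n₀⁻¹ * n)⁻¹) (fun x _ => by group),
      Set.image_congr (g := fun x : G => x) (f := fun x => n₀⁻¹ * (n₀ * x * n₀⁻¹) * n₀) (fun x _ => by group),
      Set.image_id'] at this
    exact this
  -- the stabiliser of `u` in `M` is `S`
  have hidx : 3 ≤ (centralizer ({u} : Set G)).relIndex M := by
    have hle : Nat.card ↥(centralizer ({u} : Set G) ⊓ M) ≤ 8 := by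
      rw [← h8]
      refine Subgroup.card_le_of_le fun g hg => ?_
      have hgu := (mem_centralizer_singleton_iff.1 hg.1).symm
      exact Q.normalizer_inf_le D S hu hv hg.2.1 hgu (Q.fix_of_fix hg.2.2 hgu)
    have hm := card_mul_index ((centralizer ({u} : Set G) ⊓ M).subgroupOf M)
    rw [Nat.card_congr (subgroupOfEquivOfLe (inf_le_right : centralizer ({u} : Set G) ⊓ M ≤ M)).toEquiv,
      show ((centralizer ({u} : Set G) ⊓ M).subgroupOf M).index = (centralizer ({u} : Set G) ⊓ M).relIndex M from rfl,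
      inf_relIndex_right] at hm
    by_contra hlt
    have := Nat.mul_le_mul hle (show (centralizer ({u} : Set G)).relIndex M ≤ 2 by omega)
    omega
  rw [← card_conj_set] at hidx
  set B : Set G := {y | ∃ n ∈ M, n * u * n⁻¹ = y}
  have hBA : B ⊆ A := fun y ⟨n, hn, e⟩ => ⟨n, hn.2, e⟩
  have h3 : (triple u v).ncard ≤ 3 := by
    refine (Set.ncard_insert_le _ _).trans (Nat.succ_le_succ ?_)
    refine (Set.ncard_insert_le _ _).trans (Nat.succ_le_succ ?_)
    rw [Set.ncard_singleton]
  rw [← Set.eq_of_subset_of_ncard_le (hBA.trans hA) (by change 3 ≤ B.ncard at hidx; omega) (Set.toFinite _)]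
  exact hBA
where
  sylow_invols_fin {G : Type _} [Group G] [Fintype G] [DecidableEq G] (S : Sylow 2 G) [DecidablePred (· ∈ S)]
      (h8 : Nat.card S = 8) : (Finset.univ.filter fun x => x ∈ S ∧ x ≠ 1).card = 7 := by
    rw [← ToriData.sylow_invols S h8, Nat.card_eq_fintype_card, Fintype.card_subtype]

theorem exists_conj_u (D : ToriData G q a r) {x : G} (hx : x ∈ triple u v) :
    ∃ n ∈ normalizer (triple u v), n * u * n⁻¹ = x := by
  have h := Q.orbit_triple D
  rw [← h] at hx
  exact hx

/-- `|N(V)| = 24 a`. -/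
theorem card_normalizer (D : ToriData G q a r) : Nat.card (normalizer (triple u v)) = 24 * a := by
  have h3 : (triple u v).ncard = 3 := Set.ncard_eq_three.2 ⟨u, v, u * v, Q.v_ne_u.symm, Q.uv_ne_u.symm, Q.uv_ne_v.symm, rfl⟩
  set N := normalizer (triple u v)
  have hm := card_mul_index ((centralizer ({u} : Set G) ⊓ N).subgroupOf N)
  rw [Nat.card_congr (subgroupOfEquivOfLe (inf_le_right : centralizer ({u} : Set G) ⊓ N ≤ N)).toEquiv,
    show ((centralizer ({u} : Set G) ⊓ N).subgroupOf N).index = (centralizer ({u} : Set G) ⊓ N).relIndex N from rfl,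
    inf_relIndex_right, ← card_conj_set, Q.card_normalizer_inf D,
    show Nat.card {y : G // ∃ n ∈ N, n * u * n⁻¹ = y} = (triple u v).ncard from by
      rw [← Q.orbit_triple D]; rfl, h3] at hm
  omega

/-- The centraliser of a non-trivial element of `O` is `W`. -/
theorem centralizer_eq (D : ToriData G q a r) {z : G} (hz : z ∈ O) (hz1 : z ≠ 1) :
    centralizer ({z} : Set G) = Wgrp u v O := by
  haveI := Fact.mk Nat.prime_two
  haveI := Fact.mk Nat.prime_three
  set C := centralizer ({z} : Set G) with hC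
  have hWC : Wgrp u v O ≤ C := fun x hx =>
    mem_centralizer_singleton_iff.2 (mem_centralizer_iff.1 (mem_inf.1 hx).2 z hz).symm
  refine le_antisymm ?_ hWC
  have hzord : Odd (orderOf z) := Q.odd_of_mem D hz
  -- no element of order three
  have h3 : ¬ 3 ∣ Nat.card C := by
    intro h
    obtain ⟨⟨y, hy⟩, hyo⟩ := exists_prime_orderOf_dvd_card' 3 h
    rw [Subgroup.orderOf_mk] at hyo
    obtain ⟨P, hP⟩ := (IsPGroup.of_card (n := 1) ((Nat.card_zpowers y).trans (by rw [hyo, pow_one]) :
      Nat.card (zpowers y) = 3 ^ 1)).exists_le_sylow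
    obtain ⟨P₀, hP₀⟩ := D.U_sylow
    obtain ⟨k, rfl⟩ := MulAction.exists_smul_eq G P₀ P
    obtain ⟨w, hw, hwy⟩ := hP (mem_zpowers y)
    replace hwy : k * w * k⁻¹ = y := hwy
    have hwU : w ∈ D.U := hP₀ ▸ hw
    have hw1 : w ≠ 1 := fun e => by
      rw [← hwy, e, mul_one, mul_inv_cancel, orderOf_one] at hyo; omega
    have hzy : Commute z y := (mem_centralizer_singleton_iff.1 hy).symm
    set z' := k⁻¹ * z * k
    have hz'w : Commute z' w := by
      have := commute_conj k⁻¹ hzy
      rwa [← hwy, inv_inv, show k⁻¹ * (k * w * k⁻¹) * k = w by group] at this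
    have hz'N : z' ∈ normalizer (D.U : Set G) :=
      D.U_ti w hwU hw1 z' (by rw [hz'w.eq, mul_inv_cancel_right]; exact hwU)
    have hd : orderOf z' ∣ q ^ 3 * (q - 1) := by
      rw [← D.card_NU, ← Subgroup.orderOf_mk z' hz'N]
      exact orderOf_dvd_natCard _
    have ho : orderOf z' = orderOf z := by
      rw [show z' = k⁻¹ * z * k⁻¹⁻¹ by rw [inv_inv], orderOf_conj]
    rw [ho] at hd
    have hza : orderOf z ∣ a := orderOf_dvd_of_pow_eq_one (Q.pow_a hz)
    exact hz1 (orderOf_eq_one_iff.1 (Nat.eq_one_of_dvd_coprimes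
      ((D.coprime_q_a.symm.pow_right 3).mul_right D.coprime_a_q_sub) hza hd))
  -- the four-group is a Sylow 2-subgroup of `C`
  let V : Subgroup G :=
    { carrier := {x | x ∈ Wgrp u v O ∧ x * x = 1}
      one_mem' := ⟨one_mem _, one_mul 1⟩
      mul_mem' := fun {x y} hx hy => ⟨mul_mem hx.1 hy.1, by
        rw [(Q.W_comm D y hy.1 x hx.1).mul_mul_mul_comm, hx.2, hy.2, one_mul]⟩
      inv_mem' := fun {x} hx => ⟨inv_mem hx.1, by rw [inv_eq_of_mul_eq_one_right hx.2]; exact hx.2⟩ }
  have hVset : (V : Set G) = {1, u, v, u * v} := by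
    ext x
    constructor
    · rintro ⟨hx, hx2⟩
      obtain ⟨y, hy, w, hw, rfl⟩ := (Q.W_structure D).2 x hx
      have hyw : Commute w y := Q.W_comm D w (Q.O_le_W hw) y (Q.four_mem hy).1
      rw [hyw.mul_mul_mul_comm, (Q.four_mem hy).2, one_mul] at hx2
      have : w = 1 := by
        by_contra hw1
        have h := (Q.odd_of_mem D hw)
        rw [orderOf_eq_two hx2 hw1] at h
        exact absurd h (by decide)
      rw [this, mul_one]
      simpa only [Set.mem_insert_iff, Set.mem_singleton_iff] using hy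
    · exact fun hx => Q.four_mem (by simpa only [Set.mem_insert_iff, Set.mem_singleton_iff] using hx)
  have hV4 : Nat.card V = 4 := by
    rw [show Nat.card V = Nat.card (V : Set G) from rfl, Nat.card_coe_set_eq, hVset,
      Set.ncard_insert_of_notMem (by simp [Q.u_ne.symm, Q.v_ne.symm, Q.uv_ne.symm]),
      show ({u, v, u * v} : Set G).ncard = 3 from Set.ncard_eq_three.2
        ⟨u, v, u * v, Q.v_ne_u.symm, Q.uv_ne_u.symm, Q.uv_ne_v.symm, rfl⟩]
  have hVC : V ≤ C := fun x hx => hWC hx.1
  have hfac : (Nat.card C).factorization 2 = 2 := by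
    have h4 : 2 ^ 2 ∣ Nat.card C := by
      rw [show (2 : ℕ) ^ 2 = 4 from rfl, ← hV4]; exact card_dvd_of_le hVC
    have hge := (Nat.prime_two.pow_dvd_iff_le_factorization Nat.card_pos.ne').1 h4
    by_contra hne
    obtain ⟨Q₀⟩ := (inferInstance : Nonempty (Sylow 2 C))
    obtain ⟨S, hS⟩ := (Q₀.2.map C.subtype).exists_le_sylow
    have hc8 : 2 ^ 3 ∣ Nat.card ((Q₀ : Subgroup C).map C.subtype) := by
      rw [card_map_of_injective C.subtype_injective, Q₀.card_eq_multiplicity]
      exact pow_dvd_pow 2 (by omega)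
    have heq : (Q₀ : Subgroup C).map C.subtype = S := eq_of_le_of_card_ge hS (by
      rw [show Nat.card (S : Subgroup G) = 8 from (D.sylow_two S).1]
      exact Nat.le_of_dvd Nat.card_pos hc8)
    have hzS : z ∈ centralizer ((S : Subgroup G) : Set G) := mem_centralizer_iff.2 fun x hx => by
      rw [SetLike.mem_coe, ← heq] at hx
      obtain ⟨x, -, rfl⟩ := hx
      exact mem_centralizer_singleton_iff.1 x.2
    rw [D.centralizer_sylow] at hzS
    have h2 := (D.sylow_two S).2 z hzS
    rw [orderOf_eq_two h2 hz1] at hzord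
    exact absurd hzord (by decide)
  let P : Sylow 2 C := Sylow.ofCard (V.subgroupOf C) (by
    rw [Nat.card_congr (subgroupOfEquivOfLe hVC).toEquiv, hV4, hfac]; rfl)
  have hPV : ∀ x : C, x ∈ (P : Subgroup C) ↔ (x : G) ∈ V := fun x => by
    show x ∈ V.subgroupOf C ↔ _
    rw [mem_subgroupOf]
  have hN : normalizer ((P : Subgroup C) : Set C) ≤ centralizer ((P : Subgroup C) : Set C) := by
    intro n hn
    have hmap : ∀ x ∈ triple u v, (n : G) * x * (n : G)⁻¹ ∈ triple u v := by
      intro x hx
      have hxV : x ∈ V := by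
        show x ∈ (V : Set G)
        rw [hVset]; exact Or.inr hx
      have := ((mem_normalizer_iff.1 hn ⟨x, hVC hxV⟩).1 ((hPV _).2 hxV))
      rw [hPV] at this
      have h' : (n : G) * x * (n : G)⁻¹ ∈ (V : Set G) := this
      rw [hVset] at h'
      exact h'.resolve_left (conj_ne_one _ (Q.triple_spec hx).2)
    have hnN : (n : G) ∈ normalizer (triple u v) := by
      rw [Subgroup.mem_normalizer_iff_conj_image_eq]
      exact Set.eq_of_subset_of_ncard_le (Set.image_subset_iff.2 hmap)
        (Set.ncard_image_of_injective _ (MulAut.conj (n : G)).injective).ge (Set.toFinite _)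
    -- `n` fixes `u`
    have hnu : Commute u (n : G) := by
      have hcase : Commute u ((n : G) ^ 3) := by
        rcases hmap u (Or.inl rfl) with e | e | e
        · exact Commute.pow_right (mul_inv_eq_iff_eq_mul.1 e).symm 3
        · -- `u ↦ v ↦ uv ↦ u`
          have hv' : (n : G) * v * (n : G)⁻¹ = u * v := by
            rcases hmap v (Or.inr (Or.inl rfl)) with f | f | f
            · exfalso
              have h2 : (n : G) * (u * v) * (n : G)⁻¹ = u * v := by
                rw [← Q.comm.eq.symm, show (n : G) * (v * u) * (n : G)⁻¹ = ((n : G) * v * (n : G)⁻¹) * ((n : G) * u * (n : G)⁻¹) by group, e, f]; exact Q.comm.eq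
              -- a transposition fixing `u * v`
              have Q' := (Q.shift D).shift D
              rw [Q.hvuv] at Q'
              exact Q'.no_swap n (mul_inv_eq_iff_eq_mul.1 h2).symm
                (by rw [e, Q.huvu])
            · exact absurd (mul_left_cancel (mul_right_cancel (e.trans f.symm))) Q.v_ne_u.symm
            · exact f
          have huv' : (n : G) * (u * v) * (n : G)⁻¹ = u := by
            rw [show (n : G) * (u * v) * (n : G)⁻¹ = ((n : G) * u * (n : G)⁻¹) * ((n : G) * v * (n : G)⁻¹) by group, e, hv', Q.hvuv]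
          refine (mul_inv_eq_iff_eq_mul.1 ?_).symm
          rw [show (n : G) ^ 3 * u * ((n : G) ^ 3)⁻¹ = (n : G) * ((n : G) * ((n : G) * u * (n : G)⁻¹) * (n : G)⁻¹) * (n : G)⁻¹ by simp only [pow_succ, pow_zero, one_mul, _root_.mul_inv_rev, mul_assoc], e, hv', huv']
        · have huv' : (n : G) * (u * v) * (n : G)⁻¹ = v := by
            rcases hmap (u * v) (Or.inr (Or.inr rfl)) with f | f | f
            · exfalso
              have h2 : (n : G) * v * (n : G)⁻¹ = v := by
                conv_lhs => rw [← Q.huuv]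
                rw [show (n : G) * (u * (u * v)) * (n : G)⁻¹ = ((n : G) * u * (n : G)⁻¹) * ((n : G) * (u * v) * (n : G)⁻¹) by group, e, f, Q.huvu]
              exact (Q.shift D).no_swap n (mul_inv_eq_iff_eq_mul.1 h2).symm (by rw [f, Q.hvuv])
            · exact f
            · exact absurd (mul_left_cancel (mul_right_cancel (e.trans f.symm))) Q.uv_ne_u.symm
          have hv' : (n : G) * v * (n : G)⁻¹ = u := by
            conv_lhs => rw [← Q.huuv]
            rw [show (n : G) * (u * (u * v)) * (n : G)⁻¹ = ((n : G) * u * (n : G)⁻¹) * ((n : G) * (u * v) * (n : G)⁻¹) by group, e, huv',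
              mul_assoc, Q.v_sq, mul_one]
          refine (mul_inv_eq_iff_eq_mul.1 ?_).symm
          rw [show (n : G) ^ 3 * u * ((n : G) ^ 3)⁻¹ = (n : G) * ((n : G) * ((n : G) * u * (n : G)⁻¹) * (n : G)⁻¹) * (n : G)⁻¹ by simp only [pow_succ, pow_zero, one_mul, _root_.mul_inv_rev, mul_assoc], e, huv', hv']
      obtain ⟨j, hj⟩ := exists_pow_eq_self_of_coprime (x := (n : G)) (n := 3) (by
        refine (Nat.prime_three.coprime_iff_not_dvd).2 fun h => h3 (h.trans ?_)
        rw [Subgroup.orderOf_coe]; exact orderOf_dvd_natCard _)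
      rw [← hj]; exact hcase.pow_right j
    have hnv := Q.fix_of_fix hnN hnu
    rw [mem_centralizer_iff]
    intro x hx
    have hx' : (x : G) ∈ (V : Set G) := (hPV x).1 hx
    rw [hVset] at hx'
    apply Subtype.ext
    show (x : G) * n = n * x
    rcases hx' with e | e | e | e <;> rw [e]
    exacts [(Commute.one_left _).eq, hnu.eq, hnv.eq, (hnu.mul_left hnv).eq]
  set f := MonoidHom.transferSylow P hN
  have hcompl : IsComplement' f.ker (P : Subgroup C) := MonoidHom.ker_transferSylow_isComplement' P hN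
  set X := f.ker.map C.subtype with hX
  have hVX : V ≤ normalizer (X : Set G) := fun x hx => by
    refine le_normalizer_map C.subtype ⟨⟨x, hVC hx⟩, ?_, rfl⟩
    haveI := f.normal_ker
    rw [normalizer_eq_top]; trivial
  have hXodd : Odd (Nat.card X) := by
    rw [hX, card_map_of_injective C.subtype_injective, Nat.odd_iff, ← Nat.two_dvd_ne_zero]
    exact MonoidHom.not_dvd_card_ker_transferSylow P hN
  have hVel : Cfsg.IsElementaryAbelian 2 V := by
    refine ⟨⟨⟨fun x y => Subtype.ext (Q.W_comm D x x.2.1 y y.2.1).eq⟩⟩, fun x hx => by rw [pow_two]; exact hx.2⟩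
  have hgen := CfsgLib.Coprime39.eq_hyperCent hVel
    (fun e => by rw [e, card_bot] at hV4; omega) (Nat.coprime_two_right.2 hXodd) hVX
  have hXC : X ≤ C := map_subtype_le _
  have hXO : X ≤ O := by
    rw [← hgen]
    refine iSup_le fun ⟨B, hBV, hB⟩ => ?_
    obtain ⟨x, hxB, hx1⟩ : ∃ x ∈ B, x ≠ 1 := by
      by_contra h
      push Not at h
      rw [(Subgroup.eq_bot_iff_forall B).2 h, relIndex_bot_left, hV4] at hB
      omega
    have hxV : x ∈ (V : Set G) := hBV hxB
    rw [hVset] at hxV
    intro y hy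
    obtain ⟨hyX, hyB⟩ := mem_inf.1 hy
    have hxy : Commute x y := mem_centralizer_iff.1 hyB x hxB
    have hzy : Commute z y := (mem_centralizer_singleton_iff.1 (hXC hyX)).symm
    have hyodd : Odd (orderOf y) := by
      refine Odd.of_dvd_nat hXodd ?_
      rw [← Subgroup.orderOf_mk y hyX]; exact orderOf_dvd_natCard _
    have hboth : Commute u y ∧ Commute v y := by
      rcases hxV with rfl | rfl | rfl | rfl
      · exact absurd rfl hx1
      · exact ⟨hxy, Q.cent_le z hz hz1 y hxy hzy⟩
      · have h := (Q.shift D).cent_le z hz hz1 y hxy hzy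
        exact ⟨by simpa [mul_assoc, Q.v_sq] using h.mul_left hxy, hxy⟩
      · have h : Commute u y := by
          have h := ((Q.shift D).shift D).cent_le z hz hz1 y hxy hzy
          rwa [Q.hvuv] at h
        exact ⟨h, by simpa [← mul_assoc, Q.u_sq] using h.mul_left hxy⟩
    exact Q.odd_mem y hboth.1 hboth.2 hyodd
  have hcardC : Nat.card C ≤ 4 * a := by
    rw [← hcompl.card_mul_card, show Nat.card f.ker = Nat.card X from (card_map_of_injective C.subtype_injective).symm,
      show Nat.card (P : Subgroup C) = 4 from by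
        rw [show Nat.card (P : Subgroup C) = Nat.card (V.subgroupOf C) from rfl,
          Nat.card_congr (subgroupOfEquivOfLe hVC).toEquiv, hV4]]
    have := card_le_of_le hXO
    rw [Q.card_O] at this
    omega
  exact (eq_of_le_of_card_ge hWC (by rw [(Q.W_structure D).1]; exact hcardC)).ge

/-- `O` is a trivial intersection set with normaliser `N(V)`. -/
theorem mem_normalizer_of_conj (D : ToriData G q a r) {z g : G} (hz : z ∈ O) (hz1 : z ≠ 1)
    (hg : g * z * g⁻¹ ∈ O) : g ∈ normalizer (triple u v) := by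
  have hmap : (centralizer ({z} : Set G)).map (MulAut.conj g).toMonoidHom = Wgrp u v O := by
    rw [centralizer_conj_map, Q.centralizer_eq D hg (conj_ne_one g hz1)]
  rw [Q.centralizer_eq D hz hz1] at hmap
  rw [Subgroup.mem_normalizer_iff_conj_image_eq]
  refine Set.eq_of_subset_of_ncard_le ?_ (Set.ncard_image_of_injective _ (MulAut.conj g).injective).ge (Set.toFinite _)
  rintro _ ⟨x, hx, rfl⟩
  obtain ⟨hx2, hx1⟩ := Q.triple_spec hx
  have hxW : x ∈ Wgrp u v O := (Q.four_mem (Or.inr hx)).1
  have hW : g * x * g⁻¹ ∈ Wgrp u v O := hmap ▸ mem_map_of_mem _ hxW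
  obtain ⟨y, hy, w, hw, e⟩ := (Q.W_structure D).2 _ hW
  have h2 := conj_sq g hx2
  rw [e, (Q.W_comm D w (Q.O_le_W hw) y (Q.four_mem hy).1).mul_mul_mul_comm, (Q.four_mem hy).2, one_mul] at h2
  have hw1 : w = 1 := by
    by_contra hw1
    have h := Q.odd_of_mem D hw
    rw [orderOf_eq_two h2 hw1] at h
    exact absurd h (by decide)
  rw [hw1, mul_one] at e
  show g * x * g⁻¹ ∈ triple u v
  rw [e]
  exact hy.resolve_left fun e' => conj_ne_one g hx1 (e.trans e')

/-- `N(V)` normalises `O`. -/
theorem normalizer_le (D : ToriData G q a r) : normalizer (triple u v) ≤ normalizer (O : Set G) := by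
  rw [le_normalizer_iff]
  intro n hn z hz
  refine Q.odd_mem _ ?_ ?_ ?_
  · have h := (mem_set_normalizer_iff.1 (inv_mem hn) u).1 (Or.inl rfl)
    rw [inv_inv] at h
    have hc : Commute (n⁻¹ * u * n) z := by
      rcases h with e | e | e <;> rw [e]
      exacts [(Q.cent z hz).1, (Q.cent z hz).2, (Q.cent z hz).1.mul_left (Q.cent z hz).2]
    have := commute_conj n hc
    rwa [show n * (n⁻¹ * u * n) * n⁻¹ = u by group] at this
  · have h := (mem_set_normalizer_iff.1 (inv_mem hn) v).1 (Or.inr (Or.inl rfl))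
    rw [inv_inv] at h
    have hc : Commute (n⁻¹ * v * n) z := by
      rcases h with e | e | e <;> rw [e]
      exacts [(Q.cent z hz).1, (Q.cent z hz).2, (Q.cent z hz).1.mul_left (Q.cent z hz).2]
    have := commute_conj n hc
    rwa [show n * (n⁻¹ * v * n) * n⁻¹ = v by group] at this
  · rw [orderOf_conj]; exact Q.odd_of_mem D hz

end Quad

namespace ToriData

variable {G : Type*} [Group G] [Finite G] {q a r : ℕ} (D : ToriData G q a r)
include D

/-- The centraliser of an element of the split torus which is no involution is the torus. -/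
theorem centralizer_torus {h : G} (hh : h ∈ D.H) (h2 : h * h ≠ 1) : centralizer ({h} : Set G) = D.H := by
  classical
  haveI := Fact.mk Nat.prime_two
  haveI := D.H_cyclic
  have hHC : D.H ≤ centralizer ({h} : Set G) := fun x hx => mem_centralizer_singleton_iff.2
    (congrArg Subtype.val (IsCyclic.commGroup.mul_comm (⟨x, hx⟩ : D.H) ⟨h, hh⟩) : _)
  refine le_antisymm ?_ hHC
  set C := centralizer ({h} : Set G)
  have hCN : C ≤ normalizer (D.H : Set G) := fun g hg => D.H_ti h hh h2 g (by
    rw [mem_centralizer_singleton_iff.1 hg, mul_inv_cancel_right]; exact hh)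
  obtain ⟨k, hk⟩ := card_dvd_of_le hHC
  obtain ⟨l, hl⟩ := card_dvd_of_le hCN
  rw [D.card_H] at hk
  rw [D.card_NH, hk, mul_assoc, mul_comm 2] at hl
  have hkl : k * l = 2 := (Nat.eq_of_mul_eq_mul_left (by have := D.hq; omega : 0 < q - 1) hl.symm)
  rcases (Nat.dvd_prime Nat.prime_two).1 ⟨l, hkl.symm⟩ with rfl | rfl
  · exact (eq_of_le_of_card_ge hHC (by rw [D.card_H, hk, mul_one])).ge
  exfalso
  -- `C` is all of `N(H)` and contains a four-group
  have h4 : 2 ^ 2 ∣ Nat.card C := by
    rw [hk]
    have := D.h4a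
    obtain ⟨j, hj⟩ : 2 ∣ q - 1 := by omega
    exact ⟨j, by rw [hj]; ring⟩
  obtain ⟨V, hV⟩ := Sylow.exists_subgroup_card_pow_prime 2 h4
  have hsq : ∀ x ∈ V, (x : G) * x = 1 := fun x hx => by
    have ho : orderOf (x : G) ∣ 2 ^ 2 := by
      rw [← hV, Subgroup.orderOf_coe, ← Subgroup.orderOf_mk x hx]; exact orderOf_dvd_natCard _
    obtain ⟨i, -, hi⟩ := (Nat.dvd_prime_pow Nat.prime_two).1 ho
    exact D.sq_of_two_pow hi
  obtain ⟨u, hu, hu1⟩ : ∃ u ∈ V, u ≠ 1 := by
    by_contra hno
    push Not at hno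
    rw [(Subgroup.eq_bot_iff_forall V).2 hno, card_bot] at hV
    omega
  obtain ⟨v, hv, hv1, hvu⟩ : ∃ v ∈ V, v ≠ 1 ∧ v ≠ u := by
    by_contra hno
    push Not at hno
    have hsub : (V : Set ↥C) ⊆ {1, u} := fun x hx => by
      rcases eq_or_ne x 1 with e | e
      · exact Or.inl e
      · exact Or.inr (hno x hx e)
    have := Set.ncard_le_ncard hsub (Set.toFinite _)
    rw [← Nat.card_coe_set_eq, show Nat.card (V : Set ↥C) = 4 from hV] at this
    have h2' : ({1, u} : Set ↥C).ncard ≤ 2 := by
      refine (Set.ncard_insert_le _ _).trans ?_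
      rw [Set.ncard_singleton]
    omega
  have huv : Commute (u : G) v := by
    have h1 := hsq _ (mul_mem hv hu)
    push_cast at h1
    show (u : G) * v = v * u
    calc (u : G) * v = (u : G) * v * ((v : G) * u * ((v : G) * u)) := by rw [h1, mul_one]
      _ = (u : G) * ((v : G) * v) * u * ((v : G) * u) := by group
      _ = _ := by rw [hsq v hv, mul_one, hsq u hu, one_mul]
  obtain ⟨O, Q⟩ := D.exists_quad (hsq u hu) (fun e => hu1 (Subtype.ext e)) (hsq v hv)
    (fun e => hv1 (Subtype.ext e)) (fun e => hvu (Subtype.ext e)) huv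
  have hcu : Commute (u : G) (h * h) := by
    have : Commute (u : G) h := mem_centralizer_singleton_iff.1 u.2
    exact this.mul_right this
  have hcv : Commute (v : G) (h * h) := by
    have : Commute (v : G) h := mem_centralizer_singleton_iff.1 v.2
    exact this.mul_right this
  have hordq : orderOf h ∣ q - 1 := by
    rw [← D.card_H, ← Subgroup.orderOf_mk h hh]; exact orderOf_dvd_natCard _
  obtain ⟨j, hj, hjo⟩ : ∃ j, q - 1 = 2 * j ∧ Odd j := by
    have := D.h4a
    obtain ⟨i, hi⟩ := D.ha
    exact ⟨4 * i + 1, by omega, by rw [Nat.odd_iff]; omega⟩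
  have hodd : orderOf (h * h) ∣ j := orderOf_dvd_of_pow_eq_one (by
    rw [← pow_two, ← pow_mul, ← hj]; exact orderOf_dvd_iff_pow_eq_one.1 hordq)
  have hmem := Q.odd_mem (h * h) hcu hcv (Odd.of_dvd_nat hjo hodd)
  refine h2 (orderOf_eq_one_iff.1 (Nat.eq_one_of_dvd_coprimes D.coprime_a_q_sub
    (orderOf_dvd_of_pow_eq_one (Q.pow_a hmem)) ?_))
  exact hodd.trans ⟨2, by rw [hj, mul_comm]⟩

end ToriData

end CfsgLib.SmallRee
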