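import Cfsg.Agent.Lib.SmallRee.ToriResults
import Cfsg.Agent.Lib.Spectrum.Solvable

/-!
Solvable subgroups of a small Ree group lie in local normalisers.
-/

set_option autoImplicit false

namespace CfsgLib.SmallRee

open Subgroup

universe u

namespace ToriData

variable {G : Type u} [Group G] [Finite G] {q a r : ℕ} (D : ToriData G q a r)
include D

/-- A solvable subgroup of order more than two normalises an abelian subgroup of prime exponent of order
more than two. -/
theorem exists_abelian_normal (M : Subgroup G) (hM : Group.IsSolvable M) (h2 : 2 < Nat.card M) :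
    ∃ (E : Subgroup G) (s : ℕ), s.Prime ∧ 2 < Nat.card E ∧ M ≤ normalizer (E : Set G) ∧
      (∀ x ∈ E, ∀ y ∈ E, Commute x y) ∧ ∀ x ∈ E, x ^ s = 1 := by
  haveI := hM
  have out : ∀ (V : Subgroup M) (s : ℕ), s.Prime → V.Normal → 2 < Nat.card V →
      (∀ x ∈ V, ∀ y ∈ V, Commute x y) → (∀ x ∈ V, x ^ s = 1) →
      ∃ (E : Subgroup G) (s : ℕ), s.Prime ∧ 2 < Nat.card E ∧ M ≤ normalizer (E : Set G) ∧
        (∀ x ∈ E, ∀ y ∈ E, Commute x y) ∧ ∀ x ∈ E, x ^ s = 1 := by
    intro V s hs hV hc hcomm hexp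
    refine ⟨V.map M.subtype, s, hs, by rwa [card_map_of_injective M.subtype_injective], ?_, ?_, ?_⟩
    · rw [le_normalizer_iff]
      rintro g hg _ ⟨x, hx, rfl⟩
      exact ⟨⟨g, hg⟩ * x * ⟨g, hg⟩⁻¹, hV.conj_mem x hx ⟨g, hg⟩, rfl⟩
    · rintro _ ⟨x, hx, rfl⟩ _ ⟨y, hy, rfl⟩
      exact (hcomm x hx y hy).map M.subtype
    · rintro _ ⟨x, hx, rfl⟩
      rw [← map_pow, hexp x hx, map_one]
  have hMne : (⊤ : Subgroup M) ≠ ⊥ := fun e => by
    have h := congrArg (fun K : Subgroup M => Nat.card K) e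
    simp only [card_top, card_bot] at h
    omega
  obtain ⟨V, s, hs, hVn, hV1, -, hVc, hVe⟩ := CfsgLib.Spectrum.exists_normal_elementary_le (⊤ : Subgroup M) hMne
    (solvable_of_surjective (f := (Subgroup.topEquiv (G := M)).symm.toMonoidHom) (Subgroup.topEquiv (G := M)).symm.surjective)
  have hVcomm : ∀ x ∈ V, ∀ y ∈ V, Commute x y := fun x hx y hy =>
    congrArg Subtype.val (hVc.is_comm.comm (⟨x, hx⟩ : V) ⟨y, hy⟩)
  by_cases hV : 2 < Nat.card V
  · exact out V s hs hVn hV hVcomm hVe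
  have hV2 : Nat.card V = 2 := by
    have hpos : 0 < Nat.card V := Nat.card_pos
    have hne1 : Nat.card V ≠ 1 := fun e => hV1 (Subgroup.card_eq_one.1 e)
    omega
  have hVsq : ∀ z ∈ V, z * z = 1 := fun z hz => by
    rw [← pow_two, ← hV2]
    exact congrArg Subtype.val (pow_card_eq_one' (x := (⟨z, hz⟩ : V)))
  have hcentral : ∀ z ∈ V, ∀ g : M, Commute g z := by
    intro z hz g
    rcases eq_or_ne z 1 with rfl | hz1
    · exact Commute.one_right g
    have hz' : g * z * g⁻¹ ∈ V := hVn.conj_mem z hz g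
    obtain ⟨w, hw, huniq⟩ := (Nat.card_eq_two_iff' (1 : V)).1 hV2
    have e1 := huniq ⟨z, hz⟩ (fun e => hz1 (congrArg Subtype.val e))
    have e2 := huniq ⟨_, hz'⟩ (fun e => conj_ne_one g hz1 (congrArg Subtype.val e))
    exact mul_inv_eq_iff_eq_mul.1 (congrArg Subtype.val (e2.trans e1.symm))
  haveI := hVn
  haveI : Nontrivial (M ⧸ V) := Finite.one_lt_card_iff_nontrivial.1 (by
    have h := Subgroup.card_eq_card_quotient_mul_card_subgroup V
    rw [hV2] at h
    omega)
  haveI : Group.IsSolvable (M ⧸ V) :=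
    solvable_of_surjective (f := QuotientGroup.mk' V) (QuotientGroup.mk'_surjective V)
  obtain ⟨W, p, hp, hWn, hW1, -, hWc, hWe⟩ := CfsgLib.Spectrum.exists_normal_elementary_le (⊤ : Subgroup (M ⧸ V))
    (fun e => not_nontrivial_iff_subsingleton.2 (subsingleton_iff.1 (subsingleton_of_bot_eq_top e.symm)) ‹_›)
    (solvable_of_surjective (f := (Subgroup.topEquiv (G := M ⧸ V)).symm.toMonoidHom)
      (Subgroup.topEquiv (G := M ⧸ V)).symm.surjective)
  set W' := W.comap (QuotientGroup.mk' V)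
  haveI := hWn
  have hW'n : W'.Normal := hWn.comap _
  have hcomm1 : ∀ g ∈ W', ∀ h ∈ W', g * h * g⁻¹ * h⁻¹ ∈ V := by
    intro g hg h hh
    rw [← QuotientGroup.eq_one_iff]
    have := congrArg Subtype.val (hWc.is_comm.comm (⟨_, hg⟩ : W) ⟨_, hh⟩)
    show QuotientGroup.mk' V (g * h * g⁻¹ * h⁻¹) = 1
    rw [map_mul, map_mul, map_mul, map_inv, map_inv]
    rw [show QuotientGroup.mk' V g * QuotientGroup.mk' V h = QuotientGroup.mk' V h * QuotientGroup.mk' V g from this]
    group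
  have hpow : ∀ g ∈ W', g ^ p ∈ V := fun g hg => by
    rw [← QuotientGroup.eq_one_iff]
    exact hWe _ hg
  obtain ⟨g₀, hg₀, hg₀V⟩ : ∃ g ∈ W', g ∉ V := by
    by_contra h
    push Not at h
    refine hW1 ((Subgroup.eq_bot_iff_forall W).2 fun x hx => ?_)
    obtain ⟨g, rfl⟩ := QuotientGroup.mk'_surjective V x
    exact (QuotientGroup.eq_one_iff g).2 (h g hx)
  have hVW : V ≤ W' := fun x hx => by
    show QuotientGroup.mk' V x ∈ W
    rw [QuotientGroup.mk'_apply, (QuotientGroup.eq_one_iff x).2 hx]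
    exact one_mem W
  rcases hp.eq_two_or_odd with rfl | hpo
  · have hsq : ∀ g ∈ W', g * g = 1 := fun g hg => by
      have h4 : g ^ 4 = 1 := by
        rw [show 4 = 2 * 2 from rfl, pow_mul, pow_two]; exact hVsq _ (hpow g hg)
      obtain ⟨k, -, hk⟩ := (Nat.dvd_prime_pow Nat.prime_two).1 (show orderOf g ∣ 2 ^ 2 from orderOf_dvd_of_pow_eq_one h4)
      exact Subtype.ext (D.sq_of_two_pow ((Subgroup.orderOf_coe g).trans hk))
    refine out W' 2 Nat.prime_two hW'n ?_ (fun x hx y hy => ?_) (fun x hx => (pow_two x).trans (hsq x hx))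
    · have hlt : V < W' := SetLike.lt_iff_le_and_exists.2 ⟨hVW, g₀, hg₀, hg₀V⟩
      rw [← hV2]
      by_contra hle
      exact hlt.ne (eq_of_le_of_card_ge hVW (by omega))
    · show x * y = y * x
      calc x * y = (x * y) * ((y * x) * (y * x)) := by rw [hsq _ (mul_mem hy hx), mul_one]
        _ = x * (y * y) * x * (y * x) := by group
        _ = y * x := by rw [hsq y hy, mul_one, hsq x hx, one_mul]
  · have hab : ∀ g ∈ W', ∀ h ∈ W', Commute g h := by
      intro g hg h hh
      set z := g * h * g⁻¹ * h⁻¹ with hz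
      have hzV := hcomm1 g hg h hh
      have hgh : g * h * g⁻¹ = z * h := by rw [hz]; group
      have hiter : ∀ j : ℕ, g ^ j * h * (g ^ j)⁻¹ = z ^ j * h := by
        intro j
        induction j with
        | zero => simp
        | succ j ih =>
          have hc : Commute g (z ^ j) := hcentral _ (pow_mem hzV j) g
          calc g ^ (j + 1) * h * (g ^ (j + 1))⁻¹ = g * (g ^ j * h * (g ^ j)⁻¹) * g⁻¹ := by
                rw [pow_succ' g j]; group
            _ = g * (z ^ j * h) * g⁻¹ := by rw [ih]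
            _ = z ^ j * (g * h * g⁻¹) := by rw [← mul_assoc g, hc.eq]; group
            _ = z ^ (j + 1) * h := by rw [hgh, pow_succ z j, mul_assoc (z ^ j) z h]
      have h1 := hiter p
      rw [← (hcentral _ (hpow g hg) h).eq, mul_inv_cancel_right, right_eq_mul] at h1
      have hz1 : z = 1 := by
        obtain ⟨j, rfl⟩ : Odd p := Nat.odd_iff.2 hpo
        rwa [pow_succ, pow_mul, pow_two, hVsq z hzV, one_pow, one_mul] at h1
      exact mul_inv_eq_iff_eq_mul.1 (mul_inv_eq_one.1 hz1)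
    let E : Subgroup M :=
      { carrier := {g | g ∈ W' ∧ g ^ p = 1}
        one_mem' := ⟨one_mem _, one_pow p⟩
        mul_mem' := fun {x y} hx hy => ⟨mul_mem hx.1 hy.1, by rw [(hab x hx.1 y hy.1).mul_pow, hx.2, hy.2, one_mul]⟩
        inv_mem' := fun {x} hx => ⟨inv_mem hx.1, by rw [inv_pow, hx.2, inv_one]⟩ }
    refine out E p hp ⟨fun x hx g => ⟨hW'n.conj_mem x hx.1 g, by rw [conj_pow, hx.2, mul_one, mul_inv_cancel]⟩⟩ ?_
      (fun x hx y hy => hab x hx.1 y hy.1) (fun x hx => hx.2)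
    have hmem : g₀ * g₀ ∈ E := ⟨mul_mem hg₀ hg₀, by
      rw [(Commute.refl g₀).mul_pow]; exact hVsq _ (hpow g₀ hg₀)⟩
    have hne : g₀ * g₀ ≠ 1 := fun e => hg₀V (by
      obtain ⟨j, rfl⟩ : Odd p := Nat.odd_iff.2 hpo
      have h := hpow g₀ hg₀
      rwa [pow_succ, pow_mul, pow_two, e, one_pow, one_mul] at h)
    haveI := Fact.mk hp
    have ho : orderOf (g₀ * g₀) = p := orderOf_eq_prime hmem.2 hne
    have := Nat.le_of_dvd Nat.card_pos (show p ∣ Nat.card E by
      rw [← ho, ← Subgroup.orderOf_mk _ hmem]; exact _root_.orderOf_dvd_natCard _)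
    have := hp.two_le
    omega

/-- Solvable subgroups lie in local normalisers. -/
theorem solvable_local (S : Subgroup G) (hS : Group.IsSolvable S) :
    ∃ A : Subgroup G, S ≤ normalizer (A : Set G) ∧
      ((∃ P : Sylow 2 G, A = P) ∨ (∃ P : Sylow 3 G, A = P) ∨
       (IsCyclic A ∧ (Nat.card A = (q - 1) / 2 ∨ Nat.card A = (q + 1) / 4 ∨
          Nat.card A = q - r + 1 ∨ Nat.card A = q + r + 1))) := by
  haveI := Fact.mk Nat.prime_two
  by_cases h2 : Nat.card S ≤ 2
  · obtain ⟨P, hP⟩ : ∃ P : Sylow 2 G, S ≤ P := by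
      refine (IsPGroup.exists_le_sylow (p := 2) ?_)
      have hpos : 0 < Nat.card S := Nat.card_pos
      rcases (show Nat.card S = 1 ∨ Nat.card S = 2 by omega) with e | e
      · exact IsPGroup.of_card (n := 0) e
      · exact IsPGroup.of_card (n := 1) e
    exact ⟨P, hP.trans le_normalizer, Or.inl ⟨P, rfl⟩⟩
  obtain ⟨E, s, hs, hEc, hSE, hEcomm, hEexp⟩ := D.exists_abelian_normal S hS (by omega)
  obtain ⟨x, hx, hx1⟩ : ∃ x ∈ E, x ≠ 1 := by
    by_contra h
    push Not at h
    rw [(Subgroup.eq_bot_iff_forall E).2 h, card_bot] at hEc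
    omega
  have hxo : orderOf x = s := haveI := Fact.mk hs; orderOf_eq_prime (hEexp x hx) hx1
  obtain ⟨v, O, Q⟩ := D.exists_quad₀
  -- reduction to a conjugate
  have out : ∀ (T N A : Subgroup G) (k : G), (∀ y ∈ E, k * y * k⁻¹ ∈ T) →
      (∀ g : G, g * (k * x * k⁻¹) * g⁻¹ ∈ T → g ∈ N) → N ≤ normalizer (A : Set G) →
      S ≤ normalizer (A.map (MulAut.conj k⁻¹).toMonoidHom : Set G) := by
    intro T N A k hT hti hN
    rw [le_normalizer_iff]
    intro g hg y hy
    rw [mem_map_conj, inv_inv] at hy ⊢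
    have hgN : k * g * k⁻¹ ∈ N := hti _ (by
      rw [show k * g * k⁻¹ * (k * x * k⁻¹) * (k * g * k⁻¹)⁻¹ = k * (g * x * g⁻¹) * k⁻¹ by group]
      exact hT _ ((mem_normalizer_iff.1 (hSE hg) x).1 hx))
    have := (mem_normalizer_iff.1 (hN hgN) _).1 hy
    rwa [show k * g * k⁻¹ * (k * y * k⁻¹) * (k * g * k⁻¹)⁻¹ = k * (g * y * g⁻¹) * k⁻¹ by group] at this
  have hconjc : ∀ (k : G) (y : G), y ∈ E → Commute (k * y * k⁻¹) (k * x * k⁻¹) :=
    fun k y hy => commute_conj k (hEcomm y hy x hx)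
  have hcyc : ∀ (A : Subgroup G) (k : G), IsCyclic A → IsCyclic (A.map (MulAut.conj k).toMonoidHom) :=
    fun A k hA => isCyclic_of_surjective _ (A.equivMapOfInjective _ (MulAut.conj k).injective).surjective
  rcases eq_or_ne s 2 with rfl | hs2
  · -- elementary abelian two-groups
    obtain ⟨P, hP⟩ := (show IsPGroup 2 E from fun y => ⟨1, Subtype.ext (by simpa using hEexp y y.2)⟩).exists_le_sylow
    have hd := card_dvd_of_le hP
    rw [show Nat.card (P : Subgroup G) = 8 from (D.sylow_two P).1] at hd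
    obtain ⟨i, hi, hE⟩ := (Nat.dvd_prime_pow Nat.prime_two).1 (show Nat.card E ∣ 2 ^ 3 from hd)
    interval_cases i
    · simp only [pow_zero] at hE; omega
    · simp only [pow_one] at hE; omega
    · -- a four-group
      norm_num at hE
      have hsq : ∀ y ∈ E, y * y = 1 := fun y hy => by rw [← pow_two]; exact hEexp y hy
      obtain ⟨y, hy, hy1, hyx⟩ : ∃ y ∈ E, y ≠ 1 ∧ y ≠ x := by
        by_contra h
        push Not at h
        have hsub : (E : Set G) ⊆ {1, x} := fun y hy => by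
          rcases eq_or_ne y 1 with e | e
          · exact Or.inl e
          · exact Or.inr (h y hy e)
        have := Set.ncard_le_ncard hsub (Set.toFinite _)
        rw [← Nat.card_coe_set_eq, show Nat.card (E : Set G) = 4 from hE] at this
        have h2 : ({1, x} : Set G).ncard ≤ 2 := by
          refine (Set.ncard_insert_le _ _).trans ?_
          rw [Set.ncard_singleton]
        omega
      obtain ⟨O', Q'⟩ := D.exists_quad (hsq x hx) hx1 (hsq y hy) hy1 hyx (hEcomm x hx y hy)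
      have hset : (E : Set G) = {1, x, y, x * y} := by
        refine (Set.eq_of_subset_of_ncard_le ?_ ?_ (Set.toFinite _)).symm
        · intro z hz
          simp only [Set.mem_insert_iff, Set.mem_singleton_iff] at hz
          rcases hz with rfl | rfl | rfl | rfl
          exacts [one_mem E, hx, hy, mul_mem hx hy]
        · rw [← Nat.card_coe_set_eq, show Nat.card (E : Set G) = 4 from hE,
            Set.ncard_insert_of_notMem (by simp [Q'.u_ne.symm, Q'.v_ne.symm, Q'.uv_ne.symm]),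
            Set.ncard_eq_three.2 ⟨x, y, x * y, Q'.v_ne_u.symm, Q'.uv_ne_u.symm, Q'.uv_ne_v.symm, rfl⟩]
      refine ⟨O', fun g hg => Q'.normalizer_le D ?_, Or.inr (Or.inr ⟨Q'.cyclic, Or.inr (Or.inl (by rw [D.a_eq.1, Q'.card_O]))⟩)⟩
      rw [mem_normalizer_iff_conj_image_eq]
      refine Set.eq_of_subset_of_ncard_le ?_ (Set.ncard_image_of_injective _ (MulAut.conj g).injective).ge (Set.toFinite _)
      rintro _ ⟨z, hz, rfl⟩
      have hzE : z ∈ E := by
        show z ∈ (E : Set G)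
        rw [hset]; exact Or.inr hz
      have h' : g * z * g⁻¹ ∈ (E : Set G) := (mem_normalizer_iff.1 (hSE hg) z).1 hzE
      rw [hset] at h'
      exact h'.resolve_left (conj_ne_one g (Q'.triple_spec hz).2)
    · have hEP : E = (P : Subgroup G) := eq_of_le_of_card_ge hP (by
        rw [show Nat.card (P : Subgroup G) = 8 from (D.sylow_two P).1, hE]; norm_num)
      exact ⟨P, hEP ▸ hSE, Or.inl ⟨P, rfl⟩⟩
  have hso : Odd s := hs.odd_of_ne_two hs2
  rcases eq_or_ne s 3 with rfl | hs3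
  · obtain ⟨k, hk⟩ := D.conj_into_U (k := 1) (y := x) (by rw [hxo]; rfl)
    obtain ⟨P, hP⟩ := D.U_sylow
    refine ⟨D.U.map (MulAut.conj k⁻¹).toMonoidHom, ?_, Or.inr (Or.inl ⟨k⁻¹ • P, ?_⟩)⟩
    · refine out D.U (normalizer (D.U : Set G)) D.U k (fun y hy => ?_) (fun g hg => D.U_ti _ hk (conj_ne_one k hx1) g hg) le_rfl
      obtain ⟨i, -, hi⟩ := (Nat.dvd_prime_pow Nat.prime_three).1 (show orderOf (k * y * k⁻¹) ∣ 3 ^ 1 by
        rw [orderOf_conj]; exact orderOf_dvd_of_pow_eq_one (hEexp y hy))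
      refine D.mem_U_of_mem_NU (D.U_ti _ hk (conj_ne_one k hx1) _ ?_) hi
      rw [(hconjc k y hy).eq, mul_inv_cancel_right]
      exact hk
    · rw [Sylow.coe_subgroup_smul, hP]; rfl
  have hs7 : 2 < s := by have := hs.two_le; omega
  rcases D.order_cases Q hx1 with e | e | ⟨e2, ed, k, hk⟩ | ⟨e2, ed, k, hk⟩ | e
  · omega
  · rw [hxo] at e
    exact absurd ((Nat.prime_dvd_prime_iff_eq Nat.prime_three hs).1 e).symm hs3
  · obtain ⟨h, hh, hH⟩ := D.H_gen
    obtain ⟨hodd, hhalf⟩ := D.half_odd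
    have hk2 : k * x * k⁻¹ * (k * x * k⁻¹) ≠ 1 := D.sq_ne_one_of_odd (by rw [orderOf_conj, hxo]; exact hso) (conj_ne_one k hx1)
    have hA : zpowers (h ^ 2) ≤ D.H := zpowers_le.2 (pow_mem (hH ▸ mem_zpowers h) 2)
    refine ⟨(zpowers (h ^ 2)).map (MulAut.conj k⁻¹).toMonoidHom,
      out D.H (normalizer (D.H : Set G)) _ k (fun y hy => ?_) (fun g hg => D.H_ti _ hk hk2 g hg) ?_,
      Or.inr (Or.inr ⟨hcyc _ _ inferInstance, Or.inl ?_⟩)⟩
    · rw [← D.centralizer_torus hk hk2, mem_centralizer_singleton_iff]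
      exact (hconjc k y hy).eq
    · rw [le_normalizer_iff]
      intro g hg y hy
      have hmap : (zpowers (h ^ 2)).map (MulAut.conj g).toMonoidHom = zpowers (h ^ 2) :=
        eq_of_card_eq_cyclic D.H_cyclic (by
          rintro _ ⟨z, hz, rfl⟩
          exact (mem_normalizer_iff.1 hg z).1 (hA hz)) hA (card_map_conj g _)
      exact hmap ▸ mem_map_of_mem (MulAut.conj g).toMonoidHom hy
    · rw [card_map_conj, Nat.card_zpowers, orderOf_pow, hh, Nat.gcd_eq_right ⟨(q - 1) / 2, hhalf.symm⟩]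
  · have hO : ∀ y ∈ E, k * y * k⁻¹ ∈ Wgrp D.t v O → k * y * k⁻¹ ∈ O := by
      intro y hy hW
      obtain ⟨w, hw, z, hz, ez⟩ := (Q.W_structure D).2 _ hW
      rcases hw with rfl | hw
      · rw [ez, one_mul]; exact hz
      · exfalso
        have hd : orderOf (k * y * k⁻¹) ∣ s := by rw [orderOf_conj]; exact orderOf_dvd_of_pow_eq_one (hEexp y hy)
        rw [ez, D.orderOf_mul_W Q hw hz] at hd
        exact absurd ((dvd_mul_right 2 _).trans hd) (Nat.two_dvd_ne_zero.2 (Nat.odd_iff.1 hso))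
    have hkO := hO x hx hk
    refine ⟨O.map (MulAut.conj k⁻¹).toMonoidHom,
      out O (normalizer (triple D.t v)) O k (fun y hy => hO y hy ?_)
        (fun g hg => Q.mem_normalizer_of_conj D hkO (conj_ne_one k hx1) hg) (Q.normalizer_le D),
      Or.inr (Or.inr ⟨hcyc _ _ Q.cyclic, Or.inr (Or.inl (by rw [card_map_conj, Q.card_O, D.a_eq.1]))⟩)⟩
    rw [← Q.centralizer_eq D hkO (conj_ne_one k hx1), mem_centralizer_singleton_iff]
    exact (hconjc k y hy).eq
  · obtain ⟨T₁, T₂, h₁, h₂, hrq, hprod, hcov⟩ := D.exists_bigTori Q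
    have hr := D.r_lt
    have fin : ∀ (T : Subgroup G) (c : ℕ), BigTorus T c → (∃ k : G, k * x * k⁻¹ ∈ T) →
        ∃ A : Subgroup G, S ≤ normalizer (A : Set G) ∧ IsCyclic A ∧ Nat.card A = c := by
      rintro T c hT ⟨k, hk⟩
      refine ⟨T.map (MulAut.conj k⁻¹).toMonoidHom,
        out T (normalizer (T : Set G)) T k (fun y hy => ?_) (fun g hg => ti_of_cent hT.cent hk (conj_ne_one k hx1) hg) le_rfl,
        hcyc _ _ hT.cyclic, by rw [card_map_conj, hT.card_T]⟩
      rw [← hT.cent _ hk (conj_ne_one k hx1), mem_centralizer_singleton_iff]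
      exact (hconjc k y hy).eq
    rcases hcov x hx1 e with h | h
    · obtain ⟨A, hA, hAc, hAcard⟩ := fin T₁ _ h₁ h
      exact ⟨A, hA, Or.inr (Or.inr ⟨hAc, Or.inr (Or.inr (Or.inl (by omega)))⟩)⟩
    · obtain ⟨A, hA, hAc, hAcard⟩ := fin T₂ _ h₂ h
      exact ⟨A, hA, Or.inr (Or.inr ⟨hAc, Or.inr (Or.inr (Or.inr (by omega)))⟩)⟩

end ToriData

end CfsgLib.SmallRee
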